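import Groth.Agent.KRR3.Exist
import Mathlib.RingTheory.MvPolynomial.Basic
import Mathlib.RingTheory.Localization.FractionRing
import Mathlib.RingTheory.Flat.Localization
import Mathlib.LinearAlgebra.Lagrange
import Mathlib.Algebra.Ring.GeomSum

/-! Adams–Riemann–Roch for the elementary projection. -/

set_option autoImplicit false
set_option linter.style.haveILetI false

universe u

open scoped TensorProduct

namespace Groth.Agent.KRR3

open LambdaRing Finset Groth.Agent.Lambda37

section Residue

variable {A B : Type*} [CommRing A] [CommRing B] {m : ℕ}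

/-- `∏ (1 - u_b t)`. -/
noncomputable def denSeries (u : Fin m → A) : PowerSeries A := ∏ b, (1 - PowerSeries.C (u b) * PowerSeries.X)

theorem constantCoeff_denSeries (u : Fin m → A) : PowerSeries.constantCoeff (denSeries u) = 1 := by
  simp [denSeries, map_prod]

/-- The complete symmetric expressions. -/
noncomputable def hsym (u : Fin m → A) (i : ℕ) : A := PowerSeries.coeff i ((denSeries u).invOfUnit 1)

theorem eq_hsym {u : Fin m → A} {s : PowerSeries A} (h : s * denSeries u = 1) (i : ℕ) :
    PowerSeries.coeff i s = hsym u i := by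
  rw [hsym, left_inv_eq_right_inv h (PowerSeries.mul_invOfUnit _ 1 (constantCoeff_denSeries u))]

theorem map_hsym (θ : A →+* B) (u : Fin m → A) (i : ℕ) : θ (hsym u i) = hsym (fun b => θ (u b)) i := by
  rw [← eq_hsym (s := PowerSeries.map θ ((denSeries u).invOfUnit 1)) ?_ i, PowerSeries.coeff_map]
  · rfl
  have h : PowerSeries.map θ (denSeries u) = denSeries fun b => θ (u b) := by simp [denSeries, map_prod]
  rw [← h, ← map_mul, PowerSeries.invOfUnit_mul _ 1 (constantCoeff_denSeries u), map_one]

/-- The functional `T^i ↦ h_i(u)`. -/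
noncomputable def resFun (u : Fin m → A) : Polynomial A →ₗ[A] A :=
  Polynomial.lsum fun i => (LinearMap.id : A →ₗ[A] A).smulRight (hsym u i)

theorem resFun_monomial (u : Fin m → A) (i : ℕ) (a : A) : resFun u (Polynomial.monomial i a) = a * hsym u i := by
  simp [resFun, Polynomial.sum_monomial_index]

theorem map_resFun (θ : A →+* B) (u : Fin m → A) (p : Polynomial A) :
    θ (resFun u p) = resFun (fun b => θ (u b)) (p.map θ) := by
  induction p using Polynomial.induction_on' with
  | add p q hp hq => simp only [map_add, Polynomial.map_add, hp, hq]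
  | monomial i a => rw [Polynomial.map_monomial, resFun_monomial, resFun_monomial, map_mul, map_hsym]

/-- The relation polynomial. -/
noncomputable def relPoly (u : Fin m → A) : Polynomial A := ∏ b, (Polynomial.X - Polynomial.C (u b))

theorem map_relPoly (θ : A →+* B) (u : Fin m → A) : (relPoly u).map θ = relPoly fun b => θ (u b) := by
  simp [relPoly, Polynomial.map_prod]

theorem eval_relPoly (u : Fin m → A) (k : Fin m) : (relPoly u).eval (u k) = 0 := by
  rw [relPoly, Polynomial.eval_prod]
  exact Finset.prod_eq_zero (Finset.mem_univ k) (by simp)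

/-- The residue weights. -/
noncomputable def resWeight {F : Type*} [Field F] (u : Fin m → F) (k : Fin m) : F :=
  (∏ b ∈ univ.erase k, (1 - u b / u k))⁻¹

theorem hsym_eq_sum {F : Type*} [Field F] {u : Fin m → F} (hm : 0 < m) (hu : Function.Injective u) (h0 : ∀ b, u b ≠ 0)
    (i : ℕ) : hsym u i = ∑ k, resWeight u k * u k ^ i := by
  classical
  let s : PowerSeries F := PowerSeries.mk fun i => ∑ k, resWeight u k * u k ^ i
  have hs : s * denSeries u = 1 := by
    have h1 : ∀ k, (PowerSeries.mk fun i => u k ^ i) * (1 - PowerSeries.C (u k) * PowerSeries.X) = 1 := by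
      intro k
      ext n
      rcases n with _ | n
      · simp
      · rw [mul_sub, mul_one, map_sub, PowerSeries.coeff_one, if_neg n.succ_ne_zero, mul_left_comm,
          PowerSeries.coeff_C_mul, PowerSeries.coeff_succ_mul_X, PowerSeries.coeff_mk, PowerSeries.coeff_mk]
        ring
    have h2 : s = ∑ k, PowerSeries.C (resWeight u k) * PowerSeries.mk (fun i => u k ^ i) := by
      ext n; simp [s]
    have h3 : (∑ k, Polynomial.C (resWeight u k) * ∏ b ∈ univ.erase k, (1 - Polynomial.C (u b) * Polynomial.X)) = 1 := by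
      refine Polynomial.eq_of_degree_sub_lt_of_eval_index_eq (s := (univ : Finset (Fin m))) (v := fun k => (u k)⁻¹)
        (fun a _ b _ h => hu (inv_injective h)) ?_ fun k _ => ?_
      · refine lt_of_le_of_lt (Polynomial.degree_sub_le _ _) (max_lt ?_ ?_)
        · refine lt_of_le_of_lt (Polynomial.degree_sum_le _ _) ((Finset.sup_lt_iff (WithBot.bot_lt_coe _)).2 fun k _ => ?_)
          refine lt_of_le_of_lt (Polynomial.degree_mul_le _ _) ?_
          refine lt_of_le_of_lt (add_le_add Polynomial.degree_C_le (Polynomial.degree_prod_le _ _)) ?_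
          rw [zero_add]
          refine lt_of_le_of_lt (Finset.sum_le_sum (g := fun _ => (1 : WithBot ℕ)) fun b _ => ?_) ?_
          · refine (Polynomial.degree_sub_le _ _).trans (max_le ((Polynomial.degree_one_le (R := F)).trans zero_le_one) ?_)
            exact (Polynomial.degree_mul_le _ _).trans (by
              simpa using add_le_add (Polynomial.degree_C_le (a := u b)) (Polynomial.degree_X_le (R := F)))
          · rw [Finset.sum_const, Finset.card_erase_of_mem (Finset.mem_univ k), Finset.card_univ, Fintype.card_fin,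
              nsmul_one]
            exact_mod_cast Nat.sub_lt hm one_pos
        · refine lt_of_le_of_lt Polynomial.degree_one_le ?_
          rw [Finset.card_univ, Fintype.card_fin]; exact_mod_cast hm
      · rw [Polynomial.eval_finsetSum, Polynomial.eval_one, Finset.sum_eq_single k]
        · rw [Polynomial.eval_mul, Polynomial.eval_C, Polynomial.eval_prod, resWeight]
          simp only [Polynomial.eval_sub, Polynomial.eval_one, Polynomial.eval_mul, Polynomial.eval_C, Polynomial.eval_X,
            ← div_eq_mul_inv]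
          refine inv_mul_cancel₀ (Finset.prod_ne_zero_iff.2 fun b hb => ?_)
          rw [sub_ne_zero, ne_comm, Ne, div_eq_one_iff_eq (h0 k)]
          exact fun h => (Finset.mem_erase.1 hb).1 (hu h)
        · intro l _ hlk
          rw [Polynomial.eval_mul, Polynomial.eval_prod, Finset.prod_eq_zero (i := k) (Finset.mem_erase.2 ⟨hlk.symm, Finset.mem_univ _⟩),
            mul_zero]
          simp [mul_inv_cancel₀ (h0 k)]
        · simp
    have h4 := congrArg (Polynomial.coeToPowerSeries.ringHom (R := F)) h3
    rw [map_one, map_sum] at h4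
    rw [h2, Finset.sum_mul, ← h4]
    refine Finset.sum_congr rfl fun k _ => ?_
    rw [denSeries, ← Finset.mul_prod_erase univ _ (Finset.mem_univ k), mul_assoc, ← mul_assoc (PowerSeries.mk _), h1,
      one_mul, map_mul, map_prod]
    simp
  rw [← eq_hsym hs, PowerSeries.coeff_mk]

theorem resFun_field {F : Type*} [Field F] {u : Fin m → F} (hm : 0 < m) (hu : Function.Injective u) (h0 : ∀ b, u b ≠ 0)
    (p : Polynomial F) : resFun u p = ∑ k, resWeight u k * p.eval (u k) := by
  induction p using Polynomial.induction_on' with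
  | add p q hp hq => simp only [map_add, hp, hq, Polynomial.eval_add, mul_add, Finset.sum_add_distrib]
  | monomial i a =>
    rw [resFun_monomial, hsym_eq_sum hm hu h0, Finset.mul_sum]
    exact Finset.sum_congr rfl fun k _ => by rw [Polynomial.eval_monomial]; ring

/-- The generic field. -/
abbrev GenField (m : ℕ) : Type := FractionRing (MvPolynomial (Fin m) ℤ)

/-- The generic roots. -/
noncomputable def genU (m : ℕ) (b : Fin m) : GenField m := algebraMap (MvPolynomial (Fin m) ℤ) _ (MvPolynomial.X b)

theorem genU_pow_injective (m : ℕ) {j : ℕ} (hj : 1 ≤ j) : Function.Injective fun b => genU m b ^ j := by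
  classical
  intro a b h
  simp only [genU, ← map_pow] at h
  have h2 := congrArg (MvPolynomial.eval fun c : Fin m => if c = a then (2 : ℤ) else 1)
    (IsFractionRing.injective (MvPolynomial (Fin m) ℤ) (GenField m) h)
  simp only [map_pow, MvPolynomial.eval_X, if_pos] at h2
  by_contra hab
  rw [if_neg (fun hh : b = a => hab hh.symm), one_pow] at h2
  have : (1 : ℤ) < 2 ^ j := one_lt_pow₀ (by norm_num) (by omega)
  omega

theorem genU_injective (m : ℕ) : Function.Injective (genU m) := fun a b h =>
  genU_pow_injective m le_rfl (by simpa using h)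

theorem genU_ne_zero (m : ℕ) (b : Fin m) : genU m b ≠ 0 :=
  (map_ne_zero_iff _ (IsFractionRing.injective (MvPolynomial (Fin m) ℤ) (GenField m))).2 (MvPolynomial.X_ne_zero b)

theorem resFun_relPoly_mul (hm : 0 < m) (u : Fin m → A) (q : Polynomial A) : resFun u (relPoly u * q) = 0 := by
  induction q using Polynomial.induction_on' with
  | add p q hp hq => rw [mul_add, map_add, hp, hq, add_zero]
  | monomial n a =>
    have hX : resFun (MvPolynomial.X : Fin m → MvPolynomial (Fin m) ℤ)
        (relPoly MvPolynomial.X * Polynomial.X ^ n) = 0 := by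
      apply IsFractionRing.injective (MvPolynomial (Fin m) ℤ) (GenField m)
      rw [map_resFun, map_zero, show (fun b => algebraMap (MvPolynomial (Fin m) ℤ) (GenField m) (MvPolynomial.X b)) = genU m from rfl,
        resFun_field hm (genU_injective m) (genU_ne_zero m)]
      refine Finset.sum_eq_zero fun k _ => ?_
      rw [Polynomial.map_mul, map_relPoly, show (fun b => algebraMap (MvPolynomial (Fin m) ℤ) (GenField m) (MvPolynomial.X b)) = genU m from rfl,
        Polynomial.eval_mul, eval_relPoly, zero_mul, mul_zero]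
    rw [← Polynomial.C_mul_X_pow_eq_monomial, ← mul_assoc, mul_comm (relPoly u), mul_assoc, ← Polynomial.smul_eq_C_mul,
      map_smul]
    have h2 := congrArg (MvPolynomial.eval₂Hom (Int.castRingHom A) u) hX
    rw [map_resFun, map_zero, Polynomial.map_mul, map_relPoly, Polynomial.map_pow, Polynomial.map_X] at h2
    simp only [MvPolynomial.eval₂Hom_X'] at h2
    rw [h2, smul_zero]

/-- The cannibalistic class, cleared of denominators. -/
noncomputable def thPoly (j : ℕ) (u : Fin m → A) : Polynomial A :=
  ∏ b, ∑ k ∈ range j, Polynomial.C (u b) ^ k * Polynomial.X ^ (j - 1 - k)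

theorem map_thPoly (θ : A →+* B) (j : ℕ) (u : Fin m → A) : (thPoly j u).map θ = thPoly j fun b => θ (u b) := by
  simp [thPoly, Polynomial.map_prod, Polynomial.map_sum]

theorem exists_cofactor (j : ℕ) (u : Fin m → A) :
    ∃ Z : Polynomial A, relPoly u ∣ Polynomial.C (∏ k, (thPoly j u).eval (u k)) - thPoly j u * Z := by
  classical
  suffices h : ∀ t : Finset (Fin m), ∃ Z : Polynomial A,
      (∏ k ∈ t, (Polynomial.X - Polynomial.C (u k))) ∣ Polynomial.C (∏ k ∈ t, (thPoly j u).eval (u k)) - thPoly j u * Z from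
    h univ
  intro t
  induction t using Finset.induction with
  | empty => exact ⟨0, by simp⟩
  | insert a t ha ih =>
    obtain ⟨Z, q, hq⟩ := ih
    obtain ⟨c, hc⟩ := Polynomial.X_sub_C_dvd_sub_C_eval (a := u a) (p := thPoly j u)
    refine ⟨Polynomial.C ((thPoly j u).eval (u a)) * Z + (∏ k ∈ t, (Polynomial.X - Polynomial.C (u k))) * q, -c * q, ?_⟩
    rw [Finset.prod_insert ha, Finset.prod_insert ha, map_mul]
    linear_combination Polynomial.C ((thPoly j u).eval (u a)) * hq - q * (∏ k ∈ t, (Polynomial.X - Polynomial.C (u k))) * hc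

theorem residue_identity (hm : 0 < m) {j : ℕ} (hj : 1 ≤ j) (u : Fin m → A) (a : ℕ) :
    ∃ Z : Polynomial A, relPoly u ∣ Polynomial.C (∏ k, (thPoly j u).eval (u k)) - thPoly j u * Z ∧
      resFun u ((j : Polynomial A) * Z * Polynomial.X ^ ((j - 1) * m + a * j)) =
        (∏ k, (thPoly j u).eval (u k)) * hsym (fun b => u b ^ j) a := by
  classical
  obtain ⟨Z, hZ⟩ := exists_cofactor j (MvPolynomial.X : Fin m → MvPolynomial (Fin m) ℤ)
  have hid : resFun MvPolynomial.X ((j : Polynomial (MvPolynomial (Fin m) ℤ)) * Z * Polynomial.X ^ ((j - 1) * m + a * j)) =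
      (∏ k, (thPoly j (MvPolynomial.X : Fin m → MvPolynomial (Fin m) ℤ)).eval (MvPolynomial.X k)) *
        hsym (fun b => (MvPolynomial.X b : MvPolynomial (Fin m) ℤ) ^ j) a := by
    apply IsFractionRing.injective (MvPolynomial (Fin m) ℤ) (GenField m)
    set al := algebraMap (MvPolynomial (Fin m) ℤ) (GenField m)
    have hinj : Function.Injective (genU m) := genU_injective m
    have h0 := genU_ne_zero m
    have hev : ∀ (p : Polynomial (MvPolynomial (Fin m) ℤ)) (k : Fin m), al (p.eval (MvPolynomial.X k)) = (p.map al).eval (genU m k) :=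
      fun p k => by rw [genU, Polynomial.eval_map_apply]
    rw [map_resFun, map_mul, map_hsym, map_prod, Finset.prod_congr rfl fun k _ => hev _ k]
    rw [show (fun b : Fin m => al (MvPolynomial.X b ^ j)) = fun b => genU m b ^ j from funext fun b => map_pow al _ _,
      show (fun b : Fin m => al (MvPolynomial.X b)) = genU m from rfl, resFun_field hm hinj h0,
      hsym_eq_sum hm (genU_pow_injective m hj) (fun b => pow_ne_zero _ (h0 b)), Finset.mul_sum]
    refine Finset.sum_congr rfl fun k _ => ?_
    obtain ⟨c, hc⟩ := hZ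
    have hZk := congrArg (fun p => (p.map al).eval (genU m k)) hc
    simp only [Polynomial.map_sub, Polynomial.map_mul, Polynomial.map_C, map_relPoly, Polynomial.eval_sub,
      Polynomial.eval_mul, Polynomial.eval_C] at hZk
    rw [show (fun b : Fin m => al (MvPolynomial.X b)) = genU m from rfl, eval_relPoly, zero_mul, map_prod,
      Finset.prod_congr rfl fun k _ => hev _ k, sub_eq_zero] at hZk
    rw [hZk, map_thPoly, show (fun b : Fin m => al (MvPolynomial.X b)) = genU m from rfl]
    simp only [Polynomial.map_mul, Polynomial.map_pow, Polynomial.map_natCast, Polynomial.map_X, Polynomial.eval_mul,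
      Polynomial.eval_natCast, Polynomial.eval_pow, Polynomial.eval_X]
    set x := genU m k with hxdef
    have key : resWeight (genU m) k * (j : GenField m) * x ^ ((j - 1) * m) =
        (thPoly j (genU m)).eval x * resWeight (fun b => genU m b ^ j) k := by
      have hx : x ≠ 0 := h0 k
      have hne : ∀ b ∈ univ.erase k, x ^ j - genU m b ^ j ≠ 0 := fun b hb => sub_ne_zero.2 fun h =>
        (Finset.mem_erase.1 hb).1 (genU_pow_injective m hj h.symm)
      rw [thPoly, Polynomial.eval_prod, ← Finset.mul_prod_erase univ _ (Finset.mem_univ k)]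
      simp only [Polynomial.eval_finsetSum, Polynomial.eval_mul, Polynomial.eval_pow, Polynomial.eval_C, Polynomial.eval_X]
      have hdiag : ∑ i ∈ range j, x ^ i * x ^ (j - 1 - i) = (j : GenField m) * x ^ (j - 1) := by
        rw [Finset.sum_congr rfl fun i hi => by
          rw [← pow_add, show i + (j - 1 - i) = j - 1 by rw [Finset.mem_range] at hi; omega],
          Finset.sum_const, Finset.card_range, nsmul_eq_mul]
      rw [hdiag]
      suffices h : resWeight (genU m) k * x ^ ((j - 1) * m) =
          x ^ (j - 1) * (∏ b ∈ univ.erase k, ∑ i ∈ range j, genU m b ^ i * x ^ (j - 1 - i)) * resWeight (fun b => genU m b ^ j) k by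
        linear_combination (j : GenField m) * h
      rw [resWeight, resWeight, ← Finset.prod_inv_distrib, ← Finset.prod_inv_distrib]
      conv_lhs => rw [show (j - 1) * m = (j - 1) + (j - 1) * (univ.erase k).card by
        rw [Finset.card_erase_of_mem (Finset.mem_univ k), Finset.card_univ, Fintype.card_fin]
        obtain ⟨m', rfl⟩ : ∃ m', m = m' + 1 := ⟨m - 1, by omega⟩
        rw [Nat.add_sub_cancel]; ring, pow_add, mul_left_comm, pow_mul, ← Finset.prod_const, ← Finset.prod_mul_distrib]
      rw [mul_assoc, ← Finset.prod_mul_distrib]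
      congr 1
      refine Finset.prod_congr rfl fun b hb => ?_
      have hd : x - genU m b ≠ 0 := sub_ne_zero.2 fun h => (Finset.mem_erase.1 hb).1 (hinj h.symm)
      have hg : (∑ i ∈ range j, genU m b ^ i * x ^ (j - 1 - i)) * (x - genU m b) = x ^ j - genU m b ^ j := by
        have := geom_sum₂_mul (genU m b) x j
        linear_combination -this
      obtain ⟨j', rfl⟩ : ∃ j', j = j' + 1 := ⟨j - 1, by omega⟩
      have h1 := hne b hb
      rw [show (∑ i ∈ range (j' + 1), genU m b ^ i * x ^ (j' + 1 - 1 - i)) = (x ^ (j' + 1) - genU m b ^ (j' + 1)) / (x - genU m b) from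
        eq_div_of_mul_eq hd hg, Nat.add_sub_cancel]
      simp only [← hxdef]
      rw [show 1 - genU m b / x = (x - genU m b) / x by rw [sub_div, div_self hx],
        show 1 - genU m b ^ (j' + 1) / x ^ (j' + 1) = (x ^ (j' + 1) - genU m b ^ (j' + 1)) / x ^ (j' + 1) by
          rw [sub_div, div_self (pow_ne_zero _ hx)], inv_div, inv_div]
      field_simp
      ring
    rw [pow_add, show (x ^ (a * j) : GenField m) = (x ^ j) ^ a by rw [← pow_mul, mul_comm]]
    linear_combination (Polynomial.eval x (Z.map al)) * (x ^ j) ^ a * key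
  refine ⟨Z.map (MvPolynomial.eval₂Hom (Int.castRingHom A) u), ?_, ?_⟩
  all_goals set θ := MvPolynomial.eval₂Hom (Int.castRingHom A) u with hθ
  · have := map_dvd (Polynomial.mapRingHom θ) hZ
    rw [Polynomial.coe_mapRingHom, Polynomial.map_sub, Polynomial.map_mul, Polynomial.map_C, map_relPoly, map_thPoly,
      map_prod] at this
    simpa [← Polynomial.eval_map_apply, map_thPoly, hθ] using this
  · have := congrArg θ hid
    rw [map_resFun, map_mul, map_hsym, map_prod] at this
    simpa [← Polynomial.eval_map_apply, map_thPoly, hθ, Polynomial.map_mul, Polynomial.map_natCast] using this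

end Residue

variable {K : Type u} [CommRing K] [LambdaOps K] {P : PosStructure K} {e : K}

theorem map_bott_eq' {K' : Type*} [CommRing K'] (f : K →+* K') {e : K} {m : ℕ} (hm : (P.aug e).toNat = m)
    (U : Fin m → K') (hU : ∀ i, f (LambdaOps.lam i e) = ((univ : Finset (Fin m)).val.map U).esymm i) (j : ℕ) :
    f (KRR.bott P j e) = ∏ i, ∑ k ∈ range j, U i ^ k := by
  subst hm
  rw [KRR.bott, MvPolynomial.map_aeval, MvPolynomial.coe_eval₂Hom]
  simp only [hU]
  rw [show f.comp (algebraMap ℤ K) = algebraMap ℤ K' from RingHom.ext_int _ _, ← MvPolynomial.aeval_def, KRR.bottPoly,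
    aeval_symm]
  simp [KRR.bottSym]

theorem esymm_map_scale {A B β : Type*} [CommRing A] [CommRing B] (θ : A →+* B) (c : B) (s : Multiset β) (U : β → A) (i : ℕ) :
    c ^ i * θ ((s.map U).esymm i) = (s.map fun b => θ (U b) * c).esymm i := by
  rw [Multiset.esymm, Multiset.esymm, map_multiset_sum, Multiset.powersetCard_map, Multiset.powersetCard_map,
    Multiset.map_map, Multiset.map_map, Multiset.map_map, ← Multiset.sum_map_mul_left]
  refine congrArg _ (Multiset.map_congr rfl fun T hT => ?_)
  obtain ⟨-, rfl⟩ := Multiset.mem_powersetCard.1 hT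
  simp only [Function.comp_apply, Multiset.prod_map_mul, Multiset.map_const', Multiset.prod_replicate, map_multiset_prod,
    Multiset.map_map, mul_comm]

section Main

variable [LambdaOps (Ke P e)] {Pe : PosStructure (Ke P e)}

theorem lamSeries_mul_line (hsplit : HasSplitting (Ke P e) Pe) {v : Ke P e} (hv : Pe.IsLine v) (z : Ke P e) :
    lamSeries (z * v) = PowerSeries.rescale v (lamSeries z) := by
  have hpos : ∀ a ∈ Pe.pos, lamSeries (a * v) = PowerSeries.rescale v (lamSeries a) := by
    intro a ha
    obtain ⟨L, g, hL, hg, hs⟩ := exists_split' hsplit [a] (by simp [ha])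
    obtain ⟨S, hSl, hS⟩ := hs a (by simp)
    apply PowerSeries.map_injective _ hg.injective
    have hr : PowerSeries.map g (PowerSeries.rescale v (lamSeries a)) =
        PowerSeries.rescale (g v) (PowerSeries.map g (lamSeries a)) := by
      ext n; simp [PowerSeries.coeff_rescale]
    rw [hr, map_lamSeries_lines hg hSl hS, map_lamSeries_lines hg (W := S.map (g v * ·)) ?_ ?_, rescale_lineSeries]
    · intro w hw
      obtain ⟨w', hw', rfl⟩ := Multiset.mem_map.1 hw
      exact isLine_mul L.posStr (isLine_map hg hv) (hSl w' hw')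
    · rw [Multiset.sum_map_mul_left, Multiset.map_id', hS, map_mul, mul_comm]
  obtain ⟨a, b, ha, hb, rfl⟩ := Pe.exists_sub z
  refine (lamSeries_isUnit (b * v)).mul_left_injective ?_
  show lamSeries ((a - b) * v) * lamSeries (b * v) = _ * lamSeries (b * v)
  rw [← lamSeries_add, ← add_mul, sub_add_cancel, hpos a ha, hpos b hb, ← map_mul, ← lamSeries_add, sub_add_cancel]

set_option maxHeartbeats 400000 in
theorem arr (Rj : Type) [CommRing Rj] [Module.Flat ℤ Rj] (hK : HasSplitting K P) (he : e ∈ P.pos) {r : ℕ} (hr : P.aug e = r + 1)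
    (hext : IsExtension P Pe (AdjoinRoot.of (KRR.extPoly P e)))
    (hline : Pe.IsLine (ell P e)) (hsplit : HasSplitting (Ke P e) Pe) (N : ℕ) (hN : gammaFiltration Pe N = ⊥)
    (f : Ke P e →ₗ[K] K) (hf : ∀ i : ℕ, i ≤ r → f (ell P e ^ i) = KRR.sigma i e)
    (linv : Ke P e) (hlinv : linv * ell P e = 1) (j : ℕ) (hj : 1 ≤ j) (hjR : IsUnit (j : Rj)) :
    (∃ w : Rj ⊗[ℤ] Ke P e,
      w * ((1 : Rj) ⊗ₜ[ℤ] KRR.bott Pe j (AdjoinRoot.of (KRR.extPoly P e) e * linv)) = 1) ∧
    ∀ w : Rj ⊗[ℤ] Ke P e,
      w * ((1 : Rj) ⊗ₜ[ℤ] KRR.bott Pe j (AdjoinRoot.of (KRR.extPoly P e) e * linv)) = 1 →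
      ∀ x : Ke P e, (1 : Rj) ⊗ₜ[ℤ] adams P j (f x) =
        LinearMap.lTensor Rj f.toAddMonoidHom.toIntLinearMap
          ((j : Rj ⊗[ℤ] Ke P e) * w * ((1 : Rj) ⊗ₜ[ℤ] adams Pe j x)) := by
  set e' := AdjoinRoot.of (KRR.extPoly P e) e * linv with he'
  have hlam' : ∀ i, LambdaOps.lam i e' = linv ^ i * AdjoinRoot.of (KRR.extPoly P e) (LambdaOps.lam i e) := by
    intro i
    have h := congrArg (PowerSeries.coeff i) (lamSeries_mul_line hsplit hline e')
    rw [he', mul_assoc, hlinv, mul_one, PowerSeries.coeff_rescale, coeff_lamSeries, coeff_lamSeries, ← hext.isLambdaHom] at h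
    rw [h, ← he', ← mul_assoc, ← mul_pow, hlinv, one_pow, one_mul]
  have hlaug : Pe.aug linv = 1 := by
    have := congrArg Pe.aug hlinv
    rwa [map_mul, hline.2, mul_one, map_one] at this
  have he'aug : (Pe.aug e').toNat = r + 1 := by
    rw [he', map_mul, hlaug, mul_one, hext.aug_comp, hr]; rfl
  -- invertibility
  have hθaug : Pe.aug (KRR.bott Pe j e') = ((j ^ (r + 1) : ℕ) : ℤ) := by
    rw [map_bott_eq' Pe.aug he'aug (fun _ => (1 : ℤ)) (fun i => ?_) j]
    · simp
    rw [hlam', map_mul, map_pow, hlaug, one_pow, one_mul, hext.aug_comp, aug_lam hK he, show (P.aug e).toNat = r + 1 by omega,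
      Multiset.esymm, Multiset.map_congr rfl fun S hS => Multiset.prod_eq_one fun x hx => ?_]
    · simp
    · obtain ⟨-, -, rfl⟩ := Multiset.mem_map.1 (Multiset.mem_of_le (Multiset.mem_powersetCard.1 hS).1 hx)
      rfl
  refine ⟨?_, fun w hw x => ?_⟩
  · obtain ⟨d, hd⟩ : ∃ d, d = KRR.bott Pe j e' - ((j ^ (r + 1) : ℕ) : Ke P e) := ⟨_, rfl⟩
    have hd0 : Pe.aug d = 0 := by rw [hd, map_sub, hθaug, map_natCast, sub_self]
    have hpow : ∀ n, d ^ n ∈ gammaFiltration Pe n := fun n => by
      induction n with
      | zero => exact mem_filt_zero Pe _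
      | succ n ih => rw [pow_succ]; exact filt_mul Pe ih (mem_filt_one_of_aug Pe hd0)
    have hnil : IsNilpotent ((1 : Rj) ⊗ₜ[ℤ] d) := ⟨N, by
      have := hpow N
      rw [hN, AddSubgroup.mem_bot] at this
      rw [Algebra.TensorProduct.tmul_pow, this, TensorProduct.tmul_zero]⟩
    have hju : IsUnit ((j : Rj) ^ (r + 1)) := hjR.pow _
    have hu2 : IsUnit ((1 : Rj) ⊗ₜ[ℤ] ((j ^ (r + 1) : ℕ) : Ke P e)) := by
      rw [show (1 : Rj) ⊗ₜ[ℤ] ((j ^ (r + 1) : ℕ) : Ke P e) = (Algebra.TensorProduct.includeLeftRingHom : Rj →+* Rj ⊗[ℤ] Ke P e) ((j : Rj) ^ (r + 1)) by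
        rw [← Nat.cast_pow, map_natCast]
        exact map_natCast (Algebra.TensorProduct.includeRight : Ke P e →ₐ[ℤ] Rj ⊗[ℤ] Ke P e) (j ^ (r + 1))]
      exact hju.map _
    have hunit : IsUnit ((1 : Rj) ⊗ₜ[ℤ] KRR.bott Pe j e') := by
      rw [show (1 : Rj) ⊗ₜ[ℤ] KRR.bott Pe j e' = (1 : Rj) ⊗ₜ[ℤ] d + (1 : Rj) ⊗ₜ[ℤ] ((j ^ (r + 1) : ℕ) : Ke P e) by
        rw [← TensorProduct.tmul_add, hd, sub_add_cancel]]
      exact hnil.isUnit_add_right_of_commute hu2 (Commute.all _ _)
    exact hunit.exists_left_inv
  -- passage to a splitting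
  obtain ⟨L, g, hL, hg, hs⟩ := exists_split' hK [e] (by simp [he])
  obtain ⟨S, hSl, hS⟩ := hs e (by simp)
  obtain ⟨hcard, hlam, -⟩ := gamma_split he hg hSl hS
  obtain ⟨U, hU⟩ := exists_enum S (hcard.trans (show (P.aug e).toNat = r + 1 by omega))
  let ι : L.carrier →ₐ[ℤ] Rj ⊗[ℤ] L.carrier := Algebra.TensorProduct.includeRight
  let u : Fin (r + 1) → Rj ⊗[ℤ] L.carrier := fun b => ι (U b)
  let μ : Rj ⊗[ℤ] K →ₐ[ℤ] Rj ⊗[ℤ] L.carrier := Algebra.TensorProduct.map (AlgHom.id ℤ Rj) g.toIntAlgHom
  have hμ : Function.Injective μ := by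
    have h := Module.Flat.lTensor_preserves_injective_linearMap (M := Rj) g.toAddMonoidHom.toIntLinearMap hg.injective
    have heq : ⇑μ = ⇑(LinearMap.lTensor Rj g.toAddMonoidHom.toIntLinearMap) := by
      funext v
      induction v using TensorProduct.induction_on with
      | zero => simp
      | tmul q x => rfl
      | add a b ha hb => rw [map_add, map_add, ha, hb]
    rw [heq]; exact h
  have hpolyU : (KRR.extPoly P e).map g = relPoly U := by
    rw [relPoly, Finset.prod_eq_multiset_prod, show (univ : Finset (Fin (r + 1))).val.map (fun b => Polynomial.X - Polynomial.C (U b)) =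
      S.map fun v => Polynomial.X - Polynomial.C v by rw [← hU, Multiset.map_map]; rfl,
      Multiset.prod_X_sub_X_eq_sum_esymm, hcard, KRR.extPoly, Polynomial.map_sum]
    exact Finset.sum_congr rfl fun i _ => by simp [Polynomial.map_mul, hlam, mul_assoc]
  set Pu := relPoly u with hPu
  let ρ0 : Ke P e →+* AdjoinRoot Pu := AdjoinRoot.lift ((AdjoinRoot.of Pu).comp (ι.toRingHom.comp g)) (AdjoinRoot.root Pu) (by
    rw [← Polynomial.eval₂_map, ← Polynomial.map_map, hpolyU, map_relPoly]
    exact AdjoinRoot.eval₂_root Pu)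
  let κ : Rj →+* AdjoinRoot Pu := (AdjoinRoot.of Pu).comp Algebra.TensorProduct.includeLeftRingHom
  let ρ : Rj ⊗[ℤ] Ke P e →ₐ[ℤ] AdjoinRoot Pu :=
    Algebra.TensorProduct.productMap κ.toIntAlgHom ρ0.toIntAlgHom
  let G : AdjoinRoot Pu → Rj ⊗[ℤ] L.carrier := fun z => resFun u (Function.surjInv AdjoinRoot.mk_surjective z)
  have hG : ∀ p, G (AdjoinRoot.mk Pu p) = resFun u p := fun p => by
    obtain ⟨c, hc⟩ := AdjoinRoot.mk_eq_mk.1 (Function.surjInv_eq AdjoinRoot.mk_surjective (AdjoinRoot.mk Pu p))
    show resFun u _ = _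
    rw [sub_eq_iff_eq_add'.1 hc, map_add, resFun_relPoly_mul r.succ_pos, add_zero]
  have hGadd : ∀ y z, G (y + z) = G y + G z := fun y z => by
    obtain ⟨p, rfl⟩ := AdjoinRoot.mk_surjective y
    obtain ⟨q, rfl⟩ := AdjoinRoot.mk_surjective z
    rw [← map_add, hG, hG, hG, map_add]
  have hGsmul : ∀ c z, G (AdjoinRoot.of Pu c * z) = c * G z := fun c z => by
    obtain ⟨q, rfl⟩ := AdjoinRoot.mk_surjective z
    rw [← AdjoinRoot.mk_C, ← map_mul, hG, hG, ← Polynomial.smul_eq_C_mul, map_smul, smul_eq_mul]
  have hG0 : G 0 = 0 := by rw [← map_zero (AdjoinRoot.mk Pu), hG, map_zero]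
  have hsig : ∀ i, g (KRR.sigma i e) = hsym U i := fun i => by
    rw [← coeff_sigma, ← PowerSeries.coeff_map]
    refine eq_hsym ?_ i
    have : denSeries U = PowerSeries.map g (lneg e) := by
      have hr : PowerSeries.map g (lneg e) = PowerSeries.rescale (-1 : L.carrier) (PowerSeries.map g (lamSeries e)) := by
        ext n; simp [PowerSeries.coeff_rescale]
      rw [hr, map_lamSeries_lines hg hSl hS, rescale_lineSeries, lineSeries, ← hU, Multiset.map_map, Multiset.map_map,
        denSeries, Finset.prod_eq_multiset_prod]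
      exact congrArg _ (Multiset.map_congr rfl fun b _ => by simp; ring)
    rw [this, ← map_mul, sigma_mul_lneg, map_one]
  have hcompat : ∀ z, μ (LinearMap.lTensor Rj f.toAddMonoidHom.toIntLinearMap z) = G (ρ z) := fun z => by
    induction z using TensorProduct.induction_on with
    | zero => rw [map_zero, map_zero, map_zero, hG0]
    | add a b ha hb => rw [map_add, map_add, map_add, ha, hb, hGadd]
    | tmul q y =>
      show q ⊗ₜ[ℤ] g (f y) = G (AdjoinRoot.of Pu (q ⊗ₜ[ℤ] 1) * ρ0 y)
      rw [hGsmul]
      have hy : G (ρ0 y) = ι (g (f y)) := by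
        induction y using AdjoinRoot.induction_on with
        | ih p =>
          rw [show ρ0 (AdjoinRoot.mk (KRR.extPoly P e) p) = AdjoinRoot.mk Pu (p.map (ι.toRingHom.comp g)) by
            simp only [ρ0]
            rw [AdjoinRoot.lift_mk, ← Polynomial.eval₂_map, ← AdjoinRoot.algebraMap_eq, ← Polynomial.aeval_def,
              AdjoinRoot.aeval_eq], hG]
          induction p using Polynomial.induction_on' with
          | add p q hp hq => simp only [Polynomial.map_add, map_add, hp, hq]
          | monomial i a =>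
            rw [Polynomial.map_monomial, resFun_monomial, ← Polynomial.C_mul_X_pow_eq_monomial, map_mul, map_pow,
              AdjoinRoot.mk_C, AdjoinRoot.mk_X, ← AdjoinRoot.algebraMap_eq, ← Algebra.smul_def, map_smul, smul_eq_mul,
              f_pow hr he f hf, map_mul, map_mul, hsig]
            show _ = _ * ι.toRingHom _
            rw [map_hsym]
            rfl
      rw [hy]
      show _ = (q ⊗ₜ[ℤ] (1 : L.carrier)) * ((1 : Rj) ⊗ₜ[ℤ] g (f y))
      rw [Algebra.TensorProduct.tmul_mul_tmul, mul_one, one_mul]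
  apply hμ
  rw [hcompat, map_mul, map_mul, map_natCast]
  show ι (g (adams P j (f x))) = G ((j : AdjoinRoot Pu) * ρ w * (κ 1 * ρ0 (adams Pe j x)))
  rw [map_one, one_mul, map_adams hg]
  -- the class in the splitting
  set l := AdjoinRoot.root Pu
  set li := ρ0 linv
  have hli : li * l = 1 := by
    have := congrArg ρ0 hlinv
    rwa [map_mul, map_one, show ρ0 (ell P e) = l from AdjoinRoot.lift_root _] at this
  have hθ' : (∏ b, ∑ k ∈ range j, (AdjoinRoot.of Pu (u b) * li) ^ k) * l ^ ((j - 1) * (r + 1)) =
      AdjoinRoot.mk Pu (thPoly j u) := by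
    rw [show (j - 1) * (r + 1) = (j - 1) * (univ : Finset (Fin (r + 1))).card by simp, pow_mul, ← Finset.prod_const,
      ← Finset.prod_mul_distrib, thPoly, map_prod]
    refine Finset.prod_congr rfl fun b _ => ?_
    rw [Finset.sum_mul, map_sum]
    refine Finset.sum_congr rfl fun k hk => ?_
    rw [Finset.mem_range] at hk
    rw [map_mul, map_pow, map_pow, AdjoinRoot.mk_C, AdjoinRoot.mk_X, mul_pow, mul_assoc,
      show l ^ (j - 1) = l ^ k * l ^ (j - 1 - k) by rw [← pow_add]; congr 1; omega, ← mul_assoc (li ^ k), ← mul_pow, hli,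
      one_pow, one_mul]
  have hwθ : ρ w * (∏ b, ∑ k ∈ range j, (AdjoinRoot.of Pu (u b) * li) ^ k) = 1 := by
    have h := congrArg ρ hw
    rw [map_mul, map_one] at h
    rw [← map_bott_eq ρ0 he'aug (fun b => AdjoinRoot.of Pu (u b) * li) (fun i => ?_) j]
    · refine Eq.trans (congrArg (ρ w * ·) ?_) h
      show _ = κ 1 * ρ0 _
      rw [map_one, one_mul]
    rw [hlam', map_mul, map_pow,
      show ρ0 (AdjoinRoot.of (KRR.extPoly P e) (LambdaOps.lam i e)) = AdjoinRoot.of Pu (ι (g (LambdaOps.lam i e))) from
        AdjoinRoot.lift_of _, hlam, ← hU]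
    exact esymm_map_scale ((AdjoinRoot.of Pu).comp ι.toRingHom) li ((univ : Finset (Fin (r + 1))).val) U i
  induction x using AdjoinRoot.induction_on with
  | ih p =>
    induction p using Polynomial.induction_on' with
    | add p q hp hq =>
      rw [map_add (AdjoinRoot.mk (KRR.extPoly P e)), map_add f, map_add g, ← adamsRingHom_apply hL, map_add,
        adamsRingHom_apply, adamsRingHom_apply, map_add ι, hp, hq, ← adamsRingHom_apply hsplit, ← adamsRingHom_apply hsplit,
        ← adamsRingHom_apply hsplit, map_add, map_add, mul_add, hGadd]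
    | monomial i a =>
      rw [← Polynomial.C_mul_X_pow_eq_monomial, map_mul, map_pow, AdjoinRoot.mk_C, AdjoinRoot.mk_X,
        ← AdjoinRoot.algebraMap_eq, ← Algebra.smul_def, map_smul f, smul_eq_mul, f_pow hr he f hf, map_mul g, hsig,
        ← adamsRingHom_apply hL, map_mul (adamsRingHom hL j), map_mul ι]
      rw [Algebra.smul_def, AdjoinRoot.algebraMap_eq, ← adamsRingHom_apply hsplit, map_mul (adamsRingHom hsplit j),
        map_pow (adamsRingHom hsplit j), adamsRingHom_apply, adamsRingHom_apply, adamsRingHom_apply, adamsRingHom_apply, adams_line Pe hline,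
        ← map_adams hext, map_mul ρ0, map_pow ρ0, map_pow ρ0, show ρ0 (AdjoinRoot.root _) = l from AdjoinRoot.lift_root _,
        show ρ0 (AdjoinRoot.of (KRR.extPoly P e) (adams P j a)) = AdjoinRoot.of Pu (ι (g (adams P j a))) from
          AdjoinRoot.lift_of _, ← mul_assoc, mul_comm ((j : AdjoinRoot Pu) * ρ w), mul_assoc, hGsmul, map_adams hg]
      congr 1
      have hv : ι (adamsRingHom hL j (hsym U i)) = hsym (fun b => u b ^ j) i := by
        show ι.toRingHom _ = _
        rw [map_hsym, map_hsym]
        congr 1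
        funext b
        rw [adamsRingHom_apply, adams_line L.posStr (hSl _ (hU ▸ Multiset.mem_map_of_mem U (mem_univ_val b)))]
        exact map_pow ι _ _
      rw [← adamsRingHom_apply hL]
      rw [hv]
      obtain ⟨Z, hZ, hid⟩ := residue_identity r.succ_pos hj u i
      simp only [Nat.succ_eq_add_one] at hid
      set Nn := ∏ k, (thPoly j u).eval (u k)
      have hZ' : AdjoinRoot.mk Pu (Polynomial.C Nn) = AdjoinRoot.mk Pu (thPoly j u) * AdjoinRoot.mk Pu Z := by
        rw [← map_mul]; exact AdjoinRoot.mk_eq_mk.2 hZ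
      have hNunit : IsUnit Nn := by
        refine IsUnit.prod_iff.2 fun k _ => ?_
        let ev : AdjoinRoot Pu →+* Rj ⊗[ℤ] L.carrier :=
          AdjoinRoot.lift (RingHom.id _) (u k) (by rw [← Polynomial.eval_map, Polynomial.map_id]; exact eval_relPoly u k)
        have h1 : ev (AdjoinRoot.mk Pu (thPoly j u)) = (thPoly j u).eval (u k) := AdjoinRoot.lift_mk _ _
        rw [← h1, ← hθ', map_mul, map_pow]
        refine (IsUnit.map ev (IsUnit.of_mul_eq_one_right _ hwθ)).mul ?_
        exact ((IsUnit.of_mul_eq_one_right _ hli).map ev).pow _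
      refine hNunit.mul_right_injective ?_
      show Nn * _ = Nn * _
      rw [← hid, ← hG, map_mul, map_mul, map_natCast, map_pow, AdjoinRoot.mk_X, ← hGsmul, ← AdjoinRoot.mk_C, hZ',
        ← hθ', ← pow_mul, mul_comm i j]
      congr 1
      rw [pow_add]
      linear_combination (-(j : AdjoinRoot Pu) * AdjoinRoot.mk Pu Z * l ^ ((j - 1) * (r + 1)) * l ^ (j * i)) * hwθ

end Main

end Groth.Agent.KRR3
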