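import Groth.Prelude.Def_KRR
import Groth.Agent.Lambda37.Filt
import Mathlib.RingTheory.AdjoinRoot
import Mathlib.RingTheory.PowerSeries.WellKnown

/-! Symmetric operations and the functional of an elementary extension. -/

set_option autoImplicit false
set_option linter.style.haveILetI false

universe u

namespace Groth.Agent.KRR3

open LambdaRing PowerSeries Finset Groth.Agent.Lambda37

variable {K : Type u} [CommRing K] [LambdaOps K]

/-- The series `λ_{-t}`. -/
noncomputable def lneg (x : K) : K⟦X⟧ := rescale (-1 : K) (lamSeries x)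

@[simp] theorem coeff_lneg (x : K) (i : ℕ) : coeff i (lneg x) = (-1) ^ i * LambdaOps.lam i x := by
  simp [lneg, coeff_rescale]

@[simp] theorem constantCoeff_lneg (x : K) : constantCoeff (lneg x) = 1 := by
  rw [← coeff_zero_eq_constantCoeff_apply, coeff_lneg, LambdaOps.lam_zero, pow_zero, one_mul]

theorem lneg_add (x y : K) : lneg (x + y) = lneg x * lneg y := by rw [lneg, lamSeries_add, map_mul]; rfl

theorem sigma_mul_lneg (x : K) : KRR.sigmaSeries x * lneg x = 1 :=
  invOfUnit_mul _ 1 (constantCoeff_lneg x)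

theorem coeff_sigma (x : K) (i : ℕ) : coeff i (KRR.sigmaSeries x) = KRR.sigma i x := rfl

theorem sigma_zero (x : K) : KRR.sigma 0 x = 1 := by
  have h := congrArg constantCoeff (sigma_mul_lneg x)
  rwa [map_mul, constantCoeff_lneg, mul_one, map_one, ← coeff_zero_eq_constantCoeff_apply] at h

theorem sigma_rec (x : K) {n : ℕ} (hn : 0 < n) :
    ∑ i ∈ range (n + 1), (-1 : K) ^ i * LambdaOps.lam i x * KRR.sigma (n - i) x = 0 := by
  have h := congrArg (coeff n) (sigma_mul_lneg x)
  rw [coeff_one, if_neg hn.ne', mul_comm, coeff_mul, Finset.Nat.sum_antidiagonal_eq_sum_range_succ_mk] at h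
  simpa [coeff_sigma] using h

theorem lneg_line {u : K} (h : ∀ j, 2 ≤ j → LambdaOps.lam j u = 0) : lneg u = 1 - PowerSeries.C u * PowerSeries.X := by
  ext n
  rcases n with _ | _ | n
  · simp [LambdaOps.lam_zero]
  · simp [LambdaOps.lam_one]
  · rw [coeff_lneg, h _ (by omega), map_sub, coeff_one, coeff_succ_mul_X]; simp

variable {P : PosStructure K} {e : K} {m : ℕ}

theorem map_aug_lneg (hK : HasSplitting K P) (he : e ∈ P.pos) :
    PowerSeries.map P.aug (lneg e) = (1 - PowerSeries.X) ^ (P.aug e).toNat := by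
  ext n
  rw [PowerSeries.coeff_map, coeff_lneg, map_mul, map_pow, map_neg, map_one, aug_lam hK he,
    show (1 - PowerSeries.X : ℤ⟦X⟧) = rescale (-1 : ℤ) (1 + PowerSeries.X) by
      rw [map_add, map_one]; ext k; rcases k with _ | _ | k <;> simp [coeff_rescale, coeff_X],
    ← map_pow, coeff_rescale, coeff_one_add_X_pow]

theorem aug_sigma (hK : HasSplitting K P) (he : e ∈ P.pos) {r : ℕ} (hr : P.aug e = r + 1) (j : ℕ) :
    P.aug (KRR.sigma j e) = ((r + j).choose j : ℤ) := by
  have h := congrArg (PowerSeries.map P.aug) (sigma_mul_lneg e)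
  rw [map_mul, map_one, map_aug_lneg hK he, show (P.aug e).toNat = r + 1 by omega] at h
  have h1 : (PowerSeries.mk 1 : ℤ⟦X⟧) ^ (r + 1) * (1 - PowerSeries.X) ^ (r + 1) = 1 := by
    rw [← mul_pow, mk_one_mul_one_sub_eq_one, one_pow]
  have h2 := left_inv_eq_right_inv h ((mul_comm _ _).trans h1)
  have h3 := congrArg (coeff j) h2
  rw [PowerSeries.coeff_map, coeff_sigma, mk_one_pow_eq_mk_choose_add, coeff_mk] at h3
  rw [h3, Nat.choose_symm_add]

/-- The elementary extension. -/
abbrev Ke (P : PosStructure K) (e : K) : Type u := AdjoinRoot (KRR.extPoly P e)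

/-- Its generator. -/
noncomputable abbrev ell (P : PosStructure K) (e : K) : Ke P e := AdjoinRoot.root _

theorem aug_e (P : PosStructure K) (he : e ∈ P.pos) : P.aug e = ((P.aug e).toNat : ℤ) :=
  (Int.toNat_of_nonneg (P.aug_pos e he).le).symm

theorem monic_extPoly (P : PosStructure K) (e : K) :
    (KRR.extPoly P e).Monic ∧ (KRR.extPoly P e).natDegree = (P.aug e).toNat := by
  have : Nontrivial K := P.aug.domain_nontrivial
  have hd : (KRR.extPoly P e).degree ≤ ((P.aug e).toNat : ℕ) ∧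
      (KRR.extPoly P e).coeff (P.aug e).toNat = 1 := by
    constructor
    · refine (Polynomial.degree_sum_le _ _).trans (Finset.sup_le fun i _ => ?_)
      exact (Polynomial.degree_C_mul_X_pow_le _ _).trans (by exact_mod_cast Nat.sub_le _ _)
    · rw [KRR.extPoly, Polynomial.finset_sum_coeff, Finset.sum_eq_single 0]
      · simp [LambdaOps.lam_zero]
      · intro i hi hi0
        rw [Polynomial.coeff_C_mul_X_pow, if_neg]
        rw [Finset.mem_range] at hi; omega
      · simp
  have hm := Polynomial.monic_of_degree_le (P.aug e).toNat hd.1 hd.2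
  exact ⟨hm, Polynomial.natDegree_eq_of_le_of_coeff_ne_zero (Polynomial.natDegree_le_iff_degree_le.2 hd.1)
    (by rw [hd.2]; exact one_ne_zero)⟩

theorem root_rel (P : PosStructure K) (e : K) :
    ∑ i ∈ range ((P.aug e).toNat + 1),
      AdjoinRoot.of (KRR.extPoly P e) ((-1 : K) ^ i * LambdaOps.lam i e) * ell P e ^ ((P.aug e).toNat - i) = 0 := by
  have h := AdjoinRoot.eval₂_root (KRR.extPoly P e)
  conv at h =>
    lhs
    arg 3
    rw [KRR.extPoly]
  rw [Polynomial.eval₂_finsetSum] at h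
  refine Eq.trans (Finset.sum_congr rfl fun i _ => ?_) h
  rw [Polynomial.eval₂_mul, Polynomial.eval₂_C, Polynomial.eval₂_X_pow]

theorem isUnit_ell (he : e ∈ P.pos) : IsUnit (ell P e) := by
  have hm : 0 < (P.aug e).toNat := by have := P.aug_pos e he; omega
  have h := root_rel P e
  rw [Finset.sum_range_succ, Nat.sub_self, pow_zero, mul_one, map_mul] at h
  have h2 : IsUnit ((AdjoinRoot.of (KRR.extPoly P e)) ((-1 : K) ^ (P.aug e).toNat) *
      (AdjoinRoot.of (KRR.extPoly P e)) (LambdaOps.lam (P.aug e).toNat e)) :=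
    ((isUnit_one.neg.pow _).map _).mul ((P.isUnit_lam e he).map _)
  rw [← neg_eq_of_add_eq_zero_right h] at h2
  refine isUnit_of_dvd_unit ?_ ((IsUnit.neg_iff _).1 h2)
  refine Finset.dvd_sum fun i hi => Dvd.dvd.mul_left (dvd_pow_self _ ?_) _
  rw [Finset.mem_range] at hi; omega

theorem hom_ext {M : Type u} [AddCommGroup M] [Module K M] {r : ℕ} (he : e ∈ P.pos) (hr : P.aug e = r + 1)
    {φ φ' : Ke P e →ₗ[K] M} (h : ∀ i ≤ r, φ (ell P e ^ i) = φ' (ell P e ^ i)) : φ = φ' := by
  refine (AdjoinRoot.powerBasis' (monic_extPoly P e).1).basis.ext fun i => ?_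
  rw [PowerBasis.coe_basis, AdjoinRoot.powerBasis'_gen]
  refine h _ ?_
  have := i.2
  have h2 := AdjoinRoot.powerBasis'_dim (monic_extPoly P e).1
  have h3 := (monic_extPoly P e).2
  omega

theorem f_pow {r : ℕ} (hr : P.aug e = r + 1) (he : e ∈ P.pos) (f : Ke P e →ₗ[K] K)
    (hf : ∀ i : ℕ, i ≤ r → f (ell P e ^ i) = KRR.sigma i e) : ∀ i, f (ell P e ^ i) = KRR.sigma i e := by
  intro i
  induction i using Nat.strong_induction_on with
  | _ i ih =>
    by_cases h : i ≤ r
    · exact hf i h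
    have hm : (P.aug e).toNat = r + 1 := by omega
    have h1 := congrArg (fun z => f (z * ell P e ^ (i - (r + 1)))) (root_rel P e)
    simp only [Finset.sum_mul, map_sum, zero_mul, map_zero, hm, mul_assoc, ← pow_add] at h1
    have h2 : ∀ k, f (AdjoinRoot.of (KRR.extPoly P e) k * ell P e ^ i) = k * f (ell P e ^ i) := fun k => by
      rw [← AdjoinRoot.algebraMap_eq, ← Algebra.smul_def, map_smul, smul_eq_mul]
    rw [Finset.sum_range_succ'] at h1
    have h3 : ∑ k ∈ range (r + 1), f (AdjoinRoot.of (KRR.extPoly P e) ((-1 : K) ^ (k + 1) * LambdaOps.lam (k + 1) e) *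
        ell P e ^ (r + 1 - (k + 1) + (i - (r + 1)))) =
        ∑ k ∈ range (r + 1), (-1 : K) ^ (k + 1) * LambdaOps.lam (k + 1) e * KRR.sigma (i - (k + 1)) e := by
      refine Finset.sum_congr rfl fun k hk => ?_
      rw [Finset.mem_range] at hk
      rw [← AdjoinRoot.algebraMap_eq, ← Algebra.smul_def, map_smul, smul_eq_mul,
        show r + 1 - (k + 1) + (i - (r + 1)) = i - (k + 1) by omega, ih _ (by omega)]
    rw [h3, Nat.sub_zero, show r + 1 + (i - (r + 1)) = i by omega, h2, LambdaOps.lam_zero, pow_zero, one_mul, one_mul] at h1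
    have h4 := sigma_rec e (show 0 < i by omega)
    rw [Finset.sum_range_succ', ← Finset.sum_range_add_sum_Ico _ (show r + 1 ≤ i by omega),
      Finset.sum_eq_zero (s := Finset.Ico (r + 1) i) (fun k hk => by
        rw [Finset.mem_Ico] at hk
        rw [P.lam_eq_zero e he (k + 1) (by omega), mul_zero, zero_mul]),
      add_zero, Nat.sub_zero, LambdaOps.lam_zero, pow_zero, one_mul, one_mul] at h4
    linear_combination h1 - h4

theorem f_inv_pow {r : ℕ} (hr : P.aug e = r + 1) (he : e ∈ P.pos) (f : Ke P e →ₗ[K] K)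
    (hf : ∀ i : ℕ, i ≤ r → f (ell P e ^ i) = KRR.sigma i e) (linv : Ke P e) (hl : linv * ell P e = 1) :
    ∀ n : ℕ, 1 ≤ n → n ≤ r → f (linv ^ n) = 0 := by
  intro n
  induction n using Nat.strong_induction_on with
  | _ n ih =>
    intro hn hnr
    have hm : (P.aug e).toNat = r + 1 := by omega
    have hsm : ∀ (k : K) (z : Ke P e), f (AdjoinRoot.of (KRR.extPoly P e) k * z) = k * f z := fun k z => by
      rw [← AdjoinRoot.algebraMap_eq, ← Algebra.smul_def, map_smul, smul_eq_mul]
    have h1 := congrArg (fun z => f (z * linv ^ n)) (root_rel P e)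
    simp only [Finset.sum_mul, map_sum, zero_mul, map_zero, hm, mul_assoc, hsm] at h1
    rw [Finset.sum_range_succ, Nat.sub_self, pow_zero, one_mul,
      ← Finset.sum_range_add_sum_Ico _ (show r + 1 - n + 1 ≤ r + 1 by omega)] at h1
    have hpow : ∀ a b, a + n = b → ell P e ^ b * linv ^ n = ell P e ^ a := fun a b hab => by
      rw [← hab, pow_add, mul_assoc, ← mul_pow, mul_comm (ell P e) linv, hl, one_pow, mul_one]
    have hA : ∑ k ∈ range (r + 1 - n + 1), (-1 : K) ^ k * (LambdaOps.lam k e * f (ell P e ^ (r + 1 - k) * linv ^ n)) = 0 := by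
      rw [← sigma_rec e (show 0 < r + 1 - n by omega)]
      refine Finset.sum_congr rfl fun k hk => ?_
      rw [Finset.mem_range] at hk
      rw [hpow (r + 1 - n - k) _ (by omega), f_pow hr he f hf, mul_assoc]
    have hB : ∑ k ∈ Ico (r + 1 - n + 1) (r + 1), (-1 : K) ^ k * (LambdaOps.lam k e * f (ell P e ^ (r + 1 - k) * linv ^ n)) = 0 := by
      refine Finset.sum_eq_zero fun k hk => ?_
      rw [Finset.mem_Ico] at hk
      obtain ⟨a, ha, ha1⟩ : ∃ a, n = (r + 1 - k) + a ∧ 1 ≤ a := ⟨n - (r + 1 - k), by omega, by omega⟩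
      conv_lhs => rw [ha, pow_add, ← mul_assoc (ell P e ^ _), ← mul_pow, mul_comm (ell P e) linv, hl, one_pow, one_mul]
      rw [ih a (by omega) ha1 (by omega), mul_zero, mul_zero]
    rw [hA, hB, zero_add, zero_add] at h1
    have hu : IsUnit ((-1 : K) ^ (r + 1) * LambdaOps.lam (r + 1) e) :=
      (isUnit_one.neg.pow _).mul (hm ▸ P.isUnit_lam e he)
    rw [← mul_assoc] at h1
    exact (IsUnit.mul_right_eq_zero hu).1 h1

theorem aug_f_sub_one_pow (hK : HasSplitting K P) {r : ℕ} (hr : P.aug e = r + 1) (he : e ∈ P.pos) (f : Ke P e →ₗ[K] K)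
    (hf : ∀ i : ℕ, i ≤ r → f (ell P e ^ i) = KRR.sigma i e) : P.aug (f ((ell P e - 1) ^ r)) = 1 := by
  rw [sub_eq_add_neg, add_pow, map_sum, map_sum]
  have hterm : ∀ i ∈ range (r + 1), P.aug (f (ell P e ^ i * (-1) ^ (r - i) * (r.choose i : Ke P e))) =
      coeff i ((PowerSeries.mk 1 : ℤ⟦X⟧) ^ (r + 1)) * coeff (r - i) ((1 - PowerSeries.X : ℤ⟦X⟧) ^ r) := by
    intro i hi
    rw [Finset.mem_range] at hi
    rw [show ell P e ^ i * (-1) ^ (r - i) * (r.choose i : Ke P e) =
        ((-1 : K) ^ (r - i) * (r.choose i : K)) • ell P e ^ i by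
      rw [Algebra.smul_def, map_mul, map_pow, map_neg, map_one, map_natCast]; ring,
      map_smul, smul_eq_mul, hf i (by omega), map_mul, aug_sigma hK he hr, map_mul, map_pow, map_neg, map_one, map_natCast,
      mk_one_pow_eq_mk_choose_add, coeff_mk,
      show (1 - PowerSeries.X : ℤ⟦X⟧) = rescale (-1 : ℤ) (1 + PowerSeries.X) by
        rw [map_add, map_one]; ext k; rcases k with _ | _ | k <;> simp [coeff_rescale, coeff_X],
      ← map_pow, coeff_rescale, coeff_one_add_X_pow, Nat.choose_symm (by omega : i ≤ r), Nat.choose_symm_add]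
    ring
  rw [Finset.sum_congr rfl hterm, ← Finset.Nat.sum_antidiagonal_eq_sum_range_succ_mk
      (f := fun p => coeff p.1 ((PowerSeries.mk 1 : ℤ⟦X⟧) ^ (r + 1)) * coeff p.2 ((1 - PowerSeries.X : ℤ⟦X⟧) ^ r)),
    ← coeff_mul, pow_succ', mul_assoc, ← mul_pow, mk_one_mul_one_sub_eq_one, one_pow, mul_one, coeff_mk]
  rfl

section Ops

variable [LambdaOps (Ke P e)]
  (hext : ∀ (i : ℕ) (x : K), LambdaOps.lam i (AdjoinRoot.of (KRR.extPoly P e) x) =
    AdjoinRoot.of (KRR.extPoly P e) (LambdaOps.lam i x))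
  (hroot : ∀ i : ℕ, 2 ≤ i → LambdaOps.lam i (ell P e) = 0)

include hext hroot

theorem lneg_q_mul : lneg (AdjoinRoot.of (KRR.extPoly P e) e - ell P e) *
    (1 - PowerSeries.C (ell P e) * PowerSeries.X) = PowerSeries.map (AdjoinRoot.of (KRR.extPoly P e)) (lneg e) := by
  rw [← lneg_line hroot, ← lneg_add, sub_add_cancel]
  ext n
  simp [hext]

theorem sigma_lneg_q : PowerSeries.map (AdjoinRoot.of (KRR.extPoly P e)) (KRR.sigmaSeries e) *
    lneg (AdjoinRoot.of (KRR.extPoly P e) e - ell P e) = PowerSeries.mk fun n => ell P e ^ n := by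
  refine left_inv_eq_right_inv (a := 1 - PowerSeries.C (ell P e) * PowerSeries.X) ?_ ?_
  · rw [mul_assoc, lneg_q_mul hext hroot, ← map_mul, sigma_mul_lneg, map_one]
  · ext n
    rw [sub_mul, one_mul, map_sub, mul_assoc, coeff_C_mul]
    rcases n with _ | n
    · simp
    · rw [coeff_succ_X_mul, coeff_mk, coeff_mk, pow_succ', coeff_one, if_neg (Nat.succ_ne_zero n)]; ring

theorem ell_pow_eq (k : ℕ) : ell P e ^ k = ∑ i ∈ range (k + 1),
    (-1) ^ i * LambdaOps.lam i (AdjoinRoot.of (KRR.extPoly P e) e - ell P e) *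
      AdjoinRoot.of (KRR.extPoly P e) (KRR.sigma (k - i) e) := by
  have h := congrArg (coeff k) (sigma_lneg_q hext hroot)
  rw [mul_comm, coeff_mul, Finset.Nat.sum_antidiagonal_eq_sum_range_succ_mk, coeff_mk] at h
  rw [← h]
  simp [coeff_sigma]

theorem f_lam_q {r : ℕ} (hr : P.aug e = r + 1) (he : e ∈ P.pos) (f : Ke P e →ₗ[K] K)
    (hf : ∀ i : ℕ, i ≤ r → f (ell P e ^ i) = KRR.sigma i e) (i : ℕ) :
    f (LambdaOps.lam i (AdjoinRoot.of (KRR.extPoly P e) e - ell P e)) = if i = 0 then 1 else 0 := by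
  have h : lneg (AdjoinRoot.of (KRR.extPoly P e) e - ell P e) =
      PowerSeries.map (AdjoinRoot.of (KRR.extPoly P e)) (lneg e) * PowerSeries.mk fun n => ell P e ^ n := by
    rw [← sigma_lneg_q hext hroot, ← mul_assoc, ← map_mul, mul_comm (lneg e), sigma_mul_lneg, map_one, one_mul]
  have h2 := congrArg (fun s => f (coeff i s)) h
  simp only [coeff_lneg, coeff_mul, map_sum, PowerSeries.coeff_map, coeff_mk] at h2
  rw [show ((-1 : Ke P e) ^ i) = algebraMap K (Ke P e) ((-1) ^ i) by simp, ← Algebra.smul_def, map_smul, smul_eq_mul,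
    Finset.sum_congr rfl (fun p (_ : p ∈ antidiagonal i) => show f (AdjoinRoot.of (KRR.extPoly P e)
      ((-1) ^ p.1 * LambdaOps.lam p.1 e) * ell P e ^ p.2) = coeff p.1 (lneg e) * coeff p.2 (KRR.sigmaSeries e) by
      rw [← AdjoinRoot.algebraMap_eq, ← Algebra.smul_def, map_smul, smul_eq_mul, f_pow hr he f hf, coeff_lneg, coeff_sigma]),
    ← coeff_mul, mul_comm (lneg e), sigma_mul_lneg, coeff_one] at h2
  split_ifs with hi
  · subst hi; simpa using h2
  · rw [if_neg hi] at h2
    exact (IsUnit.mul_right_eq_zero (isUnit_one.neg.pow i)).1 h2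

/-- The expansion of an element through the functional. -/
theorem expansion {r : ℕ} (hr : P.aug e = r + 1) (he : e ∈ P.pos) (f : Ke P e →ₗ[K] K)
    (hf : ∀ i : ℕ, i ≤ r → f (ell P e ^ i) = KRR.sigma i e) (linv : Ke P e) (hl : linv * ell P e = 1) (z : Ke P e) :
    z = ∑ n ∈ range (r + 1), (-1) ^ n * LambdaOps.lam n (AdjoinRoot.of (KRR.extPoly P e) e - ell P e) *
      AdjoinRoot.of (KRR.extPoly P e) (f (z * linv ^ n)) := by
  let φ : Ke P e →ₗ[K] Ke P e := ∑ n ∈ range (r + 1),
    (LinearMap.mulLeft K ((-1) ^ n * LambdaOps.lam n (AdjoinRoot.of (KRR.extPoly P e) e - ell P e))).comp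
      ((Algebra.linearMap K (Ke P e)).comp (f.comp (LinearMap.mulRight K (linv ^ n))))
  have hφ : LinearMap.id = φ := by
    refine hom_ext he hr fun k hk => ?_
    rw [LinearMap.id_apply, LinearMap.sum_apply]
    show _ = ∑ n ∈ range (r + 1), (-1) ^ n * LambdaOps.lam n (AdjoinRoot.of (KRR.extPoly P e) e - ell P e) *
      AdjoinRoot.of (KRR.extPoly P e) (f (ell P e ^ k * linv ^ n))
    rw [ell_pow_eq hext hroot k, ← ell_pow_eq hext hroot k,
      ← Finset.sum_range_add_sum_Ico _ (show k + 1 ≤ r + 1 by omega)]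
    rw [Finset.sum_eq_zero (s := Finset.Ico (k + 1) (r + 1)) (fun n hn => by
      rw [Finset.mem_Ico] at hn
      obtain ⟨a, rfl, ha⟩ : ∃ a, n = k + a ∧ 1 ≤ a := ⟨n - k, by omega, by omega⟩
      rw [pow_add linv, ← mul_assoc (ell P e ^ k), ← mul_pow, mul_comm (ell P e), hl, one_pow, one_mul,
        f_inv_pow hr he f hf linv hl a ha (by omega), map_zero, mul_zero]), add_zero]
    refine (ell_pow_eq hext hroot k).trans (Finset.sum_congr rfl fun n hn => ?_)
    rw [Finset.mem_range] at hn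
    obtain ⟨a, rfl⟩ : ∃ a, k = a + n := ⟨k - n, by omega⟩
    rw [Nat.add_sub_cancel, pow_add (ell P e), mul_assoc (ell P e ^ a), ← mul_pow, mul_comm (ell P e) linv, hl, one_pow,
      mul_one, f_pow hr he f hf]
  have := LinearMap.congr_fun hφ z
  rw [LinearMap.id_apply, LinearMap.sum_apply] at this
  exact this

theorem eq_mul_lamAlt {r : ℕ} (hr : P.aug e = r + 1) (he : e ∈ P.pos) (f : Ke P e →ₗ[K] K)
    (hf : ∀ i : ℕ, i ≤ r → f (ell P e ^ i) = KRR.sigma i e) (z : Ke P e) (hz : z * (1 - ell P e) = 0) :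
    z = AdjoinRoot.of (KRR.extPoly P e) (f z) * ∑ n ∈ range (r + 1),
      (-1) ^ n * LambdaOps.lam n (AdjoinRoot.of (KRR.extPoly P e) e - ell P e) := by
  obtain ⟨linv, hl⟩ := (isUnit_ell he).exists_left_inv
  have hzl : z * linv = z := by
    rw [mul_sub, mul_one, sub_eq_zero] at hz
    conv_lhs => rw [hz, mul_assoc, mul_comm (ell P e), hl, mul_one]
  have hzn : ∀ n, z * linv ^ n = z := fun n => by
    induction n with
    | zero => rw [pow_zero, mul_one]
    | succ n ih => rw [pow_succ, ← mul_assoc, ih, hzl]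
  conv_lhs => rw [expansion hext hroot hr he f hf linv hl z]
  rw [Finset.mul_sum]
  refine Finset.sum_congr rfl fun n _ => ?_
  rw [hzn]; ring

end Ops

end Groth.Agent.KRR3
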