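import Groth.Agent.KRR3.SymPoly
import Groth.Agent.Lambda37.Rat
import Mathlib.NumberTheory.Bernoulli

/-! Truncated exponential, logarithm and Todd series. -/

set_option autoImplicit false

universe u

namespace Groth.Agent.KRR3

open Polynomial Finset Groth.Agent.Lambda37

theorem X_dvd_logPoly (d : ℕ) : (X : ℚ[X]) ∣ logPoly d := by
  rw [Polynomial.X_dvd_iff, Polynomial.coeff_zero_eq_eval_zero, logPoly, Polynomial.eval_finsetSum]
  exact Finset.sum_eq_zero fun n _ => by simp

theorem logPoly_sub_X (d : ℕ) : (X : ℚ[X]) ^ 2 ∣ logPoly d - X := by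
  rw [logPoly, Finset.sum_range_succ', pow_zero, Nat.cast_zero, zero_add, div_one, map_one, one_mul, zero_add, pow_one,
    add_sub_cancel_right]
  exact Finset.dvd_sum fun n _ => Dvd.dvd.mul_left (pow_dvd_pow _ (by omega)) _

theorem derivative_expTrunc (d : ℕ) :
    derivative (KGr.expTrunc d) = KGr.expTrunc d - C (1 / (d.factorial : ℚ)) * X ^ d := by
  rw [KGr.expTrunc, derivative_sum, Finset.sum_range_succ', Finset.sum_range_succ _ d, add_sub_cancel_right]
  simp only [pow_zero, mul_one, derivative_C, add_zero]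
  refine Finset.sum_congr rfl fun k _ => ?_
  rw [derivative_C_mul, derivative_X_pow, Nat.add_sub_cancel, ← mul_assoc, ← map_mul]
  congr 2
  rw [Nat.factorial_succ, Nat.cast_mul]
  field_simp

/-- `exp (log (1+X)) ≡ 1 + X` modulo `X^(d+1)`. -/
theorem exp_log (d : ℕ) : (X : ℚ[X]) ^ (d + 1) ∣ (KGr.expTrunc d).comp (logPoly d) - (1 + X) := by
  set h := (KGr.expTrunc d).comp (logPoly d) with hh
  set g := h - (1 + X) with hg
  have hD : (X : ℚ[X]) ^ d ∣ (1 + X) * derivative g - g := by
    have hlog : (1 + X) * derivative (logPoly d) = 1 - (-X : ℚ[X]) ^ (d + 1) := by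
      rw [derivative_logPoly, show (1 : ℚ[X]) + X = 1 - -X by ring]
      exact mul_neg_geom_sum (-X) (d + 1)
    have e : (1 + X) * derivative g - g = -((-X : ℚ[X]) ^ (d + 1)) * (derivative (KGr.expTrunc d)).comp (logPoly d) -
        C (1 / (d.factorial : ℚ)) * logPoly d ^ d := by
      rw [hg, derivative_sub, derivative_add, derivative_one, derivative_X, hh, derivative_comp, derivative_expTrunc,
        sub_comp, mul_comp, C_comp, X_pow_comp]
      linear_combination ((KGr.expTrunc d).comp (logPoly d) - C (1 / (d.factorial : ℚ)) * logPoly d ^ d) * hlog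
    rw [e]
    refine dvd_sub (Dvd.dvd.mul_right (dvd_neg.2 ?_) _) (Dvd.dvd.mul_left (pow_dvd_pow_of_dvd (X_dvd_logPoly d) _) _)
    exact (pow_dvd_pow X (Nat.le_succ d)).trans (pow_dvd_pow_of_dvd (dvd_neg.2 dvd_rfl) _)
  rw [Polynomial.X_pow_dvd_iff] at hD ⊢
  intro k
  induction k with
  | zero =>
    intro _
    have h0 : (logPoly d).eval 0 = 0 := by
      rw [← Polynomial.coeff_zero_eq_eval_zero]; exact Polynomial.X_dvd_iff.1 (X_dvd_logPoly d)
    rw [hg, Polynomial.coeff_zero_eq_eval_zero, hh, eval_sub, eval_comp, h0, KGr.expTrunc, eval_finsetSum,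
      Finset.sum_eq_single 0]
    · simp
    · intro i _ hi; simp [zero_pow hi]
    · simp
  | succ k ih =>
    intro hk
    have h1 := hD k (by omega)
    rw [coeff_sub, add_mul, one_mul, coeff_add, coeff_derivative, ih (by omega)] at h1
    have h2 : (X * derivative g).coeff k = 0 := by
      rcases k with _ | i
      · rw [coeff_X_mul_zero]
      · rw [coeff_X_mul, coeff_derivative, ih (by omega), zero_mul]
    rw [h2, add_zero, sub_zero] at h1
    exact (mul_eq_zero.1 h1).resolve_right (by positivity)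

/-- `β (exp - 1) ≡ X exp` modulo `X^(d+1)`. -/
theorem todd_exp (d : ℕ) : (X : ℚ[X]) ^ (d + 1) ∣ KGr.toddTrunc d * (KGr.expTrunc d - 1) - X * KGr.expTrunc d := by
  rw [Polynomial.X_pow_dvd_iff]
  intro k hk
  have hcoe : ∀ p q : ℚ[X], ∀ n, (p * q).coeff n = PowerSeries.coeff n ((p : PowerSeries ℚ) * (q : PowerSeries ℚ)) :=
    fun p q n => by rw [← Polynomial.coe_mul, Polynomial.coeff_coe]
  have hE : ∀ n ≤ d, PowerSeries.coeff n ((KGr.expTrunc d : ℚ[X]) : PowerSeries ℚ) = PowerSeries.coeff n (PowerSeries.exp ℚ) := by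
    intro n hn
    rw [Polynomial.coeff_coe, KGr.expTrunc, finsetSum_coeff, PowerSeries.coeff_exp, Finset.sum_eq_single n]
    · simp
    · intro i _ hi; rw [coeff_C_mul_X_pow, if_neg hi.symm]
    · intro h; exact absurd (Finset.mem_range.2 (by omega)) h
  have hB : ∀ n ≤ d, PowerSeries.coeff n ((KGr.toddTrunc d : ℚ[X]) : PowerSeries ℚ) =
      PowerSeries.coeff n (bernoulli'PowerSeries ℚ) := by
    intro n hn
    rw [Polynomial.coeff_coe, KGr.toddTrunc, finsetSum_coeff, bernoulli'PowerSeries, PowerSeries.coeff_mk, Finset.sum_eq_single n]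
    · simp
    · intro i _ hi; rw [coeff_C_mul_X_pow, if_neg hi.symm]
    · intro h; exact absurd (Finset.mem_range.2 (by omega)) h
  rw [coeff_sub, sub_eq_zero, hcoe, hcoe, Polynomial.coe_sub, Polynomial.coe_one, Polynomial.coe_X,
    PowerSeries.coeff_mul, PowerSeries.coeff_mul]
  have h := congrArg (PowerSeries.coeff k) (bernoulli'PowerSeries_mul_exp_sub_one ℚ)
  rw [PowerSeries.coeff_mul, PowerSeries.coeff_mul] at h
  refine Eq.trans (Finset.sum_congr rfl fun p hp => ?_) (h.trans (Finset.sum_congr rfl fun p hp => ?_))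
  · rw [Finset.HasAntidiagonal.mem_antidiagonal] at hp
    rw [map_sub, map_sub, hB p.1 (by omega), hE p.2 (by omega)]
  · rw [Finset.HasAntidiagonal.mem_antidiagonal] at hp
    rw [hE p.2 (by omega)]

/-- `β(log (1+X)) X ≡ (1+X) log (1+X)` modulo `X^(d+1)`. -/
theorem todd_log (d : ℕ) :
    (X : ℚ[X]) ^ (d + 1) ∣ (KGr.toddTrunc d).comp (logPoly d) * X - (1 + X) * logPoly d := by
  obtain ⟨r, hr⟩ := todd_exp d
  obtain ⟨s, hs⟩ := exp_log d
  obtain ⟨l, hl⟩ := X_dvd_logPoly d
  have h := congrArg (fun p : ℚ[X] => p.comp (logPoly d)) hr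
  simp only [sub_comp, mul_comp, X_comp, one_comp, pow_comp] at h
  refine ⟨l ^ (d + 1) * r.comp (logPoly d) - s * (KGr.toddTrunc d).comp (logPoly d) + s * logPoly d, ?_⟩
  have hp : logPoly d ^ (d + 1) = X ^ (d + 1) * l ^ (d + 1) := by rw [hl, mul_pow]
  linear_combination h + (logPoly d - (KGr.toddTrunc d).comp (logPoly d)) * hs + r.comp (logPoly d) * hp

end Groth.Agent.KRR3
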