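import Groth.Agent.KRR3.Graded
import Groth.Agent.KRR3.ExpLog
import Groth.Prelude.Def_W4bkmilneecrracsp2Inv
import Mathlib.RingTheory.Flat.Basic
import Mathlib.RingTheory.Flat.Localization

/-! The Chern character is the eigenspace decomposition. -/

set_option autoImplicit false
set_option linter.style.haveILetI false

universe u

open scoped TensorProduct

namespace Groth.Agent.KRR3

open LambdaRing Finset Groth.Agent.Lambda37

section Sym

open MvPolynomial

variable {m : ℕ}

/-- A polynomial in one variable put in the `i`-th variable. -/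
noncomputable def inVar (g : Polynomial ℚ) (i : Fin m) : MvPolynomial (Fin m) ℚ :=
  Polynomial.aeval (MvPolynomial.X i : MvPolynomial (Fin m) ℚ) g

theorem isSymmetric_subst (g : Polynomial ℚ) {q : MvPolynomial (Fin m) ℚ} (hq : q.IsSymmetric) :
    (aeval (inVar g) q).IsSymmetric := by
  intro σ
  have hcomm : (rename σ).comp (aeval (inVar g)) = (aeval (inVar g)).comp (rename σ) := by
    apply MvPolynomial.algHom_ext
    intro i
    rw [AlgHom.comp_apply, AlgHom.comp_apply, aeval_X, rename_X, aeval_X, inVar, inVar, ← Polynomial.aeval_algHom_apply,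
      rename_X]
  have := AlgHom.congr_fun hcomm q
  simp only [AlgHom.comp_apply, hq σ] at this
  exact this

theorem inVar_mem {g : Polynomial ℚ} {r : ℕ} (h : (Polynomial.X : Polynomial ℚ) ^ r ∣ g) (i : Fin m) :
    inVar g i ∈ idealOfVars (Fin m) ℚ ^ r := by
  obtain ⟨k, rfl⟩ := h
  rw [inVar, map_mul, map_pow, Polynomial.aeval_X]
  exact Ideal.mul_mem_right _ _ (Ideal.pow_mem_pow (Ideal.subset_span (Set.mem_range_self i)) r)

theorem prod_sub_mem {R : Type*} [CommRing R] (I : Ideal R) {ι : Type*} (t : Finset ι) (a b : ι → R)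
    (ha : ∀ i ∈ t, a i ∈ I) (hb : ∀ i ∈ t, b i ∈ I) (h : ∀ i ∈ t, a i - b i ∈ I ^ 2) :
    (∏ i ∈ t, a i) ∈ I ^ t.card ∧ (∏ i ∈ t, a i) - ∏ i ∈ t, b i ∈ I ^ (t.card + 1) := by
  classical
  induction t using Finset.induction with
  | empty => simp
  | insert j t hj ih =>
    obtain ⟨h1, h2⟩ := ih (fun i hi => ha i (Finset.mem_insert_of_mem hi)) (fun i hi => hb i (Finset.mem_insert_of_mem hi))
      fun i hi => h i (Finset.mem_insert_of_mem hi)
    rw [Finset.prod_insert hj, Finset.prod_insert hj, Finset.card_insert_of_notMem hj]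
    refine ⟨pow_succ' I t.card ▸ Ideal.mul_mem_mul (ha j (Finset.mem_insert_self _ _)) h1, ?_⟩
    rw [show a j * ∏ i ∈ t, a i - b j * ∏ i ∈ t, b i =
      (a j - b j) * ∏ i ∈ t, a i + b j * (∏ i ∈ t, a i - ∏ i ∈ t, b i) by ring]
    refine add_mem ?_ ?_
    · rw [show t.card + 1 + 1 = 2 + t.card by omega, pow_add]
      exact Ideal.mul_mem_mul (h j (Finset.mem_insert_self _ _)) h1
    · rw [pow_succ']
      exact Ideal.mul_mem_mul (hb j (Finset.mem_insert_self _ _)) h2

theorem prod_congr_mem {R : Type*} [CommRing R] (I : Ideal R) {ι : Type*} (t : Finset ι) (a b : ι → R)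
    (h : ∀ i ∈ t, a i - b i ∈ I) : (∏ i ∈ t, a i) - ∏ i ∈ t, b i ∈ I := by
  rw [← Ideal.Quotient.eq, map_prod, map_prod]
  exact Finset.prod_congr rfl fun i hi => Ideal.Quotient.eq.2 (h i hi)

theorem aeval_inVar {S : Type u} [CommRing S] [Algebra ℚ S] (Y : Fin m → S) (g : Polynomial ℚ) (i : Fin m) :
    aeval Y (inVar g i) = Polynomial.aeval (Y i) g := by
  rw [inVar, ← Polynomial.aeval_algHom_apply, aeval_X]

theorem aeval_esymm_subst (g : Polynomial ℚ) (k : ℕ) :
    aeval (inVar (m := m) g) (esymm (Fin m) ℚ k) = ∑ t ∈ powersetCard k univ, ∏ i ∈ t, inVar g i := by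
  simp [esymm]

end Sym

variable {K : Type u} [CommRing K] [LambdaOps K] {P : PosStructure K}

/-- The rationalised graded Chern classes. -/
noncomputable def gcls (hK : HasSplitting K P) (d : ℕ) (x : K) (k : ℕ) : ℚ ⊗[ℤ] K :=
  proj hK d k ((1 : ℚ) ⊗ₜ[ℤ] gamma k (x - (P.aug x : K)))

/-- The Chern series. -/
noncomputable def gser (hK : HasSplitting K P) (d : ℕ) (x : K) : PowerSeries (ℚ ⊗[ℤ] K) :=
  PowerSeries.mk (gcls hK d x)

/-- The logarithms of the lines. -/
noncomputable def logs (d : ℕ) {m : ℕ} {S : Type u} [CommRing S] [Algebra ℚ S] (Y : Fin m → S) (i : Fin m) : S :=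
  Polynomial.aeval (Y i) (logPoly d)

/-- The rationalisation of a ring map. -/
noncomputable def baseQ {K' : Type u} [CommRing K'] (f : K →+* K') : ℚ ⊗[ℤ] K →ₐ[ℚ] ℚ ⊗[ℤ] K' :=
  Algebra.TensorProduct.map (AlgHom.id ℚ ℚ) f.toIntAlgHom

omit [LambdaOps K] in
theorem baseQ_tmul {K' : Type u} [CommRing K'] (f : K →+* K') (q : ℚ) (x : K) : baseQ f (q ⊗ₜ[ℤ] x) = q ⊗ₜ[ℤ] f x := rfl

omit [LambdaOps K] in
theorem baseQ_injective {K' : Type u} [CommRing K'] {f : K →+* K'} (hf : Function.Injective f) :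
    Function.Injective (baseQ f) := by
  haveI : Module.Flat ℤ ℚ := IsLocalization.flat ℚ (nonZeroDivisors ℤ)
  have h := Module.Flat.lTensor_preserves_injective_linearMap (M := ℚ) f.toAddMonoidHom.toIntLinearMap hf
  have heq : ⇑(baseQ f) = ⇑(LinearMap.lTensor ℚ f.toAddMonoidHom.toIntLinearMap) := by
    funext v
    induction v using TensorProduct.induction_on with
    | zero => simp
    | tmul q x => rfl
    | add a b ha hb => rw [map_add, map_add, ha, hb]
  rw [heq]
  exact h

theorem baseQ_psi (hK : HasSplitting K P) {K' : Type u} [CommRing K'] [LambdaOps K'] {P' : PosStructure K'}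
    (hK' : HasSplitting K' P') {f : K →+* K'} (hf : IsExtension P P' f) (v : ℚ ⊗[ℤ] K) :
    baseQ f (psi hK 2 v) = psi hK' 2 (baseQ f v) := by
  induction v using TensorProduct.induction_on with
  | zero => simp
  | tmul q x => rw [psi_tmul, baseQ_tmul, baseQ_tmul, psi_tmul, map_adams hf]
  | add a b ha hb => simp only [map_add, ha, hb]

/-- The centred lines of a splitting. -/
noncomputable def cent {K' : Type u} [CommRing K'] {m : ℕ} (U : Fin m → K') (i : Fin m) : ℚ ⊗[ℤ] K' :=
  (1 : ℚ) ⊗ₜ[ℤ] (U i - 1)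

theorem baseQ_gamma {e : K} (he : e ∈ P.pos) {K' : Type u} [CommRing K'] [LambdaOps K'] {P' : PosStructure K'}
    {f : K →+* K'} (hf : IsExtension P P' f) {m : ℕ} (hm : (P.aug e).toNat = m) (U : Fin m → K')
    (hU : ∀ i, P'.IsLine (U i)) (hsum : ∑ i, U i = f e) (k : ℕ) :
    baseQ f ((1 : ℚ) ⊗ₜ[ℤ] gamma k (e - (m : K))) = ((univ : Finset (Fin m)).val.map (cent U)).esymm k := by
  have hl : ∀ v ∈ (univ : Finset (Fin m)).val.map U, P'.IsLine v := fun v hv => by
    obtain ⟨i, -, rfl⟩ := Multiset.mem_map.1 hv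
    exact hU i
  obtain ⟨-, -, hgam⟩ := gamma_split he hf hl hsum
  rw [hm] at hgam
  rw [baseQ_tmul, hgam, Multiset.map_map,
    show (1 : ℚ) ⊗ₜ[ℤ] ((univ : Finset (Fin m)).val.map ((· - 1) ∘ U)).esymm k =
      (Algebra.TensorProduct.includeRight : K' →ₐ[ℤ] ℚ ⊗[ℤ] K') (((univ : Finset (Fin m)).val.map ((· - 1) ∘ U)).esymm k)
      from rfl, Multiset.esymm, map_multiset_sum, Multiset.map_map, Multiset.esymm,
    show (univ : Finset (Fin m)).val.map (cent U) = ((univ : Finset (Fin m)).val.map ((· - 1) ∘ U)).map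
      (Algebra.TensorProduct.includeRight : K' →ₐ[ℤ] ℚ ⊗[ℤ] K') by rw [Multiset.map_map]; rfl,
    Multiset.powersetCard_map]
  simp only [Multiset.powersetCard_map, Multiset.map_map]
  exact congrArg _ (Multiset.map_congr rfl fun t _ => by
    simp only [Function.comp_apply, map_multiset_prod, Multiset.map_map])

section Split

variable (hK : HasSplitting K P) {d : ℕ} (hd : gammaFiltration P (d + 1) = ⊥)
  {e : K} (he : e ∈ P.pos) {m : ℕ} (hm : (P.aug e).toNat = m)

include hd he hm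

/-- Symmetric expressions of order above `d` vanish in every splitting. -/
theorem eval_low {S : Type u} [CommRing S] [Algebra ℚ S] (F : ℚ ⊗[ℤ] K →ₐ[ℚ] S) (Y : Fin m → S)
    (hY : ∀ k, F ((1 : ℚ) ⊗ₜ[ℤ] gamma k (e - (m : K))) = ((univ : Finset (Fin m)).val.map Y).esymm k)
    {p : MvPolynomial (Fin m) ℚ} (hp : p.IsSymmetric) (hr : p ∈ MvPolynomial.idealOfVars (Fin m) ℚ ^ (d + 1)) :
    MvPolynomial.aeval Y p = 0 := by
  obtain ⟨v, hv, hv'⟩ := exists_eval_symm (qFilt_wfilt (P := P)) (fun k => (1 : ℚ) ⊗ₜ[ℤ] gamma k (e - (m : K)))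
    (fun k => qFilt_mem_tmul _ (gamma_mem_filt P _ (hm ▸ aug_pos_sub P he))) hp hr
  rw [qFilt_bot hd le_rfl, Submodule.mem_bot] at hv
  rw [← hv' S F Y fun k => hY (k + 1), hv, map_zero]

include hK

/-- The graded Chern classes are the elementary functions of the logarithms. -/
theorem gcls_eq {S : Type u} [CommRing S] [Algebra ℚ S] (F : ℚ ⊗[ℤ] K →ₐ[ℚ] S) (Y : Fin m → S)
    (hY : ∀ k, F ((1 : ℚ) ⊗ₜ[ℤ] gamma k (e - (m : K))) = ((univ : Finset (Fin m)).val.map Y).esymm k) (k : ℕ) :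
    F (gcls hK d e k) = ((univ : Finset (Fin m)).val.map (logs d Y)).esymm k := by
  set M := MvPolynomial.idealOfVars (Fin m) ℚ
  set p := MvPolynomial.aeval (inVar (m := m) (logPoly d)) (MvPolynomial.esymm (Fin m) ℚ k) with hp
  have hlm : ∀ i : Fin m, inVar (logPoly d) i ∈ M := fun i => by
    simpa using inVar_mem (r := 1) (by simpa using X_dvd_logPoly d) i
  have hpair : ∀ t : Finset (Fin m), (∏ i ∈ t, inVar (logPoly d) i) ∈ M ^ t.card ∧
      (∏ i ∈ t, inVar (logPoly d) i) - ∏ i ∈ t, MvPolynomial.X i ∈ M ^ (t.card + 1) := fun t => by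
    refine prod_sub_mem M t _ _ (fun i _ => hlm i) (fun i _ => Ideal.subset_span (Set.mem_range_self i)) fun i _ => ?_
    have := inVar_mem (r := 2) (logPoly_sub_X d) i
    rwa [inVar, map_sub, Polynomial.aeval_X] at this
  have hpk : p ∈ M ^ k := by
    rw [hp, aeval_esymm_subst]
    refine Ideal.sum_mem _ fun t ht => ?_
    rw [← (Finset.mem_powersetCard.1 ht).2]
    exact (hpair t).1
  have hpsub : p - MvPolynomial.esymm (Fin m) ℚ k ∈ M ^ (k + 1) := by
    rw [hp, aeval_esymm_subst, MvPolynomial.esymm, ← Finset.sum_sub_distrib]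
    refine Ideal.sum_mem _ fun t ht => ?_
    rw [← (Finset.mem_powersetCard.1 ht).2]
    exact (hpair t).2
  have hsym : p.IsSymmetric := isSymmetric_subst _ (MvPolynomial.esymm_isSymmetric _ _ _)
  set cc : ℕ → ℚ ⊗[ℤ] K := fun j => (1 : ℚ) ⊗ₜ[ℤ] gamma j (e - (m : K)) with hcc
  have hc : ∀ j, cc (j + 1) ∈ qFilt P (j + 1) := fun j =>
    qFilt_mem_tmul _ (gamma_mem_filt P _ (hm ▸ aug_pos_sub P he))
  obtain ⟨v, -, hv'⟩ := exists_eval_symm (qFilt_wfilt (P := P)) _ hc hsym hpk
  obtain ⟨w, hw, hw'⟩ := exists_eval_symm (qFilt_wfilt (P := P)) _ hc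
    (hsym.sub (MvPolynomial.esymm_isSymmetric _ _ _)) hpsub
  have hval : ∀ (S : Type u) [CommRing S] [Algebra ℚ S] (Y : Fin m → S),
      MvPolynomial.aeval Y p = ((univ : Finset (Fin m)).val.map (logs d Y)).esymm k := by
    intro S _ _ Y
    rw [hp, ← AlgHom.comp_apply, MvPolynomial.comp_aeval, MvPolynomial.aeval_esymm_eq_multiset_esymm]
    simp only [aeval_inVar]
    rfl
  -- verification in a splitting
  obtain ⟨L, f, hL, hf, hs⟩ := exists_split' hK [e] (by simp [he])
  obtain ⟨s, hsl, hsum⟩ := hs e (by simp)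
  obtain ⟨hcard, -, -⟩ := gamma_split he hf hsl hsum
  obtain ⟨U, hU⟩ := exists_enum s (hcard.trans hm)
  have hUl : ∀ i, L.posStr.IsLine (U i) := fun i => hsl _ (hU ▸ Multiset.mem_map_of_mem U (mem_univ_val i))
  have hYL : ∀ j, baseQ f ((1 : ℚ) ⊗ₜ[ℤ] gamma j (e - (m : K))) = ((univ : Finset (Fin m)).val.map (cent U)).esymm j :=
    baseQ_gamma he hf hm U hUl (by rw [← hsum, ← hU]; rfl)
  have hinj := baseQ_injective hf.injective
  have hvw : v - (1 : ℚ) ⊗ₜ[ℤ] gamma k (e - (m : K)) = w := by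
    apply hinj
    rw [map_sub, hv' _ _ _ fun j => hYL (j + 1), hYL, hw' _ _ _ fun j => hYL (j + 1), map_sub,
      MvPolynomial.aeval_esymm_eq_multiset_esymm]
  have hvV : v ∈ V hK k := by
    rw [mem_V]
    apply hinj
    rw [baseQ_psi hK hL hf, map_smul, hv' _ _ _ fun j => hYL (j + 1), MvPolynomial.comp_aeval_apply]
    set g2 : Polynomial ℚ := (logPoly d).comp ((1 + Polynomial.X) ^ 2 - 1) with hg2
    set q := MvPolynomial.aeval (inVar (m := m) g2) (MvPolynomial.esymm (Fin m) ℚ k) - (2 : ℚ) ^ k • p with hq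
    have hqsym : q.IsSymmetric := by
      refine (isSymmetric_subst _ (MvPolynomial.esymm_isSymmetric _ _ _)).sub ?_
      intro σ
      rw [map_smul, hsym σ]
    have hqmem : q ∈ M ^ (d + 1) := by
      rw [hq, hp, aeval_esymm_subst, aeval_esymm_subst, Finset.smul_sum, ← Finset.sum_sub_distrib]
      refine Ideal.sum_mem _ fun t ht => ?_
      rw [Algebra.smul_def, map_pow, ← (Finset.mem_powersetCard.1 ht).2, ← Finset.prod_const, ← Finset.prod_mul_distrib]
      refine prod_congr_mem _ t _ _ fun i _ => ?_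
      have := inVar_mem (m := m) (logPoly_comp d 2) i
      rw [inVar, map_sub, map_mul, map_natCast, Nat.cast_ofNat] at this
      simpa [inVar, hg2, map_ofNat] using this
    have h0 := eval_low hd he hm (baseQ f) (cent U) hYL hqsym hqmem
    rw [map_sub, map_smul, sub_eq_zero] at h0
    refine Eq.trans ?_ h0
    rw [MvPolynomial.comp_aeval_apply,
      MvPolynomial.comp_aeval_apply, MvPolynomial.aeval_esymm_eq_multiset_esymm, MvPolynomial.aeval_esymm_eq_multiset_esymm]
    congr 2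
    funext i
    rw [show (fun j => psi hL 2 (cent U j)) = fun j => psi hL 2 (cent U j) from rfl]
    have hpsiY : ∀ j, psi hL 2 (cent U j) = Polynomial.aeval (cent U j) ((1 + Polynomial.X : Polynomial ℚ) ^ 2 - 1) := by
      intro j
      rw [cent, psi_tmul, ← adamsRingHom_apply hL, map_sub, map_one, adamsRingHom_apply, adams_line _ (hUl j), map_sub,
        map_pow, map_add, map_one, Polynomial.aeval_X, TensorProduct.tmul_sub, TensorProduct.tmul_sub,
        ← Algebra.TensorProduct.one_def, add_sub_cancel, Algebra.TensorProduct.tmul_pow, one_pow]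
    rw [aeval_inVar, aeval_inVar, hg2, Polynomial.aeval_comp, ← hpsiY, Polynomial.aeval_algHom_apply]
  have hgc : gcls hK d e k = v := by
    rw [gcls, aug_e P he, hm, Int.cast_natCast]
    refine proj_congr hK hd hvV ?_
    rw [← neg_sub, hvw]
    exact neg_mem hw
  rw [hgc, hv' S F Y fun j => hY (j + 1), hval]

theorem esymm_logs_eq_zero {S : Type u} [CommRing S] [Algebra ℚ S] (F : ℚ ⊗[ℤ] K →ₐ[ℚ] S) (Y : Fin m → S)
    (hY : ∀ k, F ((1 : ℚ) ⊗ₜ[ℤ] gamma k (e - (m : K))) = ((univ : Finset (Fin m)).val.map Y).esymm k) (k : ℕ)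
    (hk : d < k) : ((univ : Finset (Fin m)).val.map (logs d Y)).esymm k = 0 := by
  rw [← gcls_eq hK hd he hm F Y hY k]
  have h := proj_mem hK hd k ((1 : ℚ) ⊗ₜ[ℤ] gamma k (e - (P.aug e : K)))
  rw [V_bot hK hd hk, Submodule.mem_bot] at h
  rw [gcls, h, map_zero]

end Split

section Main

variable (hK : HasSplitting K P) {d : ℕ} (hd : gammaFiltration P (d + 1) = ⊥)

include hd

theorem constantCoeff_gser (x : K) : PowerSeries.constantCoeff (gser hK d x) = 1 := by
  rw [← PowerSeries.coeff_zero_eq_constantCoeff_apply, gser, PowerSeries.coeff_mk, gcls, gamma_zero,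
    ← Algebra.TensorProduct.one_def]
  exact proj_one hK hd

theorem gser_add (x y : K) : gser hK d (x + y) = gser hK d x * gser hK d y := by
  ext k
  rw [gser, PowerSeries.coeff_mk, PowerSeries.coeff_mul, gcls, map_add, Int.cast_add,
    show x + y - ((P.aug x : K) + (P.aug y : K)) = (x - (P.aug x : K)) + (y - (P.aug y : K)) by ring, gamma_add',
    TensorProduct.tmul_sum, map_sum, Finset.Nat.sum_antidiagonal_eq_sum_range_succ_mk]
  refine Finset.sum_congr rfl fun i hi => ?_
  rw [Finset.mem_range] at hi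
  rw [gser, gser, PowerSeries.coeff_mk, PowerSeries.coeff_mk, gcls, gcls]
  obtain ⟨j, rfl⟩ : ∃ j, k = i + j := ⟨k - i, by omega⟩
  rw [Nat.add_sub_cancel_left, ← proj_mul hK hd (qFilt_mem_tmul _ (gamma_mem_filt P i (by simp)))
    (qFilt_mem_tmul _ (gamma_mem_filt P j (by simp))), Algebra.TensorProduct.tmul_mul_tmul, one_mul]

theorem grVal_chern (x : K) (k : ℕ) : grVal hK hd (KGr.chern P k x) = gcls hK d x k :=
  grVal_grK hK hd k ⟨1, le_rfl, by rw [Nat.cast_one, one_mul]; exact gamma_mem_filt P k (by simp)⟩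

theorem grVal_aeval {n : ℕ} (g : Fin n → KGr.Gr P) (p : MvPolynomial (Fin n) ℚ) :
    grVal hK hd (MvPolynomial.aeval g p) = MvPolynomial.aeval (fun i => grVal hK hd (g i)) p := by
  induction p using MvPolynomial.induction_on with
  | C a =>
    rw [MvPolynomial.aeval_C, MvPolynomial.aeval_C, AlgHom.commutes]
  | add p q hp hq => simp only [map_add, hp, hq]
  | mul_X p i hp => simp only [map_mul, hp, MvPolynomial.aeval_X]

/-- The additive form of the Chern character. -/
noncomputable def chVal (x : K) : ℚ ⊗[ℤ] K :=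
  (P.aug x : ℚ ⊗[ℤ] K) + ∑ j ∈ range d, algebraMap ℚ _ (1 / ((j + 1).factorial : ℚ)) * dlc (gser hK d x) (j + 1)

theorem grVal_chK (x : K) : grVal hK hd (KGr.chK P d x) = chVal hK (d := d) x := by
  rw [KGr.chK, map_add, AlgHom.commutes, grVal_aeval hK hd]
  simp only [grVal_chern]
  have h := aeval_chPoly (d := d) (constantCoeff_gser hK hd x)
  simp only [gser, PowerSeries.coeff_mk] at h
  rw [h, chVal, map_sub, map_natCast, map_intCast, gser]
  ring

theorem chVal_add (x y : K) : chVal hK (d := d) (x + y) = chVal hK (d := d) x + chVal hK (d := d) y := by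
  simp only [chVal, gser_add hK hd, dlc_mul (constantCoeff_gser hK hd x) (constantCoeff_gser hK hd y), mul_add,
    Finset.sum_add_distrib, map_add, Int.cast_add]
  ring

theorem chVal_pos {e : K} (he : e ∈ P.pos) : chVal hK (d := d) e = (1 : ℚ) ⊗ₜ[ℤ] e := by
  obtain ⟨L, f, hL, hf, hs⟩ := exists_split' hK [e] (by simp [he])
  obtain ⟨s, hsl, hsum⟩ := hs e (by simp)
  obtain ⟨hcard, -, -⟩ := gamma_split he hf hsl hsum
  set m := (P.aug e).toNat with hm
  obtain ⟨U, hU⟩ := exists_enum s hcard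
  have hUl : ∀ i, L.posStr.IsLine (U i) := fun i => hsl _ (hU ▸ Multiset.mem_map_of_mem U (mem_univ_val i))
  have hUsum : ∑ i, U i = f e := by rw [← hsum, ← hU]; rfl
  have hY := baseQ_gamma he hf hm.symm U hUl hUsum
  apply baseQ_injective hf.injective
  set Y := cent U
  have hser : PowerSeries.map (baseQ f).toRingHom (gser hK d e) =
      (((univ : Finset (Fin m)).val.map (logs d Y)).map fun a => 1 + PowerSeries.C a * PowerSeries.X).prod := by
    ext k
    rw [PowerSeries.coeff_map, gser, PowerSeries.coeff_mk, coeff_mprod_linear]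
    exact gcls_eq hK hd he hm.symm (baseQ f) Y hY k
  have hdlc : ∀ j, baseQ f (dlc (gser hK d e) (j + 1)) = ∑ i, logs d Y i ^ (j + 1) := fun j => by
    show (baseQ f).toRingHom _ = _
    rw [map_dlc _ (constantCoeff_gser hK hd e), hser, dlc_mprod _ (Nat.le_add_left 1 j), Multiset.map_map]
    rfl
  rw [chVal, map_add, map_intCast, map_sum]
  simp only [map_mul, AlgHom.commutes, hdlc, Finset.mul_sum]
  rw [Finset.sum_comm, show ((P.aug e : ℤ) : ℚ ⊗[ℤ] L.carrier) = ∑ _i : Fin m, (1 : ℚ ⊗[ℤ] L.carrier) by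
    rw [aug_e P he, Int.cast_natCast]; simp [hm], ← Finset.sum_add_distrib, baseQ_tmul, ← hUsum, TensorProduct.tmul_sum]
  have hterm : ∀ i, (1 : ℚ ⊗[ℤ] L.carrier) + ∑ j ∈ range d, algebraMap ℚ _ (1 / ((j + 1).factorial : ℚ)) * logs d Y i ^ (j + 1) =
      Polynomial.aeval (Y i) ((KGr.expTrunc d).comp (logPoly d)) := fun i => by
    rw [Polynomial.aeval_comp, KGr.expTrunc, map_sum, Finset.sum_range_succ' _ d, add_comm]
    simp [logs]
  simp only [hterm]
  set g : Polynomial ℚ := (KGr.expTrunc d).comp (logPoly d) - (1 + Polynomial.X) with hg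
  have h0 : MvPolynomial.aeval Y (∑ i : Fin m, inVar g i) = 0 := by
    refine eval_low hd he hm.symm (baseQ f) Y hY (KGr.isSymmetric_sum_aeval m g) (Ideal.sum_mem _ fun i _ => ?_)
    exact inVar_mem (exp_log d) i
  rw [map_sum] at h0
  simp only [aeval_inVar, hg, map_sub, map_add, map_one, Polynomial.aeval_X, Finset.sum_sub_distrib, sub_eq_zero] at h0
  rw [h0]
  refine Finset.sum_congr rfl fun i _ => ?_
  show 1 + cent U i = _
  rw [cent, TensorProduct.tmul_sub, ← Algebra.TensorProduct.one_def, add_sub_cancel]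

theorem chVal_eq (x : K) : chVal hK (d := d) x = (1 : ℚ) ⊗ₜ[ℤ] x := by
  obtain ⟨e, f, he, hf, rfl⟩ := P.exists_sub x
  have h := chVal_add hK hd (e - f) f
  rw [sub_add_cancel, chVal_pos hK hd he, chVal_pos hK hd hf] at h
  rw [TensorProduct.tmul_sub, h, add_sub_cancel_right]

theorem grVal_chK_eq (x : K) : grVal hK hd (KGr.chK P d x) = (1 : ℚ) ⊗ₜ[ℤ] x :=
  (grVal_chK hK hd x).trans (chVal_eq hK hd x)

include hK

theorem exists_chern_equiv : ∃ Φ : TensorProduct ℤ ℚ K →ₗ[ℚ] KGr.Gr P,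
    (∀ x : K, Φ ((1 : ℚ) ⊗ₜ[ℤ] x) = KGr.chK P d x) ∧ Function.Bijective Φ := by
  let Θ := AlgEquiv.ofBijective (grVal hK hd) (grVal_bijective hK hd)
  refine ⟨Θ.symm.toLinearMap, fun x => ?_, Θ.symm.bijective⟩
  show Θ.symm _ = _
  rw [AlgEquiv.symm_apply_eq]
  exact (grVal_chK_eq hK hd x).symm

theorem chK_mul (x y : K) :
    KGr.chK P d (x * y) = KGr.chK P d x * KGr.chK P d y ∧ KGr.chK P d 1 = 1 := by
  constructor
  · apply (grVal_bijective hK hd).1
    rw [map_mul, grVal_chK_eq, grVal_chK_eq, grVal_chK_eq, Algebra.TensorProduct.tmul_mul_tmul, one_mul]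
  · apply (grVal_bijective hK hd).1
    rw [grVal_chK_eq, map_one, Algebra.TensorProduct.one_def]

theorem tdK_mul_chK (inv : K → K) (hS : HasInvSplitting P inv) {e : K} (he : e ∈ P.pos) :
    KGr.tdK P d e * KGr.chK P d (∑ i ∈ range ((P.aug e).toNat + 1), (-1 : K) ^ i * LambdaOps.lam i (inv e)) =
      KGr.chern P (P.aug e).toNat e := by
  apply (grVal_bijective hK hd).1
  rw [map_mul, grVal_chK_eq, grVal_chern, KGr.tdK, grVal_aeval hK hd]
  simp only [grVal_chern]
  obtain ⟨L, inv', f, hf, hV', hcomm, s, hsl, hsum⟩ := hS e he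
  obtain ⟨hcard, -, -⟩ := gamma_split he hf hsl hsum
  set m := (P.aug e).toNat with hm
  obtain ⟨U, hU⟩ := exists_enum s hcard
  have hUl : ∀ i, L.posStr.IsLine (U i) := fun i => hsl _ (hU ▸ Multiset.mem_map_of_mem U (mem_univ_val i))
  have hUsum : ∑ i, U i = f e := by rw [← hsum, ← hU]; rfl
  have hY := baseQ_gamma he hf hm.symm U hUl hUsum
  apply baseQ_injective hf.injective
  set Y := cent U with hYdef
  set l := logs d Y with hl
  have hc := gcls_eq hK hd he hm.symm (baseQ f) Y hY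
  rw [map_mul, hc, MvPolynomial.comp_aeval_apply]
  simp only [hc]
  rw [KGr.toddPoly, ← prod_eval_eq _ (toddTrunc_eval d) _ (esymm_logs_eq_zero hK hd he hm.symm (baseQ f) Y hY),
    Multiset.map_map]
  have hinvU : ∀ i, L.posStr.IsLine (inv' (U i)) := fun i => hV'.inv_line _ (hUl i)
  have hla : f (∑ i ∈ range (m + 1), (-1 : K) ^ i * LambdaOps.lam i (inv e)) = ∏ i, (1 - inv' (U i)) := by
    let invHom : L.carrier →+ L.carrier := AddMonoidHom.mk' inv' hV'.map_add
    have hsum' : ((univ : Finset (Fin m)).val.map fun i => inv' (U i)).sum = f (inv e) := by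
      rw [hcomm, ← hUsum]
      exact (map_sum invHom U univ).symm
    simp only [map_sum, map_mul, map_pow, map_neg, map_one, hf.isLambdaHom _ (inv e), ← hsum']
    have hlam : ∀ k, LambdaOps.lam k ((univ : Finset (Fin m)).val.map fun i => inv' (U i)).sum =
        ((univ : Finset (Fin m)).val.map fun i => inv' (U i)).esymm k :=
      lam_msum fun v hv => by
        obtain ⟨i, -, rfl⟩ := Multiset.mem_map.1 hv
        exact line_lam _ (hinvU i)
    simp only [hlam]
    rw [alt_sum _ _ (by simp), Multiset.map_map]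
    rfl
  rw [baseQ_tmul, hla,
    show (1 : ℚ) ⊗ₜ[ℤ] (∏ i, (1 - inv' (U i))) = ∏ i, (1 : ℚ) ⊗ₜ[ℤ] (1 - inv' (U i)) from
      map_prod (Algebra.TensorProduct.includeRight : L.carrier →ₐ[ℤ] ℚ ⊗[ℤ] L.carrier) _ _]
  have hy : ∀ i, ((1 : ℚ) ⊗ₜ[ℤ] U i) = 1 + Y i := fun i => by
    rw [hYdef, cent, TensorProduct.tmul_sub, ← Algebra.TensorProduct.one_def, add_sub_cancel]
  have hunit : IsUnit (∏ i, (1 + Y i)) :=
    IsUnit.prod_iff.2 fun i _ => by
      rw [← hy i]
      exact (line_isUnit _ (hUl i)).map (Algebra.TensorProduct.includeRight : L.carrier →ₐ[ℤ] ℚ ⊗[ℤ] L.carrier)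
  apply hunit.mul_left_injective
  show _ * (∏ i, (1 + Y i)) = _ * _
  rw [show ((univ : Finset (Fin m)).val.map ((fun a => Polynomial.aeval a (KGr.toddTrunc d)) ∘ l)).prod =
      ∏ i, Polynomial.aeval (l i) (KGr.toddTrunc d) from rfl]
  have hterm : ∀ i, (1 : ℚ) ⊗ₜ[ℤ] (1 - inv' (U i)) * (1 + Y i) = Y i := fun i => by
    rw [← hy i, Algebra.TensorProduct.tmul_mul_tmul, one_mul, sub_mul, one_mul, hV'.inv_mul_self _ (hUl i)]
    rfl
  rw [mul_assoc, ← Finset.prod_mul_distrib, Finset.prod_congr rfl fun i _ => hterm i, ← Finset.prod_mul_distrib,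
    show ((univ : Finset (Fin m)).val.map l).esymm m = ∏ i, l i by
      have := esymm_card ((univ : Finset (Fin m)).val.map l)
      rwa [Multiset.card_map, card_val, card_fin] at this,
    ← Finset.prod_mul_distrib]
  set g1 : Polynomial ℚ := (KGr.toddTrunc d).comp (logPoly d) * Polynomial.X
  set g2 : Polynomial ℚ := logPoly d * (1 + Polynomial.X)
  have h0 : MvPolynomial.aeval Y ((∏ i : Fin m, inVar g1 i) - ∏ i : Fin m, inVar g2 i) = 0 := by
    refine eval_low hd he hm.symm (baseQ f) Y hY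
      ((KGr.isSymmetric_prod_aeval m g1).sub (KGr.isSymmetric_prod_aeval m g2)) (prod_congr_mem _ _ _ _ fun i _ => ?_)
    rw [inVar, inVar, ← map_sub]
    refine inVar_mem ?_ i
    show _ ∣ _ - logPoly d * (1 + Polynomial.X)
    rw [mul_comm (logPoly d)]
    exact todd_log d
  rw [map_sub, map_prod, map_prod, sub_eq_zero] at h0
  simp only [aeval_inVar, g1, g2, map_mul, Polynomial.aeval_comp, map_add, map_one, Polynomial.aeval_X] at h0
  exact h0

end Main

end Groth.Agent.KRR3
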