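import Groth.Agent.KRR3.Misc
import Groth.Agent.Lambda37.Inv
import Mathlib.RingTheory.MvPolynomial.Symmetric.FundamentalTheorem

/-! Determinants of virtual elements, splittings and Bott classes. -/

set_option autoImplicit false
set_option linter.style.haveILetI false

universe u

namespace Groth.Agent.KRR3

open LambdaRing Finset Groth.Agent.Lambda37

variable {K : Type u} [CommRing K] [LambdaOps K] {P : PosStructure K}

/-- Splitting of finitely many positive elements inside the class. -/
theorem exists_split' (hK : HasSplitting K P) : ∀ l : List K, (∀ e ∈ l, e ∈ P.pos) →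
    ∃ (L : PosLambdaRing.{u}) (f : K →+* L.carrier), HasSplitting L.carrier L.posStr ∧ IsExtension P L.posStr f ∧
      ∀ e ∈ l, ∃ s : Multiset L.carrier, (∀ v ∈ s, L.posStr.IsLine v) ∧ s.sum = f e := by
  obtain ⟨C, hC, hsplit⟩ := hK
  intro l
  suffices H : (∀ e ∈ l, e ∈ P.pos) → ∃ (L : PosLambdaRing.{u}) (f : K →+* L.carrier),
      L ∈ C ∧ IsExtension P L.posStr f ∧
      ∀ e ∈ l, ∃ s : Multiset L.carrier, (∀ v ∈ s, L.posStr.IsLine v) ∧ s.sum = f e by
    intro h
    obtain ⟨L, f, hL, hf, hs⟩ := H h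
    exact ⟨L, f, ⟨C, hL, hsplit⟩, hf, hs⟩
  induction l with
  | nil => exact fun _ => ⟨⟨K, P⟩, RingHom.id K, hC, isExtension_id P, by simp⟩
  | cons a l ih =>
    intro hl
    obtain ⟨L, f, hL, hf, hs⟩ := ih fun e he => hl e (List.mem_cons_of_mem _ he)
    obtain ⟨L', hL', g, hg, s, hsl, hsum⟩ := hsplit L hL (f a) (hf.pos_subset a (hl a (by simp)))
    refine ⟨L', g.comp f, hL', IsExtension.comp' hg hf, fun e he => ?_⟩
    rcases List.mem_cons.mp he with rfl | he
    · exact ⟨s, hsl, hsum⟩
    · obtain ⟨t, htl, htsum⟩ := hs e he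
      refine ⟨t.map g, fun v hv => ?_, ?_⟩
      · obtain ⟨w, hw, rfl⟩ := Multiset.mem_map.mp hv
        exact isLine_map hg (htl w hw)
      · rw [← map_multiset_sum, htsum]; rfl

variable (P) in
/-- The top exterior power. -/
def det (e : K) : K := LambdaOps.lam (P.aug e).toNat e

theorem det_add {e f : K} (he : e ∈ P.pos) (hf : f ∈ P.pos) : det P (e + f) = det P e * det P f := by
  have h1 := P.aug_pos e he
  have h2 := P.aug_pos f hf
  rw [det, det, det, map_add, Int.toNat_add h1.le h2.le, LambdaOps.lam_add,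
    Finset.sum_eq_single (P.aug e).toNat]
  · rw [Nat.add_sub_cancel_left]
  · intro i hi hne
    rcases lt_or_gt_of_ne hne with h | h
    · rw [P.lam_eq_zero f hf _ (by omega), mul_zero]
    · rw [P.lam_eq_zero e he i (by omega), zero_mul]
  · intro h; exact absurd (Finset.mem_range.2 (by omega)) h

theorem det_line {u : K} (hu : P.IsLine u) : det P u = u := by
  rw [det, hu.2]; exact LambdaOps.lam_one u

theorem det_msum {s : Multiset K} (hs : ∀ u ∈ s, P.IsLine u) : det P s.sum = s.prod := by
  rw [det, lam_msum fun u hu => line_lam P (hs u hu), ← card_eq_aug P hs rfl, esymm_card]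

theorem map_det {K' : Type u} [CommRing K'] [LambdaOps K'] {P' : PosStructure K'} {f : K →+* K'}
    (hf : IsExtension P P' f) (e : K) : f (det P e) = det P' (f e) := by
  rw [det, det, hf.isLambdaHom, hf.aug_comp]

theorem det_mul (hK : HasSplitting K P) {e e' : K} (he : e ∈ P.pos) (he' : e' ∈ P.pos) :
    det P (e * e') = det P e ^ (P.aug e').toNat * det P e' ^ (P.aug e).toNat := by
  obtain ⟨L, f, hf, hs⟩ := exists_split hK [e, e'] (by simp [he, he'])
  obtain ⟨s, hsl, hssum⟩ := hs e (by simp)
  obtain ⟨t, htl, htsum⟩ := hs e' (by simp)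
  apply hf.injective
  rw [map_det hf, map_mul, map_mul, map_pow, map_pow, map_det hf, map_det hf, ← hssum, ← htsum, det_msum hsl,
    det_msum htl, ← hf.aug_comp e, ← hf.aug_comp e', ← hssum, ← htsum, ← card_eq_aug _ hsl rfl, ← card_eq_aug _ htl rfl]
  have hlines : ∀ v ∈ (s ×ˢ t).map (fun p => p.1 * p.2), L.posStr.IsLine v := by
    intro v hv
    obtain ⟨⟨a, b⟩, hab, rfl⟩ := Multiset.mem_map.mp hv
    rw [Multiset.mem_product] at hab
    exact isLine_mul _ (hsl a hab.1) (htl b hab.2)
  have hprod : ((s ×ˢ t).map (fun p => p.1 * p.2)).sum = s.sum * t.sum := by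
    clear hsl hssum hlines
    induction s using Multiset.induction with
    | empty => simp
    | cons a s ih =>
      rw [Multiset.cons_product, Multiset.map_add, Multiset.sum_add, ih, Multiset.sum_cons, add_mul,
        Multiset.map_map]
      congr 1
      exact Multiset.sum_map_mul_left.trans (by rw [Multiset.map_id'])
  rw [← hprod, det_msum hlines]
  clear hsl hssum hlines hprod
  induction s using Multiset.induction with
  | empty => simp
  | cons a s ih =>
    rw [Multiset.cons_product, Multiset.map_add, Multiset.prod_add, ih, Multiset.map_map, Multiset.prod_cons,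
      Multiset.card_cons]
    simp only [Function.comp_def]
    rw [Multiset.prod_map_mul, Multiset.map_const', Multiset.prod_replicate, Multiset.map_id']
    ring

/-- The unit of a positive element. -/
noncomputable def detUnit {e : K} (he : e ∈ P.pos) : Kˣ := (P.isUnit_lam e he).unit

@[simp] theorem detUnit_val {e : K} (he : e ∈ P.pos) : ((detUnit he : Kˣ) : K) = det P e := rfl

variable (P) in
/-- The determinant of a virtual element. -/
noncomputable def vdet (x : K) : Kˣ :=
  detUnit (P.exists_sub x).choose_spec.choose_spec.1 /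
    detUnit (P.exists_sub x).choose_spec.choose_spec.2.1

theorem vdet_eq {x e f : K} (he : e ∈ P.pos) (hf : f ∈ P.pos) (h : x = e - f) :
    vdet P x = detUnit he / detUnit hf := by
  set a := (P.exists_sub x).choose with ha
  set b := (P.exists_sub x).choose_spec.choose with hb
  obtain ⟨hap, hbp, hab⟩ := (P.exists_sub x).choose_spec.choose_spec
  show detUnit hap / detUnit hbp = _
  rw [div_eq_div_iff_mul_eq_mul, Units.ext_iff, Units.val_mul, Units.val_mul, detUnit_val, detUnit_val, detUnit_val,
    detUnit_val, ← det_add hap hf, ← det_add he hbp]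
  exact congrArg _ (by linear_combination h - hab)

theorem vdet_add (x y : K) : vdet P (x + y) = vdet P x * vdet P y := by
  obtain ⟨e, f, he, hf, rfl⟩ := P.exists_sub x
  obtain ⟨g, h, hg, hh, rfl⟩ := P.exists_sub y
  rw [vdet_eq (P.add_mem _ _ he hg) (P.add_mem _ _ hf hh) (by ring), vdet_eq he hf rfl, vdet_eq hg hh rfl,
    div_mul_div_comm]
  congr 1 <;> ext <;> simp [det_add, *]

theorem vdet_zero : vdet P (0 : K) = 1 := by
  have h := vdet_add (P := P) 0 0
  rw [add_zero] at h
  exact mul_eq_left.1 h.symm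

theorem vdet_neg (x : K) : vdet P (-x) = (vdet P x)⁻¹ := by
  rw [eq_inv_iff_mul_eq_one, ← vdet_add, neg_add_cancel, vdet_zero]

theorem vdet_sum {ι : Type*} (s : Finset ι) (g : ι → K) : vdet P (∑ i ∈ s, g i) = ∏ i ∈ s, vdet P (g i) := by
  classical
  induction s using Finset.induction with
  | empty => simp [vdet_zero]
  | insert a s ha ih => rw [Finset.sum_insert ha, Finset.prod_insert ha, vdet_add, ih]

theorem vdet_mul (hK : HasSplitting K P) (x y : K) :
    vdet P (x * y) = vdet P x ^ P.aug y * vdet P y ^ P.aug x := by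
  have hpos : ∀ {e f : K} (he : e ∈ P.pos) (hf : f ∈ P.pos),
      detUnit (P.mul_mem _ _ he hf) = detUnit he ^ P.aug f * detUnit hf ^ P.aug e := by
    intro e f he hf
    rw [aug_e P he, aug_e P hf, zpow_natCast, zpow_natCast]
    ext
    simp [det_mul hK he hf]
  have hadd : ∀ {e f : K} (he : e ∈ P.pos) (hf : f ∈ P.pos),
      detUnit (P.add_mem _ _ he hf) = detUnit he * detUnit hf := by
    intro e f he hf
    ext
    simp [det_add he hf]
  obtain ⟨e, f, he, hf, rfl⟩ := P.exists_sub x
  obtain ⟨g, h, hg, hh, rfl⟩ := P.exists_sub y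
  rw [vdet_eq (P.add_mem _ _ (P.mul_mem _ _ he hg) (P.mul_mem _ _ hf hh))
    (P.add_mem _ _ (P.mul_mem _ _ he hh) (P.mul_mem _ _ hf hg)) (by ring), hadd (P.mul_mem _ _ he hg) (P.mul_mem _ _ hf hh), hadd (P.mul_mem _ _ he hh) (P.mul_mem _ _ hf hg), hpos he hg, hpos hf hh,
    hpos he hh, hpos hf hg, vdet_eq he hf rfl, vdet_eq hg hh rfl, map_sub, map_sub, div_zpow, div_zpow]
  simp only [zpow_sub, div_eq_mul_inv, mul_inv_rev, inv_inv]
  simp only [mul_comm, mul_assoc, mul_left_comm]

theorem vdet_mul_of_aug_zero (hK : HasSplitting K P) {x y : K} (hx : P.aug x = 0) (hy : P.aug y = 0) :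
    vdet P (x * y) = 1 := by
  rw [vdet_mul hK, hx, hy, zpow_zero, zpow_zero, one_mul]

theorem map_vdet {K' : Type u} [CommRing K'] [LambdaOps K'] {P' : PosStructure K'} {f : K →+* K'}
    (hf : IsExtension P P' f) (x : K) : Units.map (f : K →* K') (vdet P x) = vdet P' (f x) := by
  obtain ⟨a, b, ha, hb, rfl⟩ := P.exists_sub x
  rw [vdet_eq ha hb rfl, vdet_eq (hf.pos_subset a ha) (hf.pos_subset b hb) (map_sub f a b), map_div]
  congr 1 <;> ext <;> simp [map_det hf]

theorem gamma_zero_succ' (k : ℕ) : gamma (k + 1) (0 : K) = 0 := by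
  rw [← coeff_gammaSeries, gammaSeries_zero, PowerSeries.coeff_one, if_neg (Nat.succ_ne_zero k)]

theorem aug_gamma (hK : HasSplitting K P) {x : K} (hx : P.aug x = 0) : ∀ r, 1 ≤ r → P.aug (gamma r x) = 0 := by
  have hpos : ∀ {e : K}, e ∈ P.pos → ∀ r, 1 ≤ r → P.aug (gamma r (e - ((P.aug e).toNat : K))) = 0 := by
    intro e he r hr
    obtain ⟨L, f, hf, hs⟩ := exists_split hK [e] (by simp [he])
    obtain ⟨s, hsl, hsum⟩ := hs e (by simp)
    obtain ⟨-, -, hgam⟩ := gamma_split he hf hsl hsum
    rw [← hf.aug_comp, hgam, Multiset.esymm, map_multiset_sum, Multiset.map_map]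
    refine Multiset.sum_eq_zero fun v hv => ?_
    obtain ⟨t, ht, rfl⟩ := Multiset.mem_map.mp hv
    rw [Multiset.mem_powersetCard] at ht
    obtain ⟨a, ha⟩ := Multiset.card_pos_iff_exists_mem.1 (show 0 < Multiset.card t by omega)
    obtain ⟨u, hu, rfl⟩ := Multiset.mem_map.mp (Multiset.mem_of_le ht.1 ha)
    rw [Function.comp_apply, map_multiset_prod]
    exact Multiset.prod_eq_zero (Multiset.mem_map.2 ⟨_, ha, by rw [map_sub, (hsl u hu).2, map_one, sub_self]⟩)
  have hneg : ∀ {e : K}, e ∈ P.pos → ∀ r, 1 ≤ r → P.aug (gamma r (-(e - ((P.aug e).toNat : K)))) = 0 := by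
    intro e he r
    induction r using Nat.strong_induction_on with
    | _ r ih =>
      intro hr
      obtain ⟨k, rfl⟩ : ∃ k, r = k + 1 := ⟨r - 1, by omega⟩
      have h := gamma_add' (k + 1) (e - ((P.aug e).toNat : K)) (-(e - ((P.aug e).toNat : K)))
      rw [add_neg_cancel, gamma_zero_succ', Finset.sum_range_succ', gamma_zero, one_mul, Nat.sub_zero] at h
      rw [eq_neg_of_add_eq_zero_right h.symm, map_neg, map_sum, Finset.sum_eq_zero fun i hi => ?_, neg_zero]
      rw [map_mul, hpos he (i + 1) (by omega), zero_mul]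
  intro r hr
  obtain ⟨e, e', he, he', rfl⟩ := P.exists_sub x
  have heq : P.aug e = P.aug e' := by rwa [map_sub, sub_eq_zero] at hx
  rw [show e - e' = (e - ((P.aug e).toNat : K)) + -(e' - ((P.aug e').toNat : K)) by rw [heq]; ring, gamma_add', map_sum]
  refine Finset.sum_eq_zero fun i _ => ?_
  rw [map_mul]
  rcases Nat.eq_zero_or_pos i with rfl | hi
  · rw [hneg he' (r - 0) (by omega), mul_zero]
  · rw [hpos he i hi, zero_mul]

theorem vdet_gamma (hK : HasSplitting K P) {x : K} (hx : P.aug x = 0) : ∀ r, 2 ≤ r → vdet P (gamma r x) = 1 := by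
  have hpos : ∀ {e : K}, e ∈ P.pos → ∀ r, 2 ≤ r → vdet P (gamma r (e - ((P.aug e).toNat : K))) = 1 := by
    intro e he r hr
    obtain ⟨L, f, hL, hf, hs⟩ := exists_split' hK [e] (by simp [he])
    obtain ⟨s, hsl, hsum⟩ := hs e (by simp)
    obtain ⟨-, -, hgam⟩ := gamma_split he hf hsl hsum
    refine Units.map_injective (f := (f : K →* L.carrier)) hf.injective ?_
    rw [map_one, map_vdet hf, hgam, Multiset.esymm]
    have hterm : ∀ t ∈ Multiset.powersetCard r (s.map (· - 1)), vdet L.posStr t.prod = 1 := by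
      intro t ht
      rw [Multiset.mem_powersetCard] at ht
      have haug : ∀ a ∈ t, L.posStr.aug a = 0 := fun a ha => by
        obtain ⟨u, hu, rfl⟩ := Multiset.mem_map.mp (Multiset.mem_of_le ht.1 ha)
        rw [map_sub, (hsl u hu).2, map_one, sub_self]
      obtain ⟨a, ha⟩ := Multiset.card_pos_iff_exists_mem.1 (show 0 < Multiset.card t by omega)
      obtain ⟨t, rfl⟩ := Multiset.exists_cons_of_mem ha
      rw [Multiset.card_cons] at ht
      obtain ⟨b, hb⟩ := Multiset.card_pos_iff_exists_mem.1 (show 0 < Multiset.card t by omega)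
      rw [Multiset.prod_cons]
      refine vdet_mul_of_aug_zero hL (haug a (Multiset.mem_cons_self _ _)) ?_
      rw [map_multiset_prod]
      exact Multiset.prod_eq_zero (Multiset.mem_map.2 ⟨b, hb, haug b (Multiset.mem_cons_of_mem hb)⟩)
    generalize Multiset.powersetCard r (s.map (· - 1)) = T at hterm ⊢
    induction T using Multiset.induction with
    | empty => simp [vdet_zero]
    | cons t T ih =>
      rw [Multiset.map_cons, Multiset.sum_cons, vdet_add, hterm t (Multiset.mem_cons_self _ _), one_mul]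
      exact ih fun t' ht' => hterm t' (Multiset.mem_cons_of_mem ht')
  have hneg : ∀ {e : K}, e ∈ P.pos → ∀ r, 2 ≤ r → vdet P (gamma r (-(e - ((P.aug e).toNat : K)))) = 1 := by
    intro e he r
    induction r using Nat.strong_induction_on with
    | _ r ih =>
      intro hr
      obtain ⟨k, rfl⟩ : ∃ k, r = k + 1 := ⟨r - 1, by omega⟩
      have hz := aug_pos_sub P he
      have hz' : P.aug (-(e - ((P.aug e).toNat : K))) = 0 := by rw [map_neg, hz, neg_zero]
      have h := gamma_add' (k + 1) (e - ((P.aug e).toNat : K)) (-(e - ((P.aug e).toNat : K)))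
      rw [add_neg_cancel, gamma_zero_succ', Finset.sum_range_succ', gamma_zero, one_mul, Nat.sub_zero] at h
      rw [eq_neg_of_add_eq_zero_right h.symm, vdet_neg, vdet_sum, Finset.prod_eq_one fun i hi => ?_, inv_one]
      rw [Finset.mem_range] at hi
      rcases Nat.eq_zero_or_pos (k + 1 - (i + 1)) with h0 | h0
      · rw [h0, gamma_zero, mul_one]
        exact hpos he (i + 1) (by omega)
      · exact vdet_mul_of_aug_zero hK (aug_gamma hK hz _ (by omega)) (aug_gamma hK hz' _ h0)
  intro r hr
  obtain ⟨e, e', he, he', rfl⟩ := P.exists_sub x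
  have heq : P.aug e = P.aug e' := by rwa [map_sub, sub_eq_zero] at hx
  rw [show e - e' = (e - ((P.aug e).toNat : K)) + -(e' - ((P.aug e').toNat : K)) by rw [heq]; ring, gamma_add', vdet_sum]
  refine Finset.prod_eq_one fun i hi => ?_
  rw [Finset.mem_range] at hi
  rcases Nat.eq_zero_or_pos i with rfl | hi0
  · rw [gamma_zero, one_mul]; exact hneg he' _ (by omega)
  rcases Nat.eq_zero_or_pos (r - i) with h0 | h0
  · rw [h0, gamma_zero, mul_one]; exact hpos he i (by omega)
  · exact vdet_mul_of_aug_zero hK (aug_gamma hK (aug_pos_sub P he) i hi0)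
      (aug_gamma hK (by rw [map_neg, aug_pos_sub P he', neg_zero]) _ h0)

theorem aug_filt_one (hK : HasSplitting K P) {x : K} (hx : x ∈ gammaFiltration P 1) : P.aug x = 0 := by
  refine filt_induction P one_pos (p := fun x => P.aug x = 0) ?_ (map_zero _)
    (fun a b ha hb => by rw [map_add, ha, hb, add_zero]) (fun a ha => by rw [map_neg, ha, neg_zero]) hx
  rintro _ ⟨l, hl, hs, rfl⟩
  induction l with
  | nil => simp at hs
  | cons a l ih =>
    simp only [List.map_cons, List.prod_cons, List.sum_cons, map_mul] at hs ⊢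
    rcases Nat.eq_zero_or_pos a.1 with h0 | h0
    · rw [ih (fun p hp => hl p (List.mem_cons_of_mem _ hp)) (by omega), mul_zero]
    · rw [aug_gamma hK (hl a (by simp)) _ h0, zero_mul]

theorem vdet_filt_two (hK : HasSplitting K P) {x : K} (hx : x ∈ gammaFiltration P 2) : vdet P x = 1 := by
  refine filt_induction P two_pos (p := fun x => vdet P x = 1) ?_ vdet_zero
    (fun a b ha hb => by rw [vdet_add, ha, hb, one_mul]) (fun a ha => by rw [vdet_neg, ha, inv_one]) hx
  rintro _ ⟨l, hl, hs, rfl⟩
  induction l with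
  | nil => simp at hs
  | cons a l ih =>
    simp only [List.map_cons, List.prod_cons, List.sum_cons] at hs ⊢
    have hl' : ∀ p ∈ l, P.aug p.2 = 0 := fun p hp => hl p (List.mem_cons_of_mem _ hp)
    rcases Nat.eq_zero_or_pos a.1 with h0 | h0
    · rw [h0, gamma_zero, one_mul]
      exact ih hl' (by omega)
    rcases Nat.eq_zero_or_pos (l.map Prod.fst).sum with h1 | h1
    · have hprod : (l.map fun p => gamma p.1 p.2).prod = 1 := by
        refine List.prod_eq_one fun v hv => ?_
        obtain ⟨p, hp, rfl⟩ := List.mem_map.1 hv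
        rw [List.sum_eq_zero_iff.1 h1 p.1 (List.mem_map.2 ⟨p, hp, rfl⟩), gamma_zero]
      rw [hprod, mul_one]
      exact vdet_gamma hK (hl a (by simp)) _ (by omega)
    · refine vdet_mul_of_aug_zero hK (aug_gamma hK (hl a (by simp)) _ h0) (aug_filt_one hK ?_)
      exact filtGen_subset P ⟨l, hl', h1, rfl⟩

theorem sum_esymm (s : Multiset K) : ∀ n, Multiset.card s ≤ n →
    ∑ i ∈ range (n + 1), s.esymm i = (s.map (1 + ·)).prod := by
  induction s using Multiset.induction with
  | empty =>
    intro n _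
    rw [Finset.sum_eq_single 0]
    · simp [esymm_zero']
    · intro i _ hi; exact esymm_of_lt _ (by simpa using Nat.pos_of_ne_zero hi)
    · simp
  | cons a s ih =>
    intro n hn
    rw [Multiset.card_cons] at hn
    obtain ⟨n, rfl⟩ : ∃ k, n = k + 1 := ⟨n - 1, by omega⟩
    rw [Multiset.map_cons, Multiset.prod_cons, Finset.sum_range_succ', esymm_zero']
    simp only [esymm_cons, Finset.sum_add_distrib, ← Finset.mul_sum]
    have h1 := ih (n + 1) (by omega)
    rw [Finset.sum_range_succ', esymm_zero'] at h1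
    rw [ih n (by omega)]
    linear_combination h1

/-- `det e - 1 ≡ e - ε(e)` modulo the second step of the filtration. -/
theorem sub_det_mem (hK : HasSplitting K P) {e : K} (he : e ∈ P.pos) :
    e - ((P.aug e).toNat : K) - (det P e - 1) ∈ gammaFiltration P 2 := by
  set m := (P.aug e).toNat with hm
  have key : det P e = ∑ i ∈ range (m + 1), gamma i (e - (m : K)) := by
    obtain ⟨L, f, hf, hs⟩ := exists_split hK [e] (by simp [he])
    obtain ⟨s, hsl, hsum⟩ := hs e (by simp)
    obtain ⟨hcard, -, hgam⟩ := gamma_split he hf hsl hsum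
    apply hf.injective
    rw [map_det hf, ← hsum, det_msum hsl, map_sum, Finset.sum_congr rfl fun i _ => hgam i,
      sum_esymm _ m (by rw [Multiset.card_map, hcard]), Multiset.map_map]
    simp
  obtain ⟨n, hn⟩ : ∃ n, m = n + 1 := ⟨m - 1, by have := P.aug_pos e he; omega⟩
  rw [key]
  conv => arg 2; arg 2; rw [hn, Finset.sum_range_succ', Finset.sum_range_succ', gamma_zero, zero_add, gamma_one]
  rw [show e - (m : K) - ((∑ k ∈ range n, gamma (k + 1 + 1) (e - ((n + 1 : ℕ) : K))) + (e - ((n + 1 : ℕ) : K)) + 1 - 1) =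
    -(∑ k ∈ range n, gamma (k + 1 + 1) (e - ((n + 1 : ℕ) : K))) by rw [hn]; ring]
  refine neg_mem (sum_mem fun k _ => ?_)
  rw [← hn]
  exact filt_anti P (by omega : 2 ≤ k + 1 + 1) (gamma_mem_filt P _ (aug_pos_sub P he))

theorem exists_line_congr (hK : HasSplitting K P) (hLinv : ∀ w : K, P.IsLine w → ∃ w' : K, P.IsLine w' ∧ w * w' = 1)
    (hdet : ∀ e : K, e ∈ P.pos → LambdaOps.lam (P.aug e).toNat e ∈ P.pos) {x : K} (hx : x ∈ gammaFiltration P 1) :
    ∃ u : K, P.IsLine u ∧ x - (u - 1) ∈ gammaFiltration P 2 := by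
  have hline : ∀ e ∈ P.pos, P.IsLine (det P e) := fun e he => ⟨hdet e he, by
    rw [det, aug_lam hK he, Nat.choose_self, Nat.cast_one]⟩
  have hx0 := aug_filt_one hK hx
  obtain ⟨e, f, he, hf, rfl⟩ := P.exists_sub x
  rw [map_sub, sub_eq_zero] at hx0
  obtain ⟨w, hw, hfw⟩ := hLinv _ (hline f hf)
  refine ⟨det P e * w, isLine_mul P (hline e he) hw, ?_⟩
  have h1 : ∀ {a : K}, P.IsLine a → a - 1 ∈ gammaFiltration P 1 := fun ha =>
    mem_filt_one_of_aug P (by rw [map_sub, ha.2, map_one, sub_self])
  have h2 := sub_mem (sub_mem (sub_det_mem hK he) (sub_det_mem hK hf))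
    (filt_mul P (sub_mem (h1 (hline e he)) (h1 (hline f hf))) (h1 hw))
  convert h2 using 1
  rw [hx0]
  linear_combination -hfw

theorem line_eq_of_congr (hK : HasSplitting K P) {u v : K} (hu : P.IsLine u) (hv : P.IsLine v)
    (h : u - v ∈ gammaFiltration P 2) : u = v := by
  have h1 := vdet_filt_two hK h
  rw [vdet_eq hu.1 hv.1 rfl, div_eq_one] at h1
  have h2 := congrArg Units.val h1
  rwa [detUnit_val, detUnit_val, det_line hu, det_line hv] at h2

/-- Enumeration of a multiset. -/
theorem exists_enum {α : Type u} (s : Multiset α) {m : ℕ} (h : Multiset.card s = m) :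
    ∃ U : Fin m → α, (univ : Finset (Fin m)).val.map U = s := by
  induction s using Quot.inductionOn with
  | h l =>
    obtain rfl : l.length = m := h
    exact ⟨fun i => l.get i, by rw [Fin.univ_def]; exact congrArg Multiset.ofList (List.map_get_finRange l)⟩

/-- Evaluation of the polynomial expressing a symmetric one through the elementary ones. -/
theorem aeval_symm {R S : Type*} [CommRing R] [CommRing S] [Algebra R S] {m : ℕ} (p : MvPolynomial.symmetricSubalgebra (Fin m) R)
    (U : Fin m → S) :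
    MvPolynomial.aeval (fun i : Fin m => ((univ : Finset (Fin m)).val.map U).esymm (i.1 + 1))
        ((MvPolynomial.esymmAlgEquiv (Fin m) R (Fintype.card_fin m)).symm p) =
      MvPolynomial.aeval U (p : MvPolynomial (Fin m) R) := by
  set q := (MvPolynomial.esymmAlgEquiv (Fin m) R (Fintype.card_fin m)).symm p
  have hq : MvPolynomial.aeval (fun i : Fin m => MvPolynomial.esymm (Fin m) R (i.1 + 1)) q = (p : MvPolynomial (Fin m) R) := by
    rw [← MvPolynomial.esymmAlgHom_apply]
    exact congrArg Subtype.val ((MvPolynomial.esymmAlgEquiv (Fin m) R (Fintype.card_fin m)).apply_symm_apply p)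
  rw [← hq, ← AlgHom.comp_apply, MvPolynomial.comp_aeval]
  simp only [MvPolynomial.aeval_esymm_eq_multiset_esymm]

theorem map_bott_eq {K' : Type u} [CommRing K'] (f : K →+* K') {e : K} {m : ℕ} (hm : (P.aug e).toNat = m)
    (U : Fin m → K') (hU : ∀ i, f (LambdaOps.lam i e) = ((univ : Finset (Fin m)).val.map U).esymm i) (j : ℕ) :
    f (KRR.bott P j e) = ∏ i, ∑ k ∈ range j, U i ^ k := by
  subst hm
  rw [KRR.bott, MvPolynomial.map_aeval, MvPolynomial.coe_eval₂Hom]
  simp only [hU]
  rw [show f.comp (algebraMap ℤ K) = algebraMap ℤ K' from RingHom.ext_int _ _, ← MvPolynomial.aeval_def, KRR.bottPoly,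
    aeval_symm]
  simp [KRR.bottSym]

theorem adams_lamAlt (hK : HasSplitting K P) {e : K} (he : e ∈ P.pos) (j : ℕ) :
    adams P j (KRR.lamAlt P e) = KRR.lamAlt P e * KRR.bott P j e := by
  obtain ⟨L, f, hL, hf, hs⟩ := exists_split' hK [e] (by simp [he])
  obtain ⟨s, hsl, hsum⟩ := hs e (by simp)
  obtain ⟨hcard, hlam, -⟩ := gamma_split he hf hsl hsum
  obtain ⟨U, hU⟩ := exists_enum s hcard
  apply hf.injective
  have hla : f (KRR.lamAlt P e) = ∏ i, (1 - U i) := by
    simp only [KRR.lamAlt, map_sum, map_mul, map_pow, map_neg, map_one, hlam]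
    rw [alt_sum s _ (by rw [hcard]), ← hU, Multiset.map_map]
    rfl
  have hl : ∀ i, L.posStr.IsLine (U i) := fun i => hsl _ (hU ▸ Multiset.mem_map_of_mem U (mem_univ_val i))
  rw [map_mul, map_adams hf, map_bott_eq f rfl U (by rw [hU]; exact hlam), hla, ← adamsRingHom_apply hL, map_prod,
    ← Finset.prod_mul_distrib]
  refine Finset.prod_congr rfl fun i _ => ?_
  rw [map_sub, map_one, adamsRingHom_apply, adams_line _ (hl i), mul_comm, geom_sum_mul_neg]

end Groth.Agent.KRR3
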