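import Groth.Agent.KRR3.Det
import Mathlib.RingTheory.AdjoinRoot
import Mathlib.RingTheory.Polynomial.Vieta

/-! Existence of the λ-structure on an elementary extension. -/

set_option autoImplicit false
set_option linter.style.haveILetI false

universe u

namespace Groth.Agent.KRR3

open LambdaRing Finset Groth.Agent.Lambda37

section Comb

variable {A B : Type*} [CommRing A] [CommRing B]

/-- `∏ (1 + z u_S)` over the `i`-element parts `S` of `U`. -/
noncomputable def fPart (U : Multiset A) (i : ℕ) (z : A) : A :=
  ((Multiset.powersetCard i U).map fun S => 1 + S.prod * z).prod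

/-- The product of the parts of one parity. -/
noncomputable def parPart (b : ℕ) (U : Multiset A) (l z : A) : A :=
  ∏ i ∈ range (Multiset.card U + 1), if Even (i + b) then fPart U i (l ^ (Multiset.card U - i) * z) else 1

theorem map_parPart (θ : A →+* B) (b : ℕ) (U : Multiset A) (l z : A) :
    θ (parPart b U l z) = parPart b (U.map θ) (θ l) (θ z) := by
  rw [parPart, parPart, map_prod, Multiset.card_map]
  refine Finset.prod_congr rfl fun i _ => ?_
  split_ifs
  · rw [fPart, fPart, map_multiset_prod, Multiset.map_map, Multiset.powersetCard_map, Multiset.map_map]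
    refine congrArg _ (Multiset.map_congr rfl fun S _ => ?_)
    simp [map_multiset_prod, map_pow]
  · exact map_one θ

theorem fPart_succ_cons (u : A) (U : Multiset A) (i : ℕ) (z : A) :
    fPart (u ::ₘ U) (i + 1) z = fPart U (i + 1) z * fPart U i (u * z) := by
  rw [fPart, Multiset.powersetCard_cons, Multiset.map_add, Multiset.prod_add, Multiset.map_map]
  refine congrArg _ (congrArg _ (Multiset.map_congr rfl fun S _ => ?_))
  simp only [Function.comp_apply, Multiset.prod_cons]
  ring

theorem fPart_zero (U : Multiset A) (z : A) : fPart U 0 z = 1 + z := by simp [fPart]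

theorem fPart_of_lt (U : Multiset A) {i : ℕ} (z : A) (h : Multiset.card U < i) : fPart U i z = 1 := by
  simp [fPart, Multiset.powersetCard_eq_empty _ h]

theorem parPart_cons (b : ℕ) (u : A) (U : Multiset A) (l z : A) :
    parPart b (u ::ₘ U) l z = parPart b U l (l * z) * parPart (b + 1) U l (u * z) := by
  rw [parPart, Multiset.card_cons, Finset.prod_range_succ']
  have h : ∀ i ∈ range (Multiset.card U + 1),
      (if Even (i + 1 + b) then fPart (u ::ₘ U) (i + 1) (l ^ (Multiset.card U + 1 - (i + 1)) * z) else 1) =
      (if Even (i + 1 + b) then fPart U (i + 1) (l ^ (Multiset.card U - (i + 1)) * (l * z)) else 1) *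
        (if Even (i + (b + 1)) then fPart U i (l ^ (Multiset.card U - i) * (u * z)) else 1) := by
    intro i hi
    rw [Finset.mem_range] at hi
    rw [show i + 1 + b = i + (b + 1) by omega]
    split_ifs
    · rw [fPart_succ_cons, Nat.add_sub_add_right]
      refine congrArg₂ _ ?_ (by rw [mul_left_comm])
      rcases Nat.lt_or_ge (Multiset.card U) (i + 1) with h | h
      · rw [fPart_of_lt _ _ h, fPart_of_lt _ _ h]
      · rw [show Multiset.card U - i = Multiset.card U - (i + 1) + 1 by omega, pow_succ, mul_assoc]
    · rw [one_mul]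
  rw [Finset.prod_congr rfl h, Finset.prod_mul_distrib, parPart, parPart,
    Finset.prod_range_succ (fun i => if Even (i + 1 + b) then fPart U (i + 1) (l ^ (Multiset.card U - (i + 1)) * (l * z)) else 1),
    Finset.prod_range_succ' (fun i => if Even (i + b) then fPart U i (l ^ (Multiset.card U - i) * (l * z)) else 1)]
  rw [fPart_of_lt U (i := Multiset.card U + 1) _ (by omega), fPart_zero, fPart_zero, Nat.sub_zero, Nat.sub_zero,
    pow_succ, mul_assoc (l ^ Multiset.card U), ite_self, mul_one]
  exact mul_right_comm _ _ _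

theorem parPart_congr {b c : ℕ} (h : Even b ↔ Even c) (U : Multiset A) (l z : A) : parPart b U l z = parPart c U l z :=
  Finset.prod_congr rfl fun i _ => by simp only [Nat.even_add, h]

open Polynomial in
theorem dvd_parPart_sub (U : Multiset A) (l : A) :
    C ((U.map fun u => l - u).prod) ∣ parPart 0 (U.map C) (C l) X - parPart 1 (U.map C) (C l) X := by
  induction U using Multiset.induction with
  | empty => simp
  | cons u U ih =>
    obtain ⟨q, hq⟩ := ih
    have hσ : ∀ (a : A) (b : ℕ), parPart b (U.map C) (C l) (C a * X) =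
        (Polynomial.aeval (C a * X : A[X])) (parPart b (U.map C) (C l) X) := fun a b => by
      rw [← AlgHom.coe_toRingHom, map_parPart, Multiset.map_map]
      simp [Function.comp_def]
    rw [Multiset.map_cons, Multiset.map_cons, Multiset.prod_cons, parPart_cons, parPart_cons,
      parPart_congr (b := 1 + 1) (c := 0) (by decide) (U.map C), zero_add, hσ, hσ, hσ, hσ, eq_add_of_sub_eq hq]
    simp only [map_add, map_mul, Polynomial.aeval_C, Polynomial.algebraMap_eq]
    have hd : ∀ g : A[X], C (l - u) ∣ Polynomial.aeval (C l * X : A[X]) g - Polynomial.aeval (C u * X : A[X]) g := fun g => by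
      refine dvd_trans ⟨X, ?_⟩ ((g.map (algebraMap A A[X])).sub_dvd_eval_sub (C l * X) (C u * X) |>.trans
        (dvd_of_eq (by rw [Polynomial.eval_map, Polynomial.eval_map]; rfl)))
      rw [map_sub]; ring
    obtain ⟨a, ha⟩ := hd q
    obtain ⟨b, hb⟩ := hd (parPart 1 (U.map C) (C l) X)
    refine ⟨a * Polynomial.aeval (C u * X : A[X]) (parPart 1 (U.map C) (C l) X) - b * Polynomial.aeval (C u * X : A[X]) q, ?_⟩
    rw [map_sub] at ha hb
    rw [map_sub]
    linear_combination (C (U.map fun u => l - u).prod) * (Polynomial.aeval (C u * X : A[X]) (parPart 1 (U.map C) (C l) X)) * ha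
      - (C (U.map fun u => l - u).prod) * (Polynomial.aeval (C u * X : A[X]) q) * hb

theorem parPart_eq (U : Multiset A) (l z : A) (h : (U.map fun u => l - u).prod = 0) :
    parPart 0 U l z = parPart 1 U l z := by
  obtain ⟨q, hq⟩ := dvd_parPart_sub U l
  have h2 := congrArg (Polynomial.eval₂RingHom (RingHom.id A) z) hq
  rw [h, map_zero, zero_mul, map_zero, map_sub, sub_eq_zero, map_parPart, map_parPart, Multiset.map_map] at h2
  simpa [Function.comp_def] using h2

/-- `∏ (1 + w t)`. -/
noncomputable def lineSeries (W : Multiset A) : PowerSeries A :=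
  (W.map fun w => 1 + PowerSeries.C w * PowerSeries.X).prod

theorem lineSeries_add (V W : Multiset A) : lineSeries (V + W) = lineSeries V * lineSeries W := by
  rw [lineSeries, Multiset.map_add, Multiset.prod_add]; rfl

theorem lineSeries_map (θ : A →+* B) (W : Multiset A) : PowerSeries.map θ (lineSeries W) = lineSeries (W.map θ) := by
  rw [lineSeries, lineSeries, map_multiset_prod, Multiset.map_map, Multiset.map_map]
  exact congrArg _ (Multiset.map_congr rfl fun w _ => by simp)

theorem rescale_lineSeries (a : A) (W : Multiset A) :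
    PowerSeries.rescale a (lineSeries W) = lineSeries (W.map (a * ·)) := by
  rw [lineSeries, lineSeries, map_multiset_prod, Multiset.map_map, Multiset.map_map]
  refine congrArg _ (Multiset.map_congr rfl fun w _ => ?_)
  have hC : PowerSeries.rescale a (PowerSeries.C w) = PowerSeries.C w := by
    ext n
    rcases n with _ | n <;> simp [PowerSeries.coeff_rescale, PowerSeries.coeff_C]
  rw [Function.comp_apply, Function.comp_apply, map_add, map_one, map_mul, hC, PowerSeries.rescale_X, map_mul]
  ring

theorem coeff_lineSeries_of_lt (W : Multiset A) {n : ℕ} (h : Multiset.card W < n) : PowerSeries.coeff n (lineSeries W) = 0 := by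
  rw [lineSeries, coeff_mprod_linear, esymm_of_lt _ h]

theorem top_coeff_mul {x y : PowerSeries A} {a b : ℕ} (hx : ∀ i, a < i → PowerSeries.coeff i x = 0)
    (hy : ∀ i, b < i → PowerSeries.coeff i y = 0) :
    (∀ i, a + b < i → PowerSeries.coeff i (x * y) = 0) ∧
      PowerSeries.coeff (a + b) (x * y) = PowerSeries.coeff a x * PowerSeries.coeff b y := by
  constructor
  · intro i hi
    rw [PowerSeries.coeff_mul]
    refine Finset.sum_eq_zero fun p hp => ?_
    rw [Finset.mem_antidiagonal] at hp
    rcases Nat.lt_or_ge a p.1 with h | h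
    · rw [hx _ h, zero_mul]
    · rw [hy _ (by omega), mul_zero]
  · rw [PowerSeries.coeff_mul, Finset.sum_eq_single (a, b)]
    · intro p hp hne
      rw [Finset.mem_antidiagonal] at hp
      rcases Nat.lt_or_ge a p.1 with h | h
      · rw [hx _ h, zero_mul]
      · rw [hy _ (by
          rcases Nat.lt_or_ge b p.2 with h' | h'
          · exact h'
          · exact absurd (Prod.ext (by omega) (by omega)) hne), mul_zero]
    · simp

end Comb

variable {K : Type u} [CommRing K] [LambdaOps K] {P : PosStructure K} {e : K}

theorem map_lamSeries_lines {K' : Type u} [CommRing K'] [LambdaOps K'] {P' : PosStructure K'} {f : K →+* K'}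
    (hf : IsExtension P P' f) {x : K} {W : Multiset K'} (hW : ∀ w ∈ W, P'.IsLine w) (hsum : W.sum = f x) :
    PowerSeries.map f (lamSeries x) = lineSeries W := by
  ext n
  rw [PowerSeries.coeff_map, coeff_lamSeries, hf.isLambdaHom, ← hsum, lineSeries, coeff_mprod_linear,
    lam_msum fun w hw => line_lam P' (hW w hw)]

section Def

variable (P e)

/-- The series of `a T^i`. -/
noncomputable def lamTerm (i : ℕ) (a : K) : PowerSeries (Ke P e) :=
  PowerSeries.rescale (ell P e ^ i) (PowerSeries.map (AdjoinRoot.of (KRR.extPoly P e)) (lamSeries a))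

theorem lamTerm_add (i : ℕ) (a b : K) : lamTerm P e i (a + b) = lamTerm P e i a * lamTerm P e i b := by
  rw [lamTerm, lamSeries_add, map_mul, map_mul]; rfl

theorem lamTerm_zero (i : ℕ) : lamTerm P e i 0 = 1 := by rw [lamTerm, lamSeries_zero, map_one, map_one]

/-- The series on polynomials, additively. -/
noncomputable def lamPolyHom : Polynomial K →+ Additive (PowerSeries (Ke P e)) where
  toFun p := p.sum fun i a => Additive.ofMul (lamTerm P e i a)
  map_zero' := Polynomial.sum_zero_index _
  map_add' p q := Polynomial.sum_add_index p q _ (fun i => by rw [lamTerm_zero]; rfl)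
    (fun i a b => by rw [lamTerm_add]; rfl)

/-- The series on polynomials. -/
noncomputable def lamPoly (p : Polynomial K) : PowerSeries (Ke P e) := Additive.toMul (lamPolyHom P e p)

theorem lamPoly_add (p q : Polynomial K) : lamPoly P e (p + q) = lamPoly P e p * lamPoly P e q := by
  rw [lamPoly, map_add]; rfl

theorem lamPoly_zero : lamPoly P e 0 = 1 := by rw [lamPoly, map_zero]; rfl

theorem lamPoly_monomial (i : ℕ) (a : K) : lamPoly P e (Polynomial.monomial i a) = lamTerm P e i a := by
  show Additive.toMul ((Polynomial.monomial i a).sum fun i a => Additive.ofMul (lamTerm P e i a)) = _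
  rw [Polynomial.sum_monomial_index _ _ (by rw [lamTerm_zero]; rfl)]
  rfl

theorem lamPoly_sum {ι : Type*} (s : Finset ι) (g : ι → Polynomial K) :
    lamPoly P e (∑ i ∈ s, g i) = ∏ i ∈ s, lamPoly P e (g i) := by
  rw [lamPoly, map_sum, toMul_sum]; rfl

/-- The total operation of the extension. -/
noncomputable def lamExt (z : Ke P e) : PowerSeries (Ke P e) :=
  lamPoly P e (Function.surjInv AdjoinRoot.mk_surjective z)

theorem constantCoeff_lamPoly (p : Polynomial K) : PowerSeries.constantCoeff (lamPoly P e p) = 1 := by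
  induction p using Polynomial.induction_on' with
  | add p q hp hq => rw [lamPoly_add, map_mul, hp, hq, one_mul]
  | monomial i a =>
    rw [lamPoly_monomial, lamTerm, ← PowerSeries.coeff_zero_eq_constantCoeff_apply, PowerSeries.coeff_rescale,
      PowerSeries.coeff_map, coeff_lamSeries, LambdaOps.lam_zero, map_one, pow_zero, one_mul]

theorem coeff_one_lamPoly (p : Polynomial K) :
    PowerSeries.coeff 1 (lamPoly P e p) = AdjoinRoot.mk (KRR.extPoly P e) p := by
  induction p using Polynomial.induction_on' with
  | add p q hp hq =>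
    rw [lamPoly_add, PowerSeries.coeff_mul, Finset.Nat.sum_antidiagonal_eq_sum_range_succ_mk, Finset.sum_range_succ,
      Finset.sum_range_one, Nat.sub_zero, Nat.sub_self, PowerSeries.coeff_zero_eq_constantCoeff_apply,
      PowerSeries.coeff_zero_eq_constantCoeff_apply, constantCoeff_lamPoly, constantCoeff_lamPoly, hp, hq, map_add]
    ring
  | monomial i a =>
    rw [lamPoly_monomial, lamTerm, PowerSeries.coeff_rescale, PowerSeries.coeff_map, coeff_lamSeries, LambdaOps.lam_one,
      pow_one, ← Polynomial.C_mul_X_pow_eq_monomial, map_mul, map_pow, AdjoinRoot.mk_C, AdjoinRoot.mk_X, mul_comm]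

theorem isUnit_lamPoly (p : Polynomial K) : IsUnit (lamPoly P e p) := by
  rw [PowerSeries.isUnit_iff_constantCoeff, constantCoeff_lamPoly]; exact isUnit_one

/-- The base change of the elementary extension. -/
noncomputable def extMap {K' : Type u} [CommRing K'] (f : K →+* K') :
    Ke P e →+* AdjoinRoot ((KRR.extPoly P e).map f) :=
  AdjoinRoot.lift ((AdjoinRoot.of _).comp f) (AdjoinRoot.root _)
    (by rw [← Polynomial.eval₂_map]; exact AdjoinRoot.eval₂_root _)

omit [LambdaOps K] in
theorem mk_of_monic_injective {R : Type u} [CommRing R] {p : Polynomial R} (hp : p.Monic) {q : Polynomial R}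
    (h : AdjoinRoot.mk p q = 0) : q %ₘ p = 0 :=
  (Polynomial.modByMonic_eq_zero_iff_dvd hp).2 (AdjoinRoot.mk_eq_zero.1 h)

theorem extMap_injective {K' : Type u} [CommRing K'] {f : K →+* K'} (hf : Function.Injective f) :
    Function.Injective (extMap P e f) := by
  refine (injective_iff_map_eq_zero _).2 fun z hz => ?_
  obtain ⟨g, rfl⟩ := AdjoinRoot.mk_surjective z
  have hg : extMap P e f (AdjoinRoot.mk _ g) = AdjoinRoot.mk _ (g.map f) := by
    rw [extMap, AdjoinRoot.lift_mk, ← Polynomial.eval₂_map, ← AdjoinRoot.algebraMap_eq, ← Polynomial.aeval_def, AdjoinRoot.aeval_eq]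
  rw [hg] at hz
  have h2 := mk_of_monic_injective ((monic_extPoly P e).1.map f) hz
  rw [← Polynomial.map_modByMonic _ (monic_extPoly P e).1, Polynomial.map_eq_zero_iff hf] at h2
  rw [AdjoinRoot.mk_eq_zero, ← Polynomial.modByMonic_eq_zero_iff_dvd (monic_extPoly P e).1, h2]

end Def

section Rel

variable (hK : HasSplitting K P) (he : e ∈ P.pos)

include hK he

theorem lamPoly_relation_pos {c : K} (hc : c ∈ P.pos) (k : ℕ) :
    lamPoly P e (Polynomial.monomial k c * KRR.extPoly P e) = 1 := by
  obtain ⟨L, f, hL, hf, hs⟩ := exists_split' hK [e, c] (by simp [he, hc])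
  obtain ⟨U, hUl, hUsum⟩ := hs e (by simp)
  obtain ⟨C', hCl, hCsum⟩ := hs c (by simp)
  obtain ⟨hcard, hlam, -⟩ := gamma_split he hf hUl hUsum
  set m := (P.aug e).toNat with hm
  set x : ℕ → K := fun i => c * LambdaOps.lam i e
  set t : ℕ → PowerSeries (Ke P e) := fun i => lamTerm P e (k + (m - i)) (x i) with ht
  have hl : lamPoly P e (Polynomial.monomial k c * KRR.extPoly P e) *
      ∏ i ∈ range (m + 1), (if Even (i + 1) then t i else 1) = ∏ i ∈ range (m + 1), if Even (i + 0) then t i else 1 := by
    have hp : lamPoly P e (Polynomial.monomial k c * KRR.extPoly P e) = lamPoly P e (∑ i ∈ range (m + 1),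
        Polynomial.monomial k c * (Polynomial.C ((-1 : K) ^ i * LambdaOps.lam i e) * Polynomial.X ^ (m - i))) :=
      congrArg (lamPoly P e) (Finset.mul_sum _ _ _)
    rw [hp, lamPoly_sum, ← Finset.prod_mul_distrib]
    refine Finset.prod_congr rfl fun i _ => ?_
    rw [Polynomial.C_mul_X_pow_eq_monomial, Polynomial.monomial_mul_monomial, lamPoly_monomial, add_zero]
    rcases Nat.even_or_odd i with hi | hi
    · rw [if_neg (by simpa [Nat.even_add_one] using hi), if_pos hi, hi.neg_one_pow, one_mul, mul_one]
    · rw [if_pos hi.add_one, if_neg (Nat.not_even_iff_odd.2 hi), hi.neg_one_pow, ← lamTerm_add,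
        show c * (-1 * LambdaOps.lam i e) + x i = 0 by simp [x], lamTerm_zero]
  suffices h : ∏ i ∈ range (m + 1), (if Even (i + 0) then t i else 1) = ∏ i ∈ range (m + 1), if Even (i + 1) then t i else 1 by
    rw [h] at hl
    refine (IsUnit.mul_left_injective (Finset.prod_induction _ IsUnit (fun _ _ => IsUnit.mul) isUnit_one fun i _ => ?_))
      (hl.trans (one_mul _).symm)
    split_ifs
    · simp only [ht]; rw [← lamPoly_monomial]; exact isUnit_lamPoly P e _
    · exact isUnit_one
  apply PowerSeries.map_injective _ (extMap_injective P e hf.injective)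
  set g : L.carrier →+* AdjoinRoot ((KRR.extPoly P e).map f) := AdjoinRoot.of _ with hg
  set l : AdjoinRoot ((KRR.extPoly P e).map f) := AdjoinRoot.root _ with hldef
  have hle : extMap P e f (ell P e) = l := AdjoinRoot.lift_root _
  have hpol : (KRR.extPoly P e).map f = (U.map fun v => Polynomial.X - Polynomial.C v).prod := by
    rw [Multiset.prod_X_sub_X_eq_sum_esymm, hcard, KRR.extPoly, Polynomial.map_sum]
    refine Finset.sum_congr rfl fun i _ => ?_
    simp [Polynomial.map_mul, hlam, mul_assoc, ← hm]
  have hzero : ((U.map fun v => PowerSeries.C (g v)).map fun u => PowerSeries.C l - u).prod = 0 := by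
    have := AdjoinRoot.eval₂_root ((KRR.extPoly P e).map f)
    conv at this =>
      lhs
      arg 3
      rw [hpol]
    rw [← Polynomial.coe_eval₂RingHom, map_multiset_prod, Multiset.map_map] at this
    rw [Multiset.map_map, ← map_zero (PowerSeries.C (R := AdjoinRoot ((KRR.extPoly P e).map f))), ← this,
      map_multiset_prod, Multiset.map_map]
    exact congrArg _ (Multiset.map_congr rfl fun v _ => by simp [g, l])
  have hterm : ∀ i ∈ range (m + 1), PowerSeries.map (extMap P e f) (t i) =
      (C'.map fun w => fPart (U.map fun v => PowerSeries.C (g v)) i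
        (PowerSeries.C l ^ (m - i) * (PowerSeries.C (l ^ k * g w) * PowerSeries.X))).prod := by
    intro i _
    have hW : ∀ w ∈ C'.bind fun w => (Multiset.powersetCard i U).map fun S => w * S.prod, L.posStr.IsLine w := by
      intro w hw
      obtain ⟨a, ha, hw⟩ := Multiset.mem_bind.1 hw
      obtain ⟨S, hS, rfl⟩ := Multiset.mem_map.1 hw
      refine isLine_mul L.posStr (hCl a ha) (Multiset.prod_induction _ S (fun _ _ => isLine_mul L.posStr)
        (isLine_one L.posStr) fun v hv => hUl v ?_)
      exact Multiset.mem_of_le (Multiset.mem_powersetCard.1 hS).1 hv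
    have hWsum : (C'.bind fun w => (Multiset.powersetCard i U).map fun S => w * S.prod).sum = f (x i) := by
      rw [Multiset.sum_bind, map_mul, hlam, ← hCsum]
      conv_rhs => rw [← Multiset.map_id' C', ← Multiset.sum_map_mul_right]
      exact congrArg _ (Multiset.map_congr rfl fun w _ => by rw [Multiset.esymm, ← Multiset.sum_map_mul_left])
    have hs' : PowerSeries.map (extMap P e f) (t i) = PowerSeries.rescale (l ^ (k + (m - i)))
        (PowerSeries.map g (PowerSeries.map f (lamSeries (x i)))) := by
      ext n
      simp [ht, lamTerm, PowerSeries.coeff_rescale, extMap, g, l]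
    rw [hs', map_lamSeries_lines hf hW hWsum, lineSeries_map, rescale_lineSeries, lineSeries, Multiset.map_map,
      Multiset.map_map, Multiset.map_bind, Multiset.prod_bind]
    refine congrArg _ (Multiset.map_congr rfl fun w _ => ?_)
    rw [fPart, Multiset.powersetCard_map, Multiset.map_map, Multiset.map_map]
    refine congrArg _ (Multiset.map_congr rfl fun S _ => ?_)
    simp only [Function.comp_apply, map_mul, map_pow]
    rw [show (S.map fun v => PowerSeries.C (g v)).prod = PowerSeries.C (g S.prod) by
      rw [map_multiset_prod, map_multiset_prod, Multiset.map_map]; rfl]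
    ring
  have hprod : ∀ b, PowerSeries.map (extMap P e f) (∏ i ∈ range (m + 1), if Even (i + b) then t i else 1) =
      (C'.map fun w => parPart b (U.map fun v => PowerSeries.C (g v)) (PowerSeries.C l)
        (PowerSeries.C (l ^ k * g w) * PowerSeries.X)).prod := by
    intro b
    rw [map_prod]
    simp only [parPart, Multiset.card_map, hcard]
    rw [Finset.prod_eq_multiset_prod]
    simp only [Finset.prod_eq_multiset_prod]
    rw [Multiset.prod_map_prod_map]
    refine congrArg _ (Multiset.map_congr rfl fun i hi => ?_)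
    split_ifs
    · exact hterm i hi
    · simp
  rw [hprod, hprod]
  exact congrArg _ (Multiset.map_congr rfl fun w _ => parPart_eq _ _ _ hzero)

theorem lamPoly_mul_extPoly (g : Polynomial K) : lamPoly P e (g * KRR.extPoly P e) = 1 := by
  induction g using Polynomial.induction_on' with
  | add p q hp hq => rw [add_mul, lamPoly_add, hp, hq, one_mul]
  | monomial k c =>
    obtain ⟨a, b, ha, hb, rfl⟩ := P.exists_sub c
    have h := lamPoly_relation_pos hK he ha k
    rw [show Polynomial.monomial k a = Polynomial.monomial k (a - b) + Polynomial.monomial k b by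
      rw [← map_add, sub_add_cancel], add_mul, lamPoly_add, lamPoly_relation_pos hK he hb k, mul_one] at h
    exact h

theorem lamExt_mk (p : Polynomial K) : lamExt P e (AdjoinRoot.mk _ p) = lamPoly P e p := by
  rw [lamExt]
  obtain ⟨g, hg⟩ := AdjoinRoot.mk_eq_mk.1 (Function.surjInv_eq AdjoinRoot.mk_surjective (AdjoinRoot.mk (KRR.extPoly P e) p))
  rw [sub_eq_iff_eq_add'.1 hg, lamPoly_add, mul_comm (KRR.extPoly P e), lamPoly_mul_extPoly hK he, mul_one]

theorem lamExt_add (y z : Ke P e) : lamExt P e (y + z) = lamExt P e y * lamExt P e z := by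
  obtain ⟨p, rfl⟩ := AdjoinRoot.mk_surjective y
  obtain ⟨q, rfl⟩ := AdjoinRoot.mk_surjective z
  rw [← map_add, lamExt_mk hK he, lamExt_mk hK he, lamExt_mk hK he, lamPoly_add]

theorem lamExt_mul_ell (z : Ke P e) : lamExt P e (z * ell P e) = PowerSeries.rescale (ell P e) (lamExt P e z) := by
  obtain ⟨p, rfl⟩ := AdjoinRoot.mk_surjective z
  rw [ell, ← AdjoinRoot.mk_X, ← map_mul, lamExt_mk hK he, lamExt_mk hK he]
  induction p using Polynomial.induction_on' with
  | add p q hp hq => rw [add_mul, lamPoly_add, lamPoly_add, map_mul, hp, hq]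
  | monomial i a =>
    rw [Polynomial.monomial_mul_X, lamPoly_monomial, lamPoly_monomial, lamTerm, lamTerm, AdjoinRoot.mk_X,
      PowerSeries.rescale_rescale, ← pow_succ]

theorem lamExt_monomial (i : ℕ) (a : K) :
    lamExt P e (AdjoinRoot.of _ a * ell P e ^ i) = lamTerm P e i a := by
  rw [show AdjoinRoot.of (KRR.extPoly P e) a * ell P e ^ i = AdjoinRoot.mk _ (Polynomial.monomial i a) by
    rw [← Polynomial.C_mul_X_pow_eq_monomial, map_mul, map_pow, AdjoinRoot.mk_C, AdjoinRoot.mk_X],
    lamExt_mk hK he, lamPoly_monomial]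

/-- The operations of the extension. -/
@[implicit_reducible]
noncomputable def extOps : LambdaOps (Ke P e) where
  lam i z := PowerSeries.coeff i (lamExt P e z)
  lam_zero z := by rw [PowerSeries.coeff_zero_eq_constantCoeff_apply, lamExt, constantCoeff_lamPoly]
  lam_one z := by rw [lamExt, coeff_one_lamPoly, Function.surjInv_eq AdjoinRoot.mk_surjective]
  lam_add k y z := by
    rw [lamExt_add hK he, PowerSeries.coeff_mul, Finset.Nat.sum_antidiagonal_eq_sum_range_succ_mk]

end Rel

section Pos

open Polynomial

variable (hK : HasSplitting K P) (he : e ∈ P.pos)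

theorem lineSeries_bind {A β : Type*} [CommRing A] (s : Multiset β) (g : β → Multiset A) :
    lineSeries (s.bind g) = (s.map fun b => lineSeries (g b)).prod := by
  rw [lineSeries, Multiset.map_bind, Multiset.prod_bind]; rfl

theorem lineSeries_cons {A : Type*} [CommRing A] (a : A) (s : Multiset A) :
    lineSeries (a ::ₘ s) = (1 + PowerSeries.C a * PowerSeries.X) * lineSeries s := by
  rw [lineSeries, Multiset.map_cons, Multiset.prod_cons]; rfl

theorem isUnit_lineSeries {A : Type*} [CommRing A] (W : Multiset A) : IsUnit (lineSeries W) := by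
  rw [PowerSeries.isUnit_iff_constantCoeff, ← PowerSeries.coeff_zero_eq_constantCoeff_apply, lineSeries, coeff_mprod_linear,
    esymm_zero']
  exact isUnit_one

theorem lineSeries_congr {A : Type*} [CommRing A] [Nontrivial A] {V W : Multiset A}
    (h : (V.map fun v => X - Polynomial.C v).prod = (W.map fun v => X - Polynomial.C v).prod) :
    lineSeries V = lineSeries W := by
  have hc : Multiset.card V = Multiset.card W := by
    rw [← Polynomial.natDegree_multiset_prod_X_sub_C_eq_card V, h, Polynomial.natDegree_multiset_prod_X_sub_C_eq_card]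
  ext n
  rw [lineSeries, lineSeries, coeff_mprod_linear, coeff_mprod_linear]
  rcases Nat.lt_or_ge (Multiset.card V) n with hn | hn
  · rw [esymm_of_lt _ hn, esymm_of_lt _ (hc ▸ hn)]
  have h2 := congrArg (fun q => Polynomial.coeff q (Multiset.card V - n)) h
  simp only [Multiset.prod_X_sub_C_coeff V (k := Multiset.card V - n) (Nat.sub_le _ _),
    Multiset.prod_X_sub_C_coeff W (k := Multiset.card V - n) (by omega), ← hc,
    show Multiset.card V - (Multiset.card V - n) = n by omega] at h2
  exact (isUnit_one.neg.pow n).mul_left_cancel h2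

include hK he

omit hK in
theorem nontrivial_Ke : Nontrivial (Ke P e) := by
  have : Nontrivial K := P.aug.domain_nontrivial
  refine ⟨0, 1, fun h => ?_⟩
  rw [eq_comm, ← map_one (AdjoinRoot.mk (KRR.extPoly P e))] at h
  have h2 := mk_of_monic_injective (monic_extPoly P e).1 h
  rw [(Polynomial.modByMonic_eq_self_iff (monic_extPoly P e).1).2] at h2
  · exact one_ne_zero h2
  rw [Polynomial.degree_one, Polynomial.degree_eq_natDegree (monic_extPoly P e).1.ne_zero, (monic_extPoly P e).2]
  have := P.aug_pos e he
  exact_mod_cast (by omega : 0 < (P.aug e).toNat)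

omit hK he in
theorem gen_split (a : K) (i k : ℕ) :
    AdjoinRoot.of _ (a * e) * ell P e ^ i * (AdjoinRoot.of (KRR.extPoly P e) e - ell P e) ^ k =
      AdjoinRoot.of _ a * ell P e ^ i * (AdjoinRoot.of (KRR.extPoly P e) e - ell P e) ^ (k + 1) +
      AdjoinRoot.of _ a * ell P e ^ (i + 1) * (AdjoinRoot.of (KRR.extPoly P e) e - ell P e) ^ k := by
  rw [map_mul]; ring

theorem gen_bound {a₀ : K} (ha₀ : a₀ ∈ P.pos) (i₀ k₀ : ℕ) :
    ∀ n, (P.aug a₀).toNat * ((P.aug e).toNat - 1) ^ k₀ < n →
      PowerSeries.coeff n (lamExt P e (AdjoinRoot.of _ a₀ * ell P e ^ i₀ *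
        (AdjoinRoot.of (KRR.extPoly P e) e - ell P e) ^ k₀)) = 0 := by
  obtain ⟨L, f, hL, hf, hs⟩ := exists_split' hK [e, a₀] (by simp [he, ha₀])
  obtain ⟨U, hUl, hUsum⟩ := hs e (by simp)
  obtain ⟨C₀, hCl, hCsum⟩ := hs a₀ (by simp)
  obtain ⟨hcard, hlam, -⟩ := gamma_split he hf hUl hUsum
  set m := (P.aug e).toNat with hm
  have hinj := extMap_injective P e hf.injective
  have : Nontrivial (Ke P e) := nontrivial_Ke he
  have : Nontrivial (AdjoinRoot ((KRR.extPoly P e).map f)) := hinj.nontrivial
  set pf := ((KRR.extPoly P e).map f).map (AdjoinRoot.of ((KRR.extPoly P e).map f)) with hpf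
  set l : AdjoinRoot ((KRR.extPoly P e).map f) := AdjoinRoot.root _ with hl
  have hroot : (X - Polynomial.C l) * (pf /ₘ (X - Polynomial.C l)) = pf :=
    Polynomial.mul_divByMonic_eq_iff_isRoot.2 (AdjoinRoot.isRoot_root _)
  have hpm : pf.Monic := ((monic_extPoly P e).1.map _).map _
  have hQm : (pf /ₘ (X - Polynomial.C l)).Monic :=
    Polynomial.Monic.of_mul_monic_left (Polynomial.monic_X_sub_C l) (by rw [hroot]; exact hpm)
  obtain ⟨F, iF, iA, iFin, iFree, iN, hsp⟩ := hQm.exists_splits_map
  obtain ⟨V, hV⟩ := Polynomial.splits_iff_exists_multiset.1 hsp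
  rw [(hQm.map (algebraMap (AdjoinRoot ((KRR.extPoly P e).map f)) F)).leadingCoeff, Polynomial.C_1, one_mul] at hV
  set φ : Ke P e →+* F := (algebraMap _ F).comp (extMap P e f) with hφ
  set j : L.carrier →+* F := (algebraMap _ F).comp (AdjoinRoot.of ((KRR.extPoly P e).map f)) with hj
  set lF : F := algebraMap _ F l with hlF
  have hφinj : Function.Injective φ := (FaithfulSMul.algebraMap_injective _ F).comp hinj
  have hφl : φ (ell P e) = lF := congrArg (algebraMap _ F) (AdjoinRoot.lift_root _)
  have hφof : ∀ x, φ (AdjoinRoot.of _ x) = j (f x) := fun x => congrArg (algebraMap _ F) (AdjoinRoot.lift_of _)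
  have hpoly : ((U.map j).map fun v => X - Polynomial.C v).prod = ((lF ::ₘ V).map fun v => X - Polynomial.C v).prod := by
    rw [Multiset.map_cons, Multiset.prod_cons, ← hV]
    have hUp : (KRR.extPoly P e).map f = (U.map fun v => X - Polynomial.C v).prod := by
      rw [Multiset.prod_X_sub_X_eq_sum_esymm, hcard, KRR.extPoly, Polynomial.map_sum]
      refine Finset.sum_congr rfl fun i _ => ?_
      simp [Polynomial.map_mul, hlam, mul_assoc, ← hm]
    have h1 : pf.map (algebraMap _ F) = ((U.map j).map fun v => X - Polynomial.C v).prod := by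
      refine (Polynomial.map_map _ _ _).trans ((congrArg (Polynomial.map j) hUp).trans ?_)
      rw [Polynomial.map_multiset_prod, Multiset.map_map, Multiset.map_map]
      exact congrArg _ (Multiset.map_congr rfl fun v _ => by simp)
    rw [← h1, ← hroot, Polynomial.map_mul, Polynomial.map_sub, Polynomial.map_X, Polynomial.map_C, hlF]
    rw [hroot]
  have hLS : lineSeries (U.map j) = lineSeries (lF ::ₘ V) := lineSeries_congr hpoly
  have hVc : Multiset.card V = m - 1 := by
    have := congrArg Polynomial.natDegree hpoly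
    rw [Polynomial.natDegree_multiset_prod_X_sub_C_eq_card, Polynomial.natDegree_multiset_prod_X_sub_C_eq_card,
      Multiset.card_map, Multiset.card_cons, hcard] at this
    omega
  have key : ∀ k, ∃ W : Multiset F, Multiset.card W = (m - 1) ^ k ∧
      ∀ (a : K) (C : Multiset L.carrier), (∀ c ∈ C, L.posStr.IsLine c) → C.sum = f a → ∀ i,
        PowerSeries.map φ (lamExt P e (AdjoinRoot.of _ a * ell P e ^ i *
          (AdjoinRoot.of (KRR.extPoly P e) e - ell P e) ^ k)) =
          lineSeries (C.bind fun c => W.map fun w => j c * lF ^ i * w) := by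
    intro k
    induction k with
    | zero =>
      refine ⟨{1}, by simp, fun a C hC hsum i => ?_⟩
      rw [pow_zero, mul_one, lamExt_monomial hK he]
      have hs' : PowerSeries.map φ (lamTerm P e i a) =
          PowerSeries.rescale (lF ^ i) (PowerSeries.map j (PowerSeries.map f (lamSeries a))) := by
        ext n
        simp [lamTerm, PowerSeries.coeff_rescale, hφl, hφof]
      rw [hs', map_lamSeries_lines hf hC hsum, lineSeries_map, rescale_lineSeries, Multiset.map_map]
      congr 1
      simp [Multiset.bind_singleton, mul_comm, Function.comp_def]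
    | succ k ih =>
      obtain ⟨W, hW, hk⟩ := ih
      refine ⟨V.bind fun v => W.map (v * ·), ?_, fun a C hC hsum i => ?_⟩
      · rw [Multiset.card_bind, pow_succ', ← hW, ← hVc]
        simp [Function.comp_def]
      have hsum' : (C.bind fun c => U.map (c * ·)).sum = f (a * e) := by
        rw [Multiset.sum_bind, map_mul, ← hsum, ← hUsum]
        conv_rhs => rw [← Multiset.map_id' C, ← Multiset.sum_map_mul_right]
        exact congrArg _ (Multiset.map_congr rfl fun c _ => by rw [Multiset.sum_map_mul_left, Multiset.map_id'])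
      have hl' : ∀ c ∈ C.bind fun c => U.map (c * ·), L.posStr.IsLine c := by
        intro w hw
        obtain ⟨c, hc, hw⟩ := Multiset.mem_bind.1 hw
        obtain ⟨v, hv, rfl⟩ := Multiset.mem_map.1 hw
        exact isLine_mul L.posStr (hC c hc) (hUl v hv)
      have h := hk (a * e) _ hl' hsum' i
      rw [gen_split, lamExt_add hK he, map_mul, hk a C hC hsum (i + 1)] at h
      refine (isUnit_lineSeries _).mul_left_injective (h.trans ?_)
      simp only [lineSeries_bind, Multiset.bind_assoc, ← Multiset.prod_map_mul]
      refine congrArg _ (Multiset.map_congr rfl fun c _ => ?_)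
      simp only [lineSeries, Multiset.map_bind, Multiset.prod_bind, Multiset.map_map, Function.comp_def]
      rw [Multiset.prod_map_prod_map U W, Multiset.prod_map_prod_map V W, ← Multiset.prod_map_mul]
      refine congrArg _ (Multiset.map_congr rfl fun w _ => ?_)
      have hw := congrArg (PowerSeries.rescale (j c * lF ^ i * w)) hLS
      rw [rescale_lineSeries, rescale_lineSeries, Multiset.map_cons, lineSeries_cons] at hw
      simp only [lineSeries, Multiset.map_map, Function.comp_def] at hw
      rw [show (U.map fun v => 1 + PowerSeries.C (j (c * v) * lF ^ i * w) * PowerSeries.X) =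
        U.map fun v => 1 + PowerSeries.C (j c * lF ^ i * w * j v) * PowerSeries.X from
          Multiset.map_congr rfl fun v _ => by rw [map_mul j]; ring_nf, hw, mul_comm,
        show j c * lF ^ i * w * lF = j c * lF ^ (i + 1) * w by ring]
      refine congrArg₂ _ (congrArg _ (Multiset.map_congr rfl fun v _ => ?_)) rfl
      rw [show j c * lF ^ i * w * v = j c * lF ^ i * (v * w) by ring]
  intro n hn
  obtain ⟨W, hW, hk⟩ := key k₀
  have h := congrArg (PowerSeries.coeff n) (hk a₀ C₀ hCl hCsum i₀)
  rw [PowerSeries.coeff_map, coeff_lineSeries_of_lt] at h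
  · exact hφinj (h.trans (map_zero φ).symm)
  rw [Multiset.card_bind]
  have hC0 := (gamma_split ha₀ hf hCl hCsum).1
  simpa [Function.comp_def, hC0, hW] using hn

theorem gen_top {a : K} (ha : a ∈ P.pos) (i k : ℕ) :
    IsUnit (PowerSeries.coeff ((P.aug a).toNat * ((P.aug e).toNat - 1) ^ k)
      (lamExt P e (AdjoinRoot.of _ a * ell P e ^ i * (AdjoinRoot.of (KRR.extPoly P e) e - ell P e) ^ k))) := by
  induction k generalizing a i with
  | zero =>
    rw [pow_zero, mul_one, pow_zero, mul_one, lamExt_monomial hK he, lamTerm, PowerSeries.coeff_rescale,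
      PowerSeries.coeff_map, coeff_lamSeries]
    exact (((isUnit_ell he).pow _).pow _).mul ((P.isUnit_lam a ha).map _)
  | succ k ih =>
    have h := ih (P.mul_mem a e ha he) i
    obtain ⟨M, hM⟩ : ∃ M, (P.aug e).toNat = M + 1 := ⟨(P.aug e).toNat - 1, by have := P.aug_pos e he; omega⟩
    have hNm : (P.aug (a * e)).toNat = (P.aug a).toNat * (M + 1) := by
      rw [map_mul, aug_e P ha, aug_e P he, ← Nat.cast_mul, Int.toNat_natCast, Int.toNat_natCast, hM]
    rw [gen_split, lamExt_add hK he, hNm, show (P.aug a).toNat * (M + 1) * ((P.aug e).toNat - 1) ^ k =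
      (P.aug a).toNat * ((P.aug e).toNat - 1) ^ (k + 1) + (P.aug a).toNat * ((P.aug e).toNat - 1) ^ k by
        rw [hM, Nat.add_sub_cancel]; ring,
      (top_coeff_mul (gen_bound hK he ha i (k + 1)) (gen_bound hK he ha (i + 1) k)).2] at h
    exact isUnit_of_mul_isUnit_left h

/-- The augmentation of the extension. -/
noncomputable def extAug : Ke P e →+* ℤ :=
  AdjoinRoot.lift P.aug 1 (by
    have hm : (P.aug e).toNat ≠ 0 := by have := P.aug_pos e he; omega
    rw [KRR.extPoly, Polynomial.eval₂_finsetSum, ← Int.alternating_sum_range_choose_of_ne hm]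
    refine Finset.sum_congr rfl fun i _ => ?_
    simp [aug_lam hK he])

/-- The generators of the positive cone. -/
noncomputable def posGens (P : PosStructure K) (e : K) : Set (Ke P e) :=
  {z | ∃ a ∈ P.pos, ∃ i k : ℕ, (2 ≤ P.aug e ∨ k = 0) ∧
    z = AdjoinRoot.of _ a * ell P e ^ i * (AdjoinRoot.of (KRR.extPoly P e) e - ell P e) ^ k}

theorem nice_of_mem {z : Ke P e} (hz : z ∈ AddSubsemigroup.closure (posGens P e)) :
    ∃ d : ℕ, 0 < d ∧ extAug hK he z = d ∧ (∀ n, d < n → PowerSeries.coeff n (lamExt P e z) = 0) ∧
      IsUnit (PowerSeries.coeff d (lamExt P e z)) := by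
  induction hz using AddSubsemigroup.closure_induction with
  | mem z hz =>
    obtain ⟨a, ha, i, k, hk, rfl⟩ := hz
    have ha0 := P.aug_pos a ha
    have he0 := P.aug_pos e he
    refine ⟨(P.aug a).toNat * ((P.aug e).toNat - 1) ^ k, ?_, ?_, gen_bound hK he ha i k, gen_top hK he ha i k⟩
    · rcases hk with hk | rfl
      · exact Nat.mul_pos (by omega) (Nat.pow_pos (by omega))
      · simp; omega
    · rw [map_mul, map_mul, map_pow, map_pow, map_sub, extAug, AdjoinRoot.lift_of, AdjoinRoot.lift_of, ell,
        AdjoinRoot.lift_root, one_pow, mul_one, Nat.cast_mul, Nat.cast_pow, Nat.cast_sub (by omega),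
        ← aug_e P ha, ← aug_e P he, Nat.cast_one]
  | add y z _ _ hy hz =>
    obtain ⟨c, hc0, hc, hcb, hcu⟩ := hy
    obtain ⟨d, hd0, hd, hdb, hdu⟩ := hz
    obtain ⟨h1, h2⟩ := top_coeff_mul hcb hdb
    refine ⟨c + d, by omega, by rw [map_add, hc, hd, Nat.cast_add], ?_, ?_⟩
    · intro n hn; rw [lamExt_add hK he]; exact h1 n hn
    · rw [lamExt_add hK he, h2]; exact hcu.mul hdu

/-- The positive structure of the extension. -/
noncomputable def extPos : @PosStructure _ _ (extOps hK he) :=
  letI := extOps hK he
  { aug := extAug hK he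
    aug_surjective := fun n => ⟨n, map_intCast _ n⟩
    pos := (AddSubsemigroup.closure (posGens P e) : Set (Ke P e))
    add_mem := fun _ _ => AddSubsemigroup.add_mem _
    mul_mem := fun y z hy hz => by
      induction hy using AddSubsemigroup.closure_induction with
      | mem y hy =>
        induction hz using AddSubsemigroup.closure_induction with
        | mem z hz =>
          obtain ⟨a, ha, i, k, hk, rfl⟩ := hy
          obtain ⟨b, hb, i', k', hk', rfl⟩ := hz
          refine AddSubsemigroup.subset_closure ⟨a * b, P.mul_mem a b ha hb, i + i', k + k', by omega, ?_⟩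
          rw [map_mul]; ring
        | add u v _ _ hu hv => rw [mul_add]; exact add_mem hu hv
      | add u v _ _ hu hv => rw [add_mul]; exact add_mem hu hv
    natCast_mem := fun n hn =>
      AddSubsemigroup.subset_closure ⟨n, P.natCast_mem n hn, 0, 0, Or.inr rfl, by simp⟩
    exists_sub := fun z => by
      induction z using AdjoinRoot.induction_on with
      | ih p =>
        induction p using Polynomial.induction_on' with
        | add p q hp hq =>
          obtain ⟨a, b, ha, hb, h1⟩ := hp
          obtain ⟨c, d, hc, hd, h2⟩ := hq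
          exact ⟨a + c, b + d, add_mem ha hc, add_mem hb hd, by rw [map_add, h1, h2]; ring⟩
        | monomial i x =>
          obtain ⟨a, b, ha, hb, rfl⟩ := P.exists_sub x
          refine ⟨AdjoinRoot.of _ a * ell P e ^ i, AdjoinRoot.of _ b * ell P e ^ i,
            AddSubsemigroup.subset_closure ⟨a, ha, i, 0, Or.inr rfl, by simp⟩,
            AddSubsemigroup.subset_closure ⟨b, hb, i, 0, Or.inr rfl, by simp⟩, ?_⟩
          rw [← sub_mul, ← map_sub, ← Polynomial.C_mul_X_pow_eq_monomial, map_mul, map_pow, AdjoinRoot.mk_C, AdjoinRoot.mk_X]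
    aug_pos := fun z hz => by
      obtain ⟨d, hd, h, -⟩ := nice_of_mem hK he hz
      rw [h]; exact_mod_cast hd
    lam_eq_zero := fun z hz n hn => by
      obtain ⟨d, -, h, hb, -⟩ := nice_of_mem hK he hz
      exact hb n (by omega)
    isUnit_lam := fun z hz => by
      obtain ⟨d, -, h, -, hu⟩ := nice_of_mem hK he hz
      rw [h, Int.toNat_natCast]; exact hu }

theorem exists_lambdaOps :
    ∃ (inst : LambdaOps (Ke P e)) (Pe : @PosStructure _ _ inst),
      (∀ (i : ℕ) (x : K), @LambdaOps.lam _ _ inst i (AdjoinRoot.of (KRR.extPoly P e) x) =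
        AdjoinRoot.of (KRR.extPoly P e) (LambdaOps.lam i x)) ∧
      (∀ i : ℕ, 2 ≤ i → @LambdaOps.lam _ _ inst i (ell P e) = 0) ∧
      @IsExtension K _ _ _ _ inst P Pe (AdjoinRoot.of (KRR.extPoly P e)) ∧
      @PosStructure.IsLine _ _ inst Pe (ell P e) ∧
      (2 ≤ P.aug e → AdjoinRoot.of (KRR.extPoly P e) e - ell P e ∈ (@PosStructure.pos _ _ inst Pe)) := by
  letI := extOps hK he
  have h1 : ∀ (i : ℕ) (x : K), LambdaOps.lam i (AdjoinRoot.of (KRR.extPoly P e) x) =
      AdjoinRoot.of (KRR.extPoly P e) (LambdaOps.lam i x) := fun i x => by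
    show PowerSeries.coeff i (lamExt P e _) = _
    rw [← mul_one (AdjoinRoot.of (KRR.extPoly P e) x), ← pow_zero (ell P e), lamExt_monomial hK he, lamTerm,
      pow_zero, PowerSeries.coeff_rescale, PowerSeries.coeff_map, coeff_lamSeries, one_pow, one_mul]
  refine ⟨extOps hK he, extPos hK he, h1, fun i hi => ?_, ?_, ?_, fun h2 => ?_⟩
  · show PowerSeries.coeff i (lamExt P e _) = _
    rw [show ell P e = AdjoinRoot.of (KRR.extPoly P e) 1 * ell P e ^ 1 by simp, lamExt_monomial hK he, lamTerm,
      PowerSeries.coeff_rescale, PowerSeries.coeff_map, coeff_lamSeries, lam_one_eq_zero P i hi, map_zero, mul_zero]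
  · refine ⟨fun i x => (h1 i x).symm, ?_, fun x => ?_, fun a ha => ?_⟩
    · refine (injective_iff_map_eq_zero _).2 fun x hx => ?_
      rw [← AdjoinRoot.mk_C] at hx
      have h2 := mk_of_monic_injective (monic_extPoly P e).1 hx
      have : Nontrivial K := P.aug.domain_nontrivial
      rw [(Polynomial.modByMonic_eq_self_iff (monic_extPoly P e).1).2] at h2
      · exact Polynomial.C_eq_zero.1 h2
      refine lt_of_le_of_lt Polynomial.degree_C_le ?_
      rw [Polynomial.degree_eq_natDegree (monic_extPoly P e).1.ne_zero, (monic_extPoly P e).2]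
      have := P.aug_pos e he
      exact_mod_cast (by omega : 0 < (P.aug e).toNat)
    · show extAug hK he _ = _
      rw [extAug, AdjoinRoot.lift_of]
    · exact AddSubsemigroup.subset_closure ⟨a, ha, 0, 0, Or.inr rfl, by simp⟩
  · refine ⟨AddSubsemigroup.subset_closure ⟨1, by simpa using P.natCast_mem 1 one_pos, 1, 0, Or.inr rfl, by simp⟩, ?_⟩
    show extAug hK he _ = _
    rw [ell, extAug, AdjoinRoot.lift_root]
  · exact AddSubsemigroup.subset_closure ⟨1, by simpa using P.natCast_mem 1 one_pos, 0, 1, Or.inl h2, by simp⟩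

end Pos

end Groth.Agent.KRR3
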