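import Groth.Agent.KRR3.Det
import Groth.Agent.Lambda37.Rat
import Mathlib.RingTheory.Polynomial.Vieta

/-! The γ-filtration of an elementary extension. -/

set_option autoImplicit false
set_option linter.style.haveILetI false

universe u

namespace Groth.Agent.KRR3

open LambdaRing Finset Groth.Agent.Lambda37

theorem esymm_map_affine {A : Type*} [CommRing A] (c d : A) (s : Multiset A) :
    ∀ n, (s.map fun a => a * c + d).esymm n =
      ∑ k ∈ range (n + 1), ((Multiset.card s - k).choose (n - k) : A) * s.esymm k * c ^ k * d ^ (n - k) := by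
  induction s using Multiset.induction with
  | empty =>
    intro n
    rw [Finset.sum_range_succ', Finset.sum_eq_zero fun i _ => by
      simp [Multiset.esymm, Multiset.powersetCard_zero_right]]
    rcases n with _ | n <;> simp [Multiset.esymm, Multiset.powersetCard_zero_right]
  | cons a s ih =>
    intro n
    rcases n with _ | n
    · simp [Multiset.esymm]
    rw [Multiset.map_cons, esymm_cons, ih, ih, Multiset.card_cons, Finset.sum_range_succ' _ (n + 1),
      Finset.sum_range_succ' _ (n + 1)]
    simp only [esymm_cons, Nat.add_sub_add_right, mul_add, add_mul, Finset.sum_add_distrib]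
    have h1 : ∀ k ∈ range (n + 1), ((Multiset.card s - k).choose (n - k) : A) * s.esymm (k + 1) * c ^ (k + 1) * d ^ (n - k) =
        ((Multiset.card s - (k + 1)).choose (n - k) : A) * s.esymm (k + 1) * c ^ (k + 1) * d ^ (n - k) +
        (if k + 1 ≤ n then d * (((Multiset.card s - (k + 1)).choose (n - (k + 1)) : A) * s.esymm (k + 1) * c ^ (k + 1) * d ^ (n - (k + 1))) else 0) := by
      intro k hk
      rw [Finset.mem_range] at hk
      by_cases hks : k + 1 ≤ Multiset.card s
      · by_cases hkn : k + 1 ≤ n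
        · obtain ⟨q, hq⟩ : ∃ q, n = k + 1 + q := ⟨n - (k + 1), by omega⟩
          rw [if_pos hkn, show Multiset.card s - k = (Multiset.card s - (k + 1)) + 1 by omega,
            show n - k = q + 1 by omega, show n - (k + 1) = q by omega, Nat.choose_succ_succ', Nat.cast_add, pow_succ]
          ring
        · rw [if_neg hkn, add_zero, show n - k = 0 by omega, Nat.choose_zero_right, Nat.choose_zero_right]
      · rw [esymm_of_lt s (k := k + 1) (by omega)]
        simp
    have h0 : ((Multiset.card s + 1).choose (n + 1) : A) * d ^ (n + 1) =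
        ((Multiset.card s).choose (n + 1) : A) * d ^ (n + 1) + d * (((Multiset.card s).choose n : A) * d ^ n) := by
      rw [Nat.choose_succ_succ', Nat.cast_add, pow_succ]; ring
    rw [Finset.sum_congr rfl fun k hk => h1 k hk, Finset.sum_add_distrib]
    simp only [esymm_zero', mul_one, pow_zero, Nat.sub_zero, h0]
    have h2 : ∑ k ∈ range (n + 1), (if k + 1 ≤ n then d * (((Multiset.card s - (k + 1)).choose (n - (k + 1)) : A) * s.esymm (k + 1) * c ^ (k + 1) * d ^ (n - (k + 1))) else 0) +
        d * (((Multiset.card s).choose n : A) * d ^ n) =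
        d * ∑ k ∈ range (n + 1), ((Multiset.card s - k).choose (n - k) : A) * s.esymm k * c ^ k * d ^ (n - k) := by
      rw [Finset.sum_range_succ, if_neg (by omega), add_zero, Finset.sum_range_succ' _ n, mul_add, Finset.mul_sum]
      simp only [esymm_zero', mul_one, pow_zero, Nat.sub_zero]
      congr 1
      refine Finset.sum_congr rfl fun k hk => ?_
      rw [Finset.mem_range] at hk
      rw [if_pos (by omega)]
    have h3 : ∑ k ∈ range (n + 1), ((Multiset.card s - k).choose (n - k) : A) * (a * s.esymm k) * c ^ (k + 1) * d ^ (n - k) =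
        a * c * ∑ k ∈ range (n + 1), ((Multiset.card s - k).choose (n - k) : A) * s.esymm k * c ^ k * d ^ (n - k) := by
      rw [Finset.mul_sum]
      exact Finset.sum_congr rfl fun k _ => by rw [pow_succ]; ring
    linear_combination - h2 - h3

variable {K : Type u} [CommRing K] [LambdaOps K] {P : PosStructure K} {e : K}

theorem gamma_mul_line (hK : HasSplitting K P) {x u : K} (hx : x ∈ P.pos) (hu : P.IsLine u) (n : ℕ) :
    gamma n (x * u - ((P.aug x).toNat : K)) = ∑ k ∈ range (n + 1),
      (((P.aug x).toNat - k).choose (n - k) : K) * gamma k (x - ((P.aug x).toNat : K)) * u ^ k * (u - 1) ^ (n - k) := by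
  obtain ⟨L, f, hL, hf, hs⟩ := exists_split' hK [x] (by simp [hx])
  obtain ⟨s, hsl, hsum⟩ := hs x (by simp)
  obtain ⟨hcard, -, hgam⟩ := gamma_split hx hf hsl hsum
  apply hf.injective
  have hl : ∀ v ∈ s.map (fun v => v * f u), L.posStr.IsLine v := fun v hv => by
    obtain ⟨w, hw, rfl⟩ := Multiset.mem_map.1 hv
    exact isLine_mul L.posStr (hsl w hw) (isLine_map hf hu)
  have hxu : x * u ∈ P.pos := P.mul_mem _ _ hx hu.1
  obtain ⟨-, -, hg2⟩ := gamma_split hxu hf hl (by rw [Multiset.sum_map_mul_right, Multiset.map_id', hsum, map_mul])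
  rw [map_mul, hu.2, mul_one] at hg2
  rw [hg2, Multiset.map_map,
    show (s.map ((fun v => v - 1) ∘ fun v => v * f u)) = (s.map (· - 1)).map fun a => a * f u + (f u - 1) by
      rw [Multiset.map_map]; exact Multiset.map_congr rfl fun v _ => by simp only [Function.comp_apply]; ring,
    esymm_map_affine, Multiset.card_map, hcard]
  simp [map_sum, hgam]

theorem extPoly_eq (hK : HasSplitting K P) (he : e ∈ P.pos) :
    KRR.extPoly P e = ∑ n ∈ range ((P.aug e).toNat + 1),
      Polynomial.C ((-1 : K) ^ n * gamma n (e - ((P.aug e).toNat : K))) * (Polynomial.X - 1) ^ ((P.aug e).toNat - n) := by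
  obtain ⟨L, f, hL, hf, hs⟩ := exists_split' hK [e] (by simp [he])
  obtain ⟨s, hsl, hsum⟩ := hs e (by simp)
  obtain ⟨hcard, hlam, hgam⟩ := gamma_split he hf hsl hsum
  apply Polynomial.map_injective f hf.injective
  have h1 : (KRR.extPoly P e).map f = (s.map fun v => Polynomial.X - Polynomial.C v).prod := by
    rw [Multiset.prod_X_sub_X_eq_sum_esymm, hcard, KRR.extPoly, Polynomial.map_sum]
    refine Finset.sum_congr rfl fun i _ => ?_
    simp [Polynomial.map_mul, hlam, mul_assoc]
  have h2 : (∑ n ∈ range ((P.aug e).toNat + 1),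
      Polynomial.C ((-1 : K) ^ n * gamma n (e - ((P.aug e).toNat : K))) * (Polynomial.X - 1) ^ ((P.aug e).toNat - n)).map f =
      (((s.map (· - 1)).map fun v => Polynomial.X - Polynomial.C v).prod).comp (Polynomial.X - 1) := by
    rw [Multiset.prod_X_sub_X_eq_sum_esymm, Multiset.card_map, hcard, Polynomial.map_sum, Polynomial.sum_comp]
    refine Finset.sum_congr rfl fun i _ => ?_
    simp [Polynomial.map_mul, hgam, mul_assoc]
  rw [h1, h2, Polynomial.multiset_prod_comp, Multiset.map_map, Multiset.map_map]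
  congr 1
  exact Multiset.map_congr rfl fun v _ => by simp

section Ext

variable [LambdaOps (Ke P e)] {Pe : PosStructure (Ke P e)}

/-- The elements `π x (ℓ - 1)^i` of weight at least `k`. -/
noncomputable def weightGen (P : PosStructure K) (e : K) (k : ℕ) : Set (Ke P e) :=
  {z | ∃ (a i : ℕ) (x : K), x ∈ gammaFiltration P a ∧ k ≤ a + i ∧ z = AdjoinRoot.of _ x * (ell P e - 1) ^ i}

/-- The filtration by weight. -/
noncomputable def wJ (P : PosStructure K) (e : K) (k : ℕ) : AddSubgroup (Ke P e) := AddSubgroup.closure (weightGen P e k)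

omit [LambdaOps (Ke P e)] in
theorem wJ_anti {k l : ℕ} (h : k ≤ l) : wJ P e l ≤ wJ P e k :=
  AddSubgroup.closure_mono fun _ ⟨a, i, x, hx, hl, hz⟩ => ⟨a, i, x, hx, h.trans hl, hz⟩

omit [LambdaOps (Ke P e)] in
theorem mem_wJ {a i k : ℕ} {x : K} (hx : x ∈ gammaFiltration P a) (hk : k ≤ a + i) :
    AdjoinRoot.of _ x * (ell P e - 1) ^ i ∈ wJ P e k :=
  AddSubgroup.subset_closure ⟨a, i, x, hx, hk, rfl⟩

omit [LambdaOps (Ke P e)] in
theorem wJ_mul {k l : ℕ} {y z : Ke P e} (hy : y ∈ wJ P e k) (hz : z ∈ wJ P e l) : y * z ∈ wJ P e (k + l) := by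
  induction hy using AddSubgroup.closure_induction with
  | mem y hy =>
    obtain ⟨a, i, x, hx, hk, rfl⟩ := hy
    induction hz using AddSubgroup.closure_induction with
    | mem z hz =>
      obtain ⟨b, j, x', hx', hl, rfl⟩ := hz
      rw [mul_mul_mul_comm, ← map_mul, ← pow_add]
      exact mem_wJ (filt_mul P hx hx') (by omega)
    | zero => simp
    | add u v _ _ hu hv => rw [mul_add]; exact add_mem hu hv
    | neg u _ hu => rw [mul_neg]; exact neg_mem hu
  | zero => simp
  | add u v _ _ hu hv => rw [add_mul]; exact add_mem hu hv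
  | neg u _ hu => rw [neg_mul]; exact neg_mem hu

omit [LambdaOps (Ke P e)] in
theorem wJ_zero (z : Ke P e) : z ∈ wJ P e 0 := by
  induction z using AdjoinRoot.induction_on with
  | ih p =>
    induction p using Polynomial.induction_on with
    | C x =>
      rw [AdjoinRoot.mk_C, ← mul_one (AdjoinRoot.of _ x)]
      exact mem_wJ (i := 0) (mem_filt_zero P x) le_rfl
    | add p q hp hq => rw [map_add]; exact add_mem hp hq
    | monomial n x hn =>
      rw [pow_succ, ← mul_assoc, map_mul, AdjoinRoot.mk_X]
      refine wJ_mul (k := 0) (l := 0) hn ?_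
      rw [show AdjoinRoot.root (KRR.extPoly P e) =
        AdjoinRoot.of _ (1 : K) * (ell P e - 1) ^ 1 + AdjoinRoot.of _ (1 : K) * (ell P e - 1) ^ 0 by simp [ell]]
      exact add_mem (mem_wJ (mem_filt_zero P 1) (Nat.zero_le _)) (mem_wJ (mem_filt_zero P 1) le_rfl)

omit [LambdaOps (Ke P e)] in
theorem wJ_pow {y : Ke P e} (hy : y ∈ wJ P e 1) : ∀ n, y ^ n ∈ wJ P e n
  | 0 => wJ_zero _
  | n + 1 => by rw [pow_succ]; exact wJ_mul (wJ_pow hy n) hy

theorem gamma_mem_wJ (hext : IsExtension P Pe (AdjoinRoot.of (KRR.extPoly P e)))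
    (hline : Pe.IsLine (ell P e)) (hsplit : HasSplitting (Ke P e) Pe) {z : Ke P e} (hz : Pe.aug z = 0) (n : ℕ) :
    gamma n z ∈ wJ P e n := by
  let G : AddSubgroup (Ke P e) :=
    { carrier := {z | ∀ n, gamma n z ∈ wJ P e n}
      zero_mem' := fun n => by
        rw [← coeff_gammaSeries, gammaSeries_zero, PowerSeries.coeff_one]
        split_ifs with h
        · subst h; exact wJ_zero _
        · exact zero_mem _
      add_mem' := fun {x y} hx hy n => by
        rw [gamma_add']
        refine AddSubgroup.sum_mem _ fun i hi => ?_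
        rw [Finset.mem_range] at hi
        have := wJ_mul (hx i) (hy (n - i))
        rwa [Nat.add_sub_cancel' (by omega : i ≤ n)] at this
      neg_mem' := fun {x} hx n => by
        induction n using Nat.strong_induction_on with
        | _ n ih =>
          rcases n with _ | n
          · exact wJ_zero _
          have h := congrArg (PowerSeries.coeff (n + 1)) (gammaSeries_add x (-x))
          rw [add_neg_cancel, gammaSeries_zero, PowerSeries.coeff_one, if_neg n.succ_ne_zero, PowerSeries.coeff_mul,
            Finset.Nat.sum_antidiagonal_eq_sum_range_succ_mk, Finset.sum_range_succ'] at h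
          simp only [coeff_gammaSeries, gamma_zero, one_mul, Nat.sub_zero] at h
          rw [eq_neg_of_add_eq_zero_right h.symm]
          refine neg_mem (AddSubgroup.sum_mem _ fun i hi => ?_)
          rw [Finset.mem_range] at hi
          have := wJ_mul (hx (i + 1)) (ih (n + 1 - (i + 1)) (by omega))
          rwa [Nat.add_sub_cancel' (by omega : i + 1 ≤ n + 1)] at this }
  suffices h : ∀ z : Ke P e, z - (Pe.aug z : Ke P e) ∈ G by
    have := h z n
    rwa [hz, Int.cast_zero, sub_zero] at this
  have hu1 : ∀ i : ℕ, ell P e ^ i - 1 ∈ wJ P e 1 := fun i => by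
    rw [← geom_sum_mul (ell P e) i]
    have hs : ell P e - 1 ∈ wJ P e 1 := by
      simpa using mem_wJ (P := P) (e := e) (i := 1) (mem_filt_zero P 1) le_rfl
    simpa using wJ_mul (wJ_zero (∑ j ∈ range i, ell P e ^ j)) hs
  have hmon : ∀ (i : ℕ) (x : K), x ∈ P.pos →
      AdjoinRoot.of _ x * ell P e ^ i - (Pe.aug (AdjoinRoot.of _ x * ell P e ^ i) : Ke P e) ∈ G := fun i x hx n => by
    have hxe : AdjoinRoot.of (KRR.extPoly P e) x ∈ Pe.pos := hext.pos_subset x hx
    have hN : Pe.aug (AdjoinRoot.of (KRR.extPoly P e) x * ell P e ^ i) = ((P.aug x).toNat : ℤ) := by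
      rw [map_mul, map_pow, hline.2, one_pow, mul_one, hext.aug_comp, ← aug_e P hx]
    have h := gamma_mul_line hsplit hxe (isLine_pow Pe hline i) n
    rw [hext.aug_comp] at h
    rw [hN, Int.cast_natCast, h]
    refine AddSubgroup.sum_mem _ fun k hk => ?_
    rw [Finset.mem_range] at hk
    rw [← map_natCast (AdjoinRoot.of (KRR.extPoly P e)) (((P.aug x).toNat - k).choose (n - k)), mul_assoc, mul_assoc,
      ← map_natCast (AdjoinRoot.of (KRR.extPoly P e)) (P.aug x).toNat, ← map_sub, ← map_gamma hext.isLambdaHom]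
    have hk1 : AdjoinRoot.of _ (gamma k (x - ((P.aug x).toNat : K))) ∈ wJ P e k := by
      simpa using mem_wJ (P := P) (e := e) (i := 0) (gamma_mem_filt P k (aug_pos_sub P hx)) le_rfl
    have h2 := wJ_mul (wJ_zero (AdjoinRoot.of (KRR.extPoly P e) (((P.aug x).toNat - k).choose (n - k) : K)))
      (wJ_mul hk1 (wJ_mul (wJ_zero ((ell P e ^ i) ^ k)) (wJ_pow (hu1 i) (n - k))))
    rwa [zero_add, zero_add, Nat.add_sub_cancel' (by omega : k ≤ n)] at h2
  intro z
  induction z using AdjoinRoot.induction_on with
  | ih p =>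
    induction p using Polynomial.induction_on' with
    | add p q hp hq =>
      rw [map_add, map_add, Int.cast_add, add_sub_add_comm]
      exact add_mem hp hq
    | monomial i a =>
      obtain ⟨a1, a2, h1, h2, rfl⟩ := P.exists_sub a
      rw [← Polynomial.C_mul_X_pow_eq_monomial, map_mul, map_pow, AdjoinRoot.mk_C, AdjoinRoot.mk_X]
      have := sub_mem (hmon i a1 h1) (hmon i a2 h2)
      rw [sub_sub_sub_comm, ← Int.cast_sub, ← map_sub, ← sub_mul, ← map_sub] at this
      exact this

omit [LambdaOps (Ke P e)] in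
theorem wJ_le (hK : HasSplitting K P) (he : e ∈ P.pos) {r : ℕ} (hr : P.aug e = r + 1) (k : ℕ) :
    wJ P e k ≤ ⨆ i ∈ Finset.range (r + 1), AddSubgroup.map
        ((AddMonoidHom.mulRight ((ell P e - 1) ^ i)).comp (AdjoinRoot.of (KRR.extPoly P e)).toAddMonoidHom)
        (gammaFiltration P (k - i)) := by
  refine (AddSubgroup.closure_le _).2 ?_
  rintro _ ⟨a, i, x, hx, hk, rfl⟩
  induction i using Nat.strong_induction_on generalizing a x with
  | _ i ih =>
    by_cases hi : i ≤ r
    · exact AddSubgroup.mem_iSup_of_mem i (AddSubgroup.mem_iSup_of_mem (Finset.mem_range.2 (by omega))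
        ⟨x, filt_anti P (by omega) hx, rfl⟩)
    have hm : (P.aug e).toNat = r + 1 := by omega
    have h0 := congrArg (AdjoinRoot.mk (KRR.extPoly P e)) (extPoly_eq hK he)
    rw [AdjoinRoot.mk_self, map_sum, Finset.sum_range_succ', hm] at h0
    simp only [map_mul, map_pow, map_sub, map_one, map_neg, AdjoinRoot.mk_C, AdjoinRoot.mk_X, gamma_zero, pow_zero,
      one_mul, Nat.sub_zero] at h0
    obtain ⟨j, rfl⟩ : ∃ j, i = r + 1 + j := ⟨i - (r + 1), by omega⟩
    rw [pow_add, eq_neg_of_add_eq_zero_right h0.symm, neg_mul, mul_neg, Finset.sum_mul, Finset.mul_sum,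
      SetLike.mem_coe]
    refine neg_mem (AddSubgroup.sum_mem _ fun n hn => ?_)
    rw [Finset.mem_range] at hn
    set y : K := (-1) ^ (n + 1) * gamma (n + 1) (e - ((r + 1 : ℕ) : K)) with hy
    have hy2 : x * y ∈ gammaFiltration P (a + (n + 1)) := by
      refine filt_mul P hx (filt_ideal P _ (gamma_mem_filt P _ ?_))
      rw [← hm]; exact aug_pos_sub P he
    have h2 := ih (r + 1 - (n + 1) + j) (by omega) (a + (n + 1)) (x * y) hy2 (by omega)
    rw [hy, map_mul, map_mul, map_pow, map_neg, map_one, pow_add, SetLike.mem_coe] at h2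
    convert h2 using 1
    ring

theorem gammaFiltration_ext (hK : HasSplitting K P) (he : e ∈ P.pos) {r : ℕ} (hr : P.aug e = r + 1)
    (hext : IsExtension P Pe (AdjoinRoot.of (KRR.extPoly P e)))
    (hline : Pe.IsLine (ell P e)) (hsplit : HasSplitting (Ke P e) Pe) (k : ℕ) :
    gammaFiltration Pe k = ⨆ i ∈ Finset.range (r + 1), AddSubgroup.map
        ((AddMonoidHom.mulRight ((ell P e - 1) ^ i)).comp (AdjoinRoot.of (KRR.extPoly P e)).toAddMonoidHom)
        (gammaFiltration P (k - i)) := by
  refine le_antisymm (le_trans (fun z hz => ?_) (wJ_le hK he hr k)) (iSup₂_le fun i _ => ?_)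
  · rcases Nat.eq_zero_or_pos k with rfl | hk
    · exact wJ_zero z
    refine filt_induction Pe hk (fun y hy => ?_) (zero_mem _) (fun a b => add_mem) (fun a => neg_mem) hz
    obtain ⟨l, hl, hsum, rfl⟩ := hy
    refine wJ_anti hsum ?_
    clear hsum
    induction l with
    | nil => exact wJ_zero _
    | cons p l ih =>
      simp only [List.map_cons, List.sum_cons, List.prod_cons]
      exact wJ_mul (gamma_mem_wJ hext hline hsplit (hl p (by simp)) p.1) (ih fun q hq => hl q (by simp [hq]))
  · rintro _ ⟨x, hx, rfl⟩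
    have hmap : ∀ (q : ℕ) (y : K), y ∈ gammaFiltration P q → AdjoinRoot.of (KRR.extPoly P e) y ∈ gammaFiltration Pe q := by
      intro q y hy
      rcases Nat.eq_zero_or_pos q with rfl | hq
      · exact mem_filt_zero Pe _
      refine filt_induction P hq (p := fun y => AdjoinRoot.of (KRR.extPoly P e) y ∈ gammaFiltration Pe q) (fun z hz => ?_) (by simp) (fun a b ha hb => by rw [map_add]; exact add_mem ha hb)
        (fun a ha => by rw [map_neg]; exact neg_mem ha) hy
      obtain ⟨l, hl, hsum, rfl⟩ := hz
      refine filtGen_subset Pe ⟨l.map (fun p => (p.1, AdjoinRoot.of _ p.2)), ?_, ?_, ?_⟩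
      · intro p hp
        obtain ⟨p, hp', rfl⟩ := List.mem_map.1 hp
        rw [hext.aug_comp]; exact hl p hp'
      · simpa [List.map_map, Function.comp_def] using hsum
      · rw [map_list_prod, List.map_map, List.map_map]
        congr 1
        exact List.map_congr_left fun p _ => map_gamma hext.isLambdaHom _ _
    show AdjoinRoot.of (KRR.extPoly P e) x * (ell P e - 1) ^ i ∈ _
    exact filt_anti Pe (by omega) (filt_mul Pe (hmap _ _ hx) (sub_one_pow_mem hline i))

end Ext

end Groth.Agent.KRR3
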