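import Groth.Agent.KRR3.SymPoly
import Groth.Agent.Lambda37.Rat
import Mathlib.LinearAlgebra.Lagrange
import Mathlib.RingTheory.Localization.Module

/-! The graded ring of the γ-filtration and the eigenspace decomposition. -/

set_option autoImplicit false
set_option linter.style.haveILetI false

universe u

open scoped TensorProduct

namespace Groth.Agent.KRR3

open LambdaRing Finset Groth.Agent.Lambda37

variable {K : Type u} [CommRing K] [LambdaOps K] {P : PosStructure K}

/-- An Adams operation on the rationalisation. -/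
noncomputable def psi (hK : HasSplitting K P) (j : ℕ) : ℚ ⊗[ℤ] K →ₐ[ℚ] ℚ ⊗[ℤ] K :=
  Algebra.TensorProduct.map (AlgHom.id ℚ ℚ) (adamsRingHom hK j).toIntAlgHom

@[simp] theorem psi_tmul (hK : HasSplitting K P) (j : ℕ) (q : ℚ) (x : K) :
    psi hK j (q ⊗ₜ[ℤ] x) = q ⊗ₜ[ℤ] adams P j x := rfl

/-- The eigenspaces of the second Adams operation. -/
noncomputable abbrev V (hK : HasSplitting K P) (n : ℕ) : Submodule ℚ (ℚ ⊗[ℤ] K) :=
  Module.End.eigenspace (psi hK 2).toLinearMap ((2 : ℚ) ^ n)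

theorem mem_V {hK : HasSplitting K P} {n : ℕ} {v : ℚ ⊗[ℤ] K} : v ∈ V hK n ↔ psi hK 2 v = (2 : ℚ) ^ n • v :=
  Module.End.mem_eigenspace_iff

theorem V_mul {hK : HasSplitting K P} {a b : ℕ} {v w : ℚ ⊗[ℤ] K} (hv : v ∈ V hK a) (hw : w ∈ V hK b) :
    v * w ∈ V hK (a + b) := by
  rw [mem_V] at hv hw ⊢
  rw [map_mul, hv, hw, smul_mul_smul_comm, pow_add]

theorem V_le (hK : HasSplitting K P) (n : ℕ) : V hK n ≤ qFilt P n := by
  have h := eigen_le hK (le_refl 2) (Ψ := (psi hK 2).toLinearMap) (fun x => rfl) n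
  simpa using h

theorem V_bot (hK : HasSplitting K P) {d : ℕ} (hd : gammaFiltration P (d + 1) = ⊥) {n : ℕ} (hn : d < n) :
    V hK n = ⊥ :=
  le_bot_iff.1 ((V_le hK n).trans (qFilt_bot hd hn).le)

theorem qFilt_le (hK : HasSplitting K P) {d : ℕ} (hd : gammaFiltration P (d + 1) = ⊥) (n : ℕ) :
    qFilt P n ≤ ⨆ i ∈ Finset.Ico n (d + 1), V hK i := by
  have h := qFilt_le_iSup hK hd (le_refl 2) (Ψ := (psi hK 2).toLinearMap) (fun x => rfl) n
  simpa using h

theorem qFilt_wfilt : WFilt (qFilt P) where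
  zero := qFilt_zero
  anti h := qFilt_anti h
  mul {a b x y} hx hy := by
    have hmul : ∀ x ∈ qFilt P a, qFilt P b ≤ (qFilt P (a + b)).comap (LinearMap.mulLeft ℚ x) := by
      intro x hx
      refine Submodule.span_le.2 ?_
      rintro _ ⟨z, hz, rfl⟩
      have hle : qFilt P a ≤ (qFilt P (a + b)).comap (LinearMap.mulRight ℚ ((1 : ℚ) ⊗ₜ[ℤ] z)) := by
        refine Submodule.span_le.2 ?_
        rintro _ ⟨w, hw, rfl⟩
        show ((1 : ℚ) ⊗ₜ[ℤ] w) * ((1 : ℚ) ⊗ₜ[ℤ] z) ∈ qFilt P (a + b)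
        rw [Algebra.TensorProduct.tmul_mul_tmul]
        exact qFilt_mem_tmul _ (filt_mul P hw hz)
      exact hle hx
    exact hmul x hx hy

/-- The projection to an eigenspace. -/
noncomputable def proj (hK : HasSplitting K P) (d n : ℕ) : ℚ ⊗[ℤ] K →ₗ[ℚ] ℚ ⊗[ℤ] K :=
  if n ≤ d then Polynomial.aeval (psi hK 2).toLinearMap (Lagrange.basis (range (d + 1)) (fun i => (2 : ℚ) ^ i) n) else 0

theorem aeval_eigen {M : Type u} [AddCommGroup M] [Module ℚ M] (T : Module.End ℚ M) {c : ℚ} {v : M}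
    (hv : T v = c • v) (p : Polynomial ℚ) : Polynomial.aeval T p v = p.eval c • v := by
  induction p using Polynomial.induction_on' with
  | add p q hp hq => rw [map_add, LinearMap.add_apply, hp, hq, Polynomial.eval_add, add_smul]
  | monomial k a =>
    rw [Polynomial.aeval_monomial, Polynomial.eval_monomial, Algebra.algebraMap_eq_smul_one, smul_one_mul,
      LinearMap.smul_apply, mul_smul]
    congr 1
    induction k with
    | zero => simp
    | succ k ih => rw [pow_succ', Module.End.mul_apply, ih, map_smul, hv, smul_smul, pow_succ]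

theorem proj_eigen (hK : HasSplitting K P) {d i : ℕ} (hi : i ≤ d) {v : ℚ ⊗[ℤ] K} (hv : v ∈ V hK i) (n : ℕ) :
    proj hK d n v = if n = i then v else 0 := by
  rw [proj]
  have hinj : Set.InjOn (fun i : ℕ => (2 : ℚ) ^ i) (range (d + 1) : Finset ℕ) := fun a _ b _ h => by
    by_contra hne
    exact pow_ne (j := 2) le_rfl hne (by simpa using h)
  have him : i ∈ range (d + 1) := Finset.mem_range.2 (by omega)
  split_ifs with hn hni
  · rw [aeval_eigen _ (mem_V.1 hv)]
    subst hni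
    rw [Lagrange.eval_basis_self (v := fun i : ℕ => (2 : ℚ) ^ i) hinj him, one_smul]
  · rw [aeval_eigen _ (mem_V.1 hv), Lagrange.eval_basis_of_ne (v := fun i : ℕ => (2 : ℚ) ^ i) hni him, zero_smul]
  · exfalso; omega
  · rfl

section Decomp

variable (hK : HasSplitting K P) {d : ℕ} (hd : gammaFiltration P (d + 1) = ⊥)

include hd

theorem proj_mem (n : ℕ) (v : ℚ ⊗[ℤ] K) : proj hK d n v ∈ V hK n := by
  have hle : (⨆ i ∈ Finset.Ico 0 (d + 1), V hK i) ≤ (V hK n).comap (proj hK d n) := by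
    refine iSup₂_le fun i hi w hw => ?_
    rw [Finset.mem_Ico] at hi
    rw [Submodule.mem_comap, proj_eigen hK (by omega) hw]
    split_ifs with h
    · exact h ▸ hw
    · exact zero_mem _
  exact hle (qFilt_le hK hd 0 (by rw [qFilt_zero]; trivial))

theorem sum_proj (v : ℚ ⊗[ℤ] K) : ∑ n ∈ range (d + 1), proj hK d n v = v := by
  have hle : (⨆ i ∈ Finset.Ico 0 (d + 1), V hK i) ≤
      LinearMap.eqLocus (∑ n ∈ range (d + 1), proj hK d n) LinearMap.id := by
    refine iSup₂_le fun i hi w hw => ?_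
    rw [Finset.mem_Ico] at hi
    rw [LinearMap.mem_eqLocus, LinearMap.id_apply, LinearMap.sum_apply,
      Finset.sum_congr rfl fun n _ => proj_eigen hK (by omega) hw n, Finset.sum_ite_eq', if_pos (Finset.mem_range.2 hi.2)]
  have h := hle (qFilt_le hK hd 0 (by rw [qFilt_zero]; trivial : v ∈ _))
  rw [LinearMap.mem_eqLocus, LinearMap.sum_apply] at h
  exact h

theorem proj_eq_zero {n k : ℕ} (hnk : n < k) {v : ℚ ⊗[ℤ] K} (hv : v ∈ qFilt P k) : proj hK d n v = 0 := by
  have hle : (⨆ i ∈ Finset.Ico k (d + 1), V hK i) ≤ LinearMap.ker (proj hK d n) := by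
    refine iSup₂_le fun i hi w hw => ?_
    rw [Finset.mem_Ico] at hi
    rw [LinearMap.mem_ker, proj_eigen hK (by omega) hw, if_neg (by omega)]
  exact hle (qFilt_le hK hd k hv)

theorem sub_proj_mem {n : ℕ} {v : ℚ ⊗[ℤ] K} (hv : v ∈ qFilt P n) : v - proj hK d n v ∈ qFilt P (n + 1) := by
  have hle : (⨆ i ∈ Finset.Ico n (d + 1), V hK i) ≤ (qFilt P (n + 1)).comap (LinearMap.id - proj hK d n) := by
    refine iSup₂_le fun i hi w hw => ?_
    rw [Finset.mem_Ico] at hi
    rw [Submodule.mem_comap, LinearMap.sub_apply, LinearMap.id_apply, proj_eigen hK (by omega) hw]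
    split_ifs with h
    · rw [sub_self]; exact zero_mem _
    · rw [sub_zero]; exact qFilt_anti (by omega) (V_le hK i hw)
  exact hle (qFilt_le hK hd n hv)

theorem proj_of_mem {n : ℕ} {v : ℚ ⊗[ℤ] K} (hv : v ∈ V hK n) : proj hK d n v = v := by
  rcases Nat.lt_or_ge d n with h | h
  · rw [V_bot hK hd h, Submodule.mem_bot] at hv
    rw [hv, map_zero]
  · rw [proj_eigen hK h hv, if_pos rfl]

theorem proj_congr {n : ℕ} {v w : ℚ ⊗[ℤ] K} (hw : w ∈ V hK n) (h : v - w ∈ qFilt P (n + 1)) : proj hK d n v = w := by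
  have h1 := proj_eq_zero hK hd (Nat.lt_succ_self n) h
  rwa [map_sub, proj_of_mem hK hd hw, sub_eq_zero] at h1

theorem proj_mul {a b : ℕ} {v w : ℚ ⊗[ℤ] K} (hv : v ∈ qFilt P a) (hw : w ∈ qFilt P b) :
    proj hK d (a + b) (v * w) = proj hK d a v * proj hK d b w := by
  refine proj_congr hK hd (V_mul (proj_mem hK hd a v) (proj_mem hK hd b w)) ?_
  rw [show v * w - proj hK d a v * proj hK d b w =
    (v - proj hK d a v) * w + proj hK d a v * (w - proj hK d b w) by ring]
  refine add_mem ?_ ?_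
  · exact qFilt_anti (show a + b + 1 ≤ a + 1 + b by omega) (qFilt_wfilt.mul (sub_proj_mem hK hd hv) hw)
  · exact qFilt_anti (show a + b + 1 ≤ a + (b + 1) by omega)
      (qFilt_wfilt.mul (V_le hK a (proj_mem hK hd a v)) (sub_proj_mem hK hd hw))

theorem proj_one : proj hK d 0 1 = 1 :=
  proj_of_mem hK hd (by rw [mem_V, map_one, pow_zero, one_smul])

end Decomp

omit [LambdaOps K] in
theorem exists_torsion {x : K} (h : (1 : ℚ) ⊗ₜ[ℤ] x = 0) : ∃ N : ℕ, 1 ≤ N ∧ (N : K) * x = 0 := by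
  have : IsLocalizedModule (nonZeroDivisors ℤ) (TensorProduct.mk ℤ ℚ K 1) :=
    (isLocalizedModule_iff_isBaseChange (nonZeroDivisors ℤ) ℚ _).2 (TensorProduct.isBaseChange ℤ K ℚ)
  obtain ⟨⟨c, hc⟩, hcx⟩ := (IsLocalizedModule.eq_zero_iff (nonZeroDivisors ℤ) (TensorProduct.mk ℤ ℚ K 1)).1 h
  rw [mem_nonZeroDivisors_iff_ne_zero] at hc
  refine ⟨c.natAbs, Int.natAbs_pos.2 hc, ?_⟩
  have hc' : (c : K) * x = 0 := by rw [← zsmul_eq_mul]; exact hcx
  rcases Int.natAbs_eq c with h' | h' <;> rw [h'] at hc'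
  · simpa using hc'
  · simpa using hc'

theorem exists_num_den {n : ℕ} {v : ℚ ⊗[ℤ] K} (hv : v ∈ qFilt P n) :
    ∃ (N : ℕ) (y : K), 1 ≤ N ∧ y ∈ gammaFiltration P n ∧ (N : ℚ) • v = (1 : ℚ) ⊗ₜ[ℤ] y := by
  have hnat : ∀ (N : ℕ) (x : K), (N : ℚ) • ((1 : ℚ) ⊗ₜ[ℤ] x) = (1 : ℚ) ⊗ₜ[ℤ] ((N : K) * x) := fun N x => by
    rw [Nat.cast_smul_eq_nsmul, ← TensorProduct.tmul_smul, nsmul_eq_mul]
  induction hv using Submodule.span_induction with
  | mem v hv =>
    obtain ⟨x, hx, rfl⟩ := hv
    exact ⟨1, x, le_rfl, hx, by rw [Nat.cast_one, one_smul]⟩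
  | zero => exact ⟨1, 0, le_rfl, zero_mem _, by simp⟩
  | add v w _ _ hv hw =>
    obtain ⟨N, y, hN, hy, hv⟩ := hv
    obtain ⟨M, z, hM, hz, hw⟩ := hw
    refine ⟨N * M, (M : K) * y + (N : K) * z, Nat.one_le_iff_ne_zero.2 (Nat.mul_ne_zero (by omega) (by omega)),
      add_mem (filt_ideal P _ hy) (filt_ideal P _ hz), ?_⟩
    rw [Nat.cast_mul, TensorProduct.tmul_add, ← hnat, ← hnat, ← hv, ← hw, smul_add, smul_smul, smul_smul,
      mul_comm (M : ℚ) (N : ℚ)]
  | smul q v _ hv =>
    obtain ⟨N, y, hN, hy, hv⟩ := hv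
    refine ⟨q.den * N, (q.num : K) * y, Nat.one_le_iff_ne_zero.2 (Nat.mul_ne_zero q.den_nz (by omega)),
      filt_ideal P _ hy, ?_⟩
    rw [← zsmul_eq_mul, TensorProduct.tmul_smul, ← hv, ← Int.cast_smul_eq_zsmul ℚ, smul_smul, smul_smul, Nat.cast_mul]
    congr 1
    rw [mul_right_comm, Rat.den_mul_eq_num]

section Gr

open LaurentPolynomial

variable (hK : HasSplitting K P) (d : ℕ)

/-- The component of a monomial `x T^k`. -/
noncomputable def monVal (k : ℤ) : K →+ ℚ ⊗[ℤ] K :=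
  if k ≤ 0 then (proj hK d (-k).toNat).toAddMonoidHom.comp ((TensorProduct.mk ℤ ℚ K 1).toAddMonoidHom) else 0

/-- The sum of the components of a Laurent polynomial. -/
noncomputable def laurVal : LaurentPolynomial K →+ ℚ ⊗[ℤ] K :=
  (Finsupp.liftAddHom fun k => monVal hK d k).comp AddMonoidAlgebra.coeffAddEquiv.toAddMonoidHom

theorem laurVal_mon (x : K) (k : ℤ) : laurVal hK d (C x * T k) = monVal hK d k x := by
  rw [← single_eq_C_mul_T]
  show Finsupp.liftAddHom _ (Finsupp.single k x) = _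
  rw [Finsupp.liftAddHom_apply_single]

theorem monVal_neg (n : ℕ) (x : K) : monVal hK d (-(n : ℤ)) x = proj hK d n ((1 : ℚ) ⊗ₜ[ℤ] x) := by
  rw [monVal, if_pos (by omega), neg_neg, Int.toNat_natCast]; rfl

variable {d} in
theorem monVal_pos {k : ℤ} (hk : 0 < k) (x : K) : monVal hK d k x = 0 := by
  rw [monVal, if_neg (by omega)]; rfl

variable (P) in
/-- Admissible monomials. -/
def goodMon : Set (LaurentPolynomial K) :=
  {p | ∃ (k : ℤ) (x : K), (0 < k ∨ x ∈ gammaFiltration P (-k).toNat) ∧ p = C x * T k}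

theorem goodMon_mul {p q : LaurentPolynomial K} (hp : p ∈ goodMon P) (hq : q ∈ goodMon P) : p * q ∈ goodMon P := by
  obtain ⟨k, x, hx, rfl⟩ := hp
  obtain ⟨l, y, hy, rfl⟩ := hq
  refine ⟨k + l, x * y, ?_, by rw [map_mul, T_add]; ring⟩
  by_cases h : 0 < k + l
  · exact Or.inl h
  refine Or.inr ?_
  rcases hx with hk | hx
  · rcases hy with hl | hy
    · omega
    · exact filt_ideal P x (filt_anti P (by omega) hy)
  · rcases hy with hl | hy
    · rw [mul_comm]; exact filt_ideal P y (filt_anti P (by omega) hx)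
    · exact filt_anti P (by omega) (filt_mul P hx hy)

theorem rees_le : ∀ p ∈ KGr.rees P, p ∈ AddSubgroup.closure (goodMon P) := by
  intro p hp
  have hmul : ∀ a ∈ AddSubgroup.closure (goodMon P), ∀ b ∈ AddSubgroup.closure (goodMon P),
      a * b ∈ AddSubgroup.closure (goodMon P) := by
    intro a ha b hb
    induction ha using AddSubgroup.closure_induction with
    | mem a ha =>
      induction hb using AddSubgroup.closure_induction with
      | mem b hb => exact AddSubgroup.subset_closure (goodMon_mul ha hb)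
      | zero => rw [mul_zero]; exact zero_mem _
      | add b c _ _ hb hc => rw [mul_add]; exact add_mem hb hc
      | neg b _ hb => rw [mul_neg]; exact neg_mem hb
    | zero => rw [zero_mul]; exact zero_mem _
    | add a c _ _ ha hc => rw [add_mul]; exact add_mem ha hc
    | neg a _ ha => rw [neg_mul]; exact neg_mem ha
  induction hp using Subring.closure_induction with
  | mem p hp =>
    refine AddSubgroup.subset_closure ?_
    rcases hp with rfl | ⟨n, x, hx, rfl⟩
    · exact ⟨1, 1, Or.inl one_pos, by rw [map_one, one_mul]⟩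
    · exact ⟨-(n : ℤ), x, Or.inr (by rwa [neg_neg, Int.toNat_natCast]), rfl⟩
  | zero => exact zero_mem _
  | one => exact AddSubgroup.subset_closure ⟨0, 1, Or.inr (mem_filt_zero P _), by rw [map_one, T_zero, one_mul]⟩
  | add a b _ _ ha hb => exact add_mem ha hb
  | neg a _ ha => exact neg_mem ha
  | mul a b _ _ ha hb => exact hmul a ha b hb

variable {d} (hd : gammaFiltration P (d + 1) = ⊥)

include hd

theorem laurVal_mul {p q : LaurentPolynomial K} (hp : p ∈ AddSubgroup.closure (goodMon P))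
    (hq : q ∈ AddSubgroup.closure (goodMon P)) : laurVal hK d (p * q) = laurVal hK d p * laurVal hK d q := by
  have h0 : ∀ p ∈ goodMon P, ∀ q ∈ goodMon P, laurVal hK d (p * q) = laurVal hK d p * laurVal hK d q := by
    intro p hp q hq
    obtain ⟨k, x, hx, rfl⟩ := hp
    obtain ⟨l, y, hy, rfl⟩ := hq
    rw [show C x * T k * (C y * T l) = C (x * y) * T (k + l) by rw [map_mul, T_add]; ring, laurVal_mon, laurVal_mon,
      laurVal_mon]
    have hone : (1 : ℚ) ⊗ₜ[ℤ] (x * y) = ((1 : ℚ) ⊗ₜ[ℤ] x) * ((1 : ℚ) ⊗ₜ[ℤ] y) := by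
      rw [Algebra.TensorProduct.tmul_mul_tmul, one_mul]
    by_cases hkl : 0 < k + l
    · rw [monVal_pos hK hkl]
      rcases (show 0 < k ∨ 0 < l by omega) with h | h <;> simp [monVal_pos hK h]
    obtain ⟨n, hn⟩ : ∃ n : ℕ, k + l = -(n : ℤ) := ⟨(-(k + l)).toNat, by omega⟩
    rw [hn, monVal_neg]
    by_cases hk : 0 < k
    · rw [monVal_pos hK hk, zero_mul]
      have hy' := hy.resolve_left (by omega)
      exact proj_eq_zero hK hd (show n < (-l).toNat by omega) (qFilt_mem_tmul _ (filt_ideal P x hy'))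
    by_cases hl : 0 < l
    · rw [monVal_pos hK hl, mul_zero]
      have hx' := hx.resolve_left hk
      exact proj_eq_zero hK hd (show n < (-k).toNat by omega)
        (qFilt_mem_tmul _ (mul_comm y x ▸ filt_ideal P y hx'))
    obtain ⟨a, rfl⟩ : ∃ a : ℕ, k = -(a : ℤ) := ⟨(-k).toNat, by omega⟩
    obtain ⟨b, rfl⟩ : ∃ b : ℕ, l = -(b : ℤ) := ⟨(-l).toNat, by omega⟩
    obtain rfl : n = a + b := by omega
    rw [monVal_neg, monVal_neg, hone]
    refine proj_mul hK hd (qFilt_mem_tmul _ ?_) (qFilt_mem_tmul _ ?_)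
    · have := hx.resolve_left hk; rwa [neg_neg, Int.toNat_natCast] at this
    · have := hy.resolve_left hl; rwa [neg_neg, Int.toNat_natCast] at this
  have h1 : ∀ a ∈ goodMon P, laurVal hK d (a * q) = laurVal hK d a * laurVal hK d q := fun a ha =>
    AddMonoidHom.eqOn_closure (f := (laurVal hK d).comp (AddMonoidHom.mulLeft a))
      (g := (AddMonoidHom.mulLeft (laurVal hK d a)).comp (laurVal hK d)) (fun b hb => h0 a ha b hb) hq
  exact AddMonoidHom.eqOn_closure (f := (laurVal hK d).comp (AddMonoidHom.mulRight q))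
    (g := (AddMonoidHom.mulRight (laurVal hK d q)).comp (laurVal hK d)) (fun a ha => h1 a ha) hp

/-- The comparison on the extended Rees ring. -/
noncomputable def reesVal : KGr.rees P →+* ℚ ⊗[ℤ] K where
  toFun p := laurVal hK d p.1
  map_one' := by
    show laurVal hK d 1 = 1
    rw [show (1 : LaurentPolynomial K) = C 1 * T (-((0 : ℕ) : ℤ)) by simp, laurVal_mon, monVal_neg]
    exact proj_one hK hd
  map_mul' p q := laurVal_mul hK hd (rees_le _ p.2) (rees_le _ q.2)
  map_zero' := map_zero _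
  map_add' p q := map_add _ _ _

/-- The comparison on the graded ring. -/
noncomputable def grValZ : KGr.GrZ P →+* ℚ ⊗[ℤ] K :=
  Ideal.Quotient.lift _ (reesVal hK hd) fun p hp => by
    rw [Ideal.mem_span_singleton'] at hp
    obtain ⟨q, rfl⟩ := hp
    rw [map_mul]
    have : reesVal hK hd (KGr.tGen P) = 0 := by
      show laurVal hK d (T 1) = 0
      rw [show (T 1 : LaurentPolynomial K) = C 1 * T 1 by simp, laurVal_mon, monVal_pos hK one_pos]
    rw [this, mul_zero]

/-- The comparison `ℚGr K → ℚ ⊗ K`. -/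
noncomputable def grVal : KGr.Gr P →ₐ[ℚ] ℚ ⊗[ℤ] K :=
  Algebra.TensorProduct.lift (Algebra.ofId ℚ _) { grValZ hK hd with commutes' := fun n => by simp } fun _ _ => Commute.all _ _

omit hd in
theorem mon_mem_rees {n : ℕ} {x : K} (hx : x ∈ gammaFiltration P n) : C x * T (-(n : ℤ)) ∈ KGr.rees P :=
  Subring.subset_closure (Set.mem_insert_of_mem _ ⟨n, x, hx, rfl⟩)

/-- The class of an element of a step. -/
noncomputable def cls {n : ℕ} {x : K} (hx : x ∈ gammaFiltration P n) : KGr.GrZ P :=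
  Ideal.Quotient.mk _ ⟨C x * T (-(n : ℤ)), mon_mem_rees hx⟩

theorem grVal_cls {n : ℕ} {x : K} (hx : x ∈ gammaFiltration P n) :
    grVal hK hd ((1 : ℚ) ⊗ₜ[ℤ] cls hx) = proj hK d n ((1 : ℚ) ⊗ₜ[ℤ] x) := by
  rw [grVal, Algebra.TensorProduct.lift_tmul, map_one, one_mul]
  show laurVal hK d (C x * T (-(n : ℤ))) = _
  rw [laurVal_mon, monVal_neg]

theorem grVal_grK (n : ℕ) {x : K} (h : ∃ N : ℕ, 1 ≤ N ∧ (N : K) * x ∈ gammaFiltration P n) :
    grVal hK hd (KGr.grK P n x) = proj hK d n ((1 : ℚ) ⊗ₜ[ℤ] x) := by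
  have h' : ∃ N : ℕ, 1 ≤ N ∧ C ((N : K) * x) * T (-(n : ℤ)) ∈ KGr.rees P := by
    obtain ⟨N, hN, hx⟩ := h
    exact ⟨N, hN, mon_mem_rees hx⟩
  rw [KGr.grK, dif_pos h', grVal, Algebra.TensorProduct.lift_tmul]
  show algebraMap ℚ _ (1 / (h'.choose : ℚ)) * laurVal hK d (C ((h'.choose : K) * x) * T (-(n : ℤ))) = _
  rw [laurVal_mon, monVal_neg, ← Algebra.smul_def, ← nsmul_eq_mul, TensorProduct.tmul_smul, map_nsmul,
    ← Nat.cast_smul_eq_nsmul ℚ, smul_smul, one_div, inv_mul_cancel₀, one_smul]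
  have := h'.choose_spec.1
  exact_mod_cast (show h'.choose ≠ 0 by omega)

omit hd in
theorem cls_congr {n : ℕ} {x y : K} (hx : x ∈ gammaFiltration P n) (hy : y ∈ gammaFiltration P n) (h : x = y) :
    cls hx = cls hy := by subst h; rfl

omit hd in
theorem cls_add {n : ℕ} {x y : K} (hx : x ∈ gammaFiltration P n) (hy : y ∈ gammaFiltration P n) :
    cls (add_mem hx hy) = cls hx + cls hy := by
  rw [cls, cls, cls, ← map_add]
  congr 1
  exact Subtype.ext (show C (x + y) * T (-(n : ℤ)) = C x * T (-(n : ℤ)) + C y * T (-(n : ℤ)) by rw [map_add, add_mul])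

omit hd in
theorem cls_eq_zero {n : ℕ} {x : K} (hx : x ∈ gammaFiltration P n) (hx' : x ∈ gammaFiltration P (n + 1)) :
    cls hx = 0 := by
  refine Ideal.Quotient.eq_zero_iff_mem.2 (Ideal.mem_span_singleton'.2
    ⟨⟨C x * T (-((n + 1 : ℕ) : ℤ)), mon_mem_rees hx'⟩, Subtype.ext ?_⟩)
  show C x * T (-((n + 1 : ℕ) : ℤ)) * T 1 = C x * T (-(n : ℤ))
  rw [mul_T_assoc]
  congr 2
  omega

omit hd in
theorem nsmul_cls {n : ℕ} (M : ℕ) {x : K} (hx : x ∈ gammaFiltration P n) :
    M • cls hx = cls (filt_ideal P (M : K) hx) := by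
  rw [cls, cls, ← map_nsmul]
  congr 1
  exact Subtype.ext (show M • (C x * T (-(n : ℤ))) = C ((M : K) * x) * T (-(n : ℤ)) by
    rw [← nsmul_eq_mul, map_nsmul, smul_mul_assoc])

omit hd in
theorem zsmul_cls {n : ℕ} (M : ℤ) {x : K} (hx : x ∈ gammaFiltration P n) :
    M • cls hx = cls (filt_ideal P (M : K) hx) := by
  rw [cls, cls, ← map_zsmul]
  congr 1
  exact Subtype.ext (show M • (C x * T (-(n : ℤ))) = C ((M : K) * x) * T (-(n : ℤ)) by
    rw [← zsmul_eq_mul, map_zsmul, smul_mul_assoc])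

theorem exists_expansion (w : KGr.Gr P) : ∃ (N : ℕ) (c : ℕ → K) (hc : ∀ n, c n ∈ gammaFiltration P n),
    1 ≤ N ∧ (N : ℚ) • w = ∑ n ∈ range (d + 1), (1 : ℚ) ⊗ₜ[ℤ] cls (hc n) := by
  classical
  have hz : ∀ z : KGr.GrZ P, ∃ (c : ℕ → K) (hc : ∀ n, c n ∈ gammaFiltration P n),
      z = ∑ n ∈ range (d + 1), cls (hc n) := by
    intro z
    obtain ⟨⟨p, hp⟩, rfl⟩ := Ideal.Quotient.mk_surjective z
    let R : LaurentPolynomial K → Prop := fun q => ∃ hq : q ∈ KGr.rees P,
      ∃ (c : ℕ → K) (hc : ∀ n, c n ∈ gammaFiltration P n),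
        Ideal.Quotient.mk (Ideal.span {KGr.tGen P}) ⟨q, hq⟩ = ∑ n ∈ range (d + 1), cls (hc n)
    suffices hR : ∀ q ∈ AddSubgroup.closure (goodMon P), R q by
      obtain ⟨_, h⟩ := hR p (rees_le p hp)
      exact h
    have hzero : R 0 := ⟨zero_mem _, fun _ => 0, fun n => zero_mem _, by
      rw [Finset.sum_eq_zero fun n _ => cls_eq_zero _ (zero_mem _)]
      exact map_zero _⟩
    intro q hq
    induction hq using AddSubgroup.closure_induction with
    | mem q hq =>
      obtain ⟨k, x, hx, rfl⟩ := hq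
      by_cases hk : 0 < k
      · obtain ⟨n, rfl⟩ : ∃ n : ℕ, k = (n : ℤ) + 1 := ⟨(k - 1).toNat, by omega⟩
        have hC : C x ∈ KGr.rees P := by
          have := mon_mem_rees (P := P) (mem_filt_zero P x)
          rwa [Nat.cast_zero, neg_zero, T_zero, mul_one] at this
        have hm : C x * T (n : ℤ) ∈ KGr.rees P := by
          refine mul_mem hC ?_
          rw [show (n : ℤ) = (n : ℤ) * 1 by ring, ← T_pow]
          exact pow_mem (KGr.tGen P).2 n
        refine ⟨mul_T_assoc (C x) (n : ℤ) 1 ▸ mul_mem hm (show T 1 ∈ KGr.rees P from (KGr.tGen P).2), fun _ => 0, fun n => zero_mem _, ?_⟩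
        rw [Finset.sum_eq_zero fun n _ => cls_eq_zero _ (zero_mem _)]
        refine Ideal.Quotient.eq_zero_iff_mem.2 (Ideal.mem_span_singleton'.2 ⟨⟨_, hm⟩, Subtype.ext ?_⟩)
        exact mul_T_assoc (C x) (n : ℤ) 1
      obtain ⟨n, rfl⟩ : ∃ n : ℕ, k = -(n : ℤ) := ⟨(-k).toNat, by omega⟩
      have hx' : x ∈ gammaFiltration P n := by
        have := hx.resolve_left hk
        rwa [neg_neg, Int.toNat_natCast] at this
      by_cases hn : n ≤ d
      · refine ⟨mon_mem_rees hx', fun i => if i = n then x else 0, fun i => by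
          show (if i = n then x else 0) ∈ gammaFiltration P i
          split_ifs with h
          · exact h ▸ hx'
          · exact zero_mem _, ?_⟩
        rw [Finset.sum_eq_single n]
        · exact cls_congr hx' _ (if_pos rfl).symm
        · intro i _ hi
          exact cls_eq_zero _ (show (if i = n then x else 0) ∈ _ by rw [if_neg hi]; exact zero_mem _)
        · intro h; exact absurd (Finset.mem_range.2 (by omega)) h
      · refine ⟨mon_mem_rees hx', fun _ => 0, fun n => zero_mem _, ?_⟩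
        rw [Finset.sum_eq_zero fun n _ => cls_eq_zero _ (zero_mem _)]
        have := filt_anti P (show d + 1 ≤ n by omega) hx'
        rw [hd, AddSubgroup.mem_bot] at this
        subst this
        exact cls_eq_zero hx' (zero_mem _)
    | zero => exact hzero
    | add a b _ _ ha hb =>
      obtain ⟨hqa, c, hc, hca⟩ := ha
      obtain ⟨hqb, c', hc', hcb⟩ := hb
      refine ⟨add_mem hqa hqb, fun n => c n + c' n, fun n => add_mem (hc n) (hc' n), ?_⟩
      rw [show (⟨a + b, add_mem hqa hqb⟩ : KGr.rees P) = ⟨a, hqa⟩ + ⟨b, hqb⟩ from rfl, map_add, hca, hcb,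
        ← Finset.sum_add_distrib]
      exact Finset.sum_congr rfl fun n _ => (cls_add (hc n) (hc' n)).symm
    | neg a _ ha =>
      obtain ⟨hqa, c, hc, hca⟩ := ha
      refine ⟨neg_mem hqa, fun n => -c n, fun n => neg_mem (hc n), ?_⟩
      rw [show (⟨-a, neg_mem hqa⟩ : KGr.rees P) = -⟨a, hqa⟩ from rfl, map_neg, hca, ← Finset.sum_neg_distrib]
      refine Finset.sum_congr rfl fun n _ => neg_eq_of_add_eq_zero_right ?_
      rw [← cls_add (hc n) (neg_mem (hc n))]
      exact cls_eq_zero _ (by rw [add_neg_cancel]; exact zero_mem _)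
  induction w using TensorProduct.induction_on with
  | zero =>
    refine ⟨1, fun _ => 0, fun n => zero_mem _, le_rfl, ?_⟩
    rw [smul_zero, Finset.sum_eq_zero fun n _ => ?_]
    rw [cls_eq_zero _ (zero_mem _), TensorProduct.tmul_zero]
  | tmul q z =>
    obtain ⟨c, hc, rfl⟩ := hz z
    refine ⟨q.den, fun n => (q.num : K) * c n, fun n => filt_ideal P _ (hc n), q.den_pos, ?_⟩
    rw [TensorProduct.smul_tmul', smul_eq_mul, mul_comm, Rat.mul_den_eq_num, ← zsmul_one, ← TensorProduct.smul_tmul',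
      TensorProduct.tmul_sum, Finset.smul_sum]
    refine Finset.sum_congr rfl fun n _ => ?_
    rw [← TensorProduct.tmul_smul]
    congr 1
    exact zsmul_cls _ (hc n)
  | add a b ha hb =>
    obtain ⟨N, c, hc, hN, hca⟩ := ha
    obtain ⟨M, c', hc', hM, hcb⟩ := hb
    refine ⟨N * M, fun n => (M : K) * c n + (N : K) * c' n, fun n => add_mem (filt_ideal P _ (hc n)) (filt_ideal P _ (hc' n)),
      Nat.one_le_iff_ne_zero.2 (Nat.mul_ne_zero (by omega) (by omega)), ?_⟩
    rw [smul_add, Nat.cast_mul, mul_comm (N : ℚ), ← smul_smul, hca, mul_comm (M : ℚ), ← smul_smul, hcb, Finset.smul_sum,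
      Finset.smul_sum, ← Finset.sum_add_distrib]
    refine Finset.sum_congr rfl fun n _ => ?_
    rw [cls_add (filt_ideal P _ (hc n)) (filt_ideal P _ (hc' n)), TensorProduct.tmul_add, Nat.cast_smul_eq_nsmul,
      Nat.cast_smul_eq_nsmul, ← TensorProduct.tmul_smul, ← TensorProduct.tmul_smul]
    congr 2
    · exact nsmul_cls _ _
    · exact nsmul_cls _ _

theorem grVal_bijective : Function.Bijective (grVal hK hd) := by
  constructor
  · rw [injective_iff_map_eq_zero]
    intro w hw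
    obtain ⟨N, c, hc, hN, hwc⟩ := exists_expansion (P := P) hd w
    have h0 : ∑ n ∈ range (d + 1), proj hK d n ((1 : ℚ) ⊗ₜ[ℤ] c n) = 0 := by
      have := congrArg (grVal hK hd) hwc
      rw [map_smul, hw, smul_zero, map_sum] at this
      simpa [grVal_cls] using this.symm
    have hterm : ∀ n ∈ range (d + 1), (1 : ℚ) ⊗ₜ[ℤ] cls (hc n) = 0 := by
      intro n hn
      have h1 := congrArg (proj hK d n) h0
      rw [map_sum, map_zero, Finset.sum_eq_single n, proj_of_mem hK hd (proj_mem hK hd n _)] at h1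
      · have h2 := sub_proj_mem hK hd (qFilt_mem_tmul (1 : ℚ) (hc n))
        rw [h1, sub_zero] at h2
        obtain ⟨M, y, hM, hy, hMy⟩ := exists_num_den h2
        obtain ⟨M', hM', hM''⟩ := exists_torsion (x := (M : K) * c n - y) (by
          rw [TensorProduct.tmul_sub, ← hMy, ← nsmul_eq_mul, TensorProduct.tmul_smul, Nat.cast_smul_eq_nsmul, sub_self])
        rw [mul_sub, sub_eq_zero] at hM''
        have h3 : ((M' * M : ℕ) : K) * c n ∈ gammaFiltration P (n + 1) := by
          rw [Nat.cast_mul, mul_assoc, hM'']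
          exact filt_ideal P _ hy
        have h4 : (M' * M) • cls (hc n) = 0 := by
          rw [nsmul_cls]
          exact cls_eq_zero _ h3
        have h5 : ((M' * M : ℕ) : ℚ) • ((1 : ℚ) ⊗ₜ[ℤ] cls (hc n)) = 0 := by
          rw [Nat.cast_smul_eq_nsmul, ← TensorProduct.tmul_smul, h4, TensorProduct.tmul_zero]
        exact (smul_eq_zero.1 h5).resolve_left (by exact_mod_cast Nat.mul_ne_zero (by omega) (by omega))
      · intro i hi hne
        rw [Finset.mem_range] at hi
        rw [proj_eigen hK (by omega) (proj_mem hK hd i _), if_neg hne.symm]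
      · intro h; exact absurd hn h
    rw [Finset.sum_eq_zero hterm] at hwc
    exact (smul_eq_zero.1 hwc).resolve_left (by exact_mod_cast (show N ≠ 0 by omega))
  · intro v
    suffices H : ∀ n, ∃ w, grVal hK hd w = proj hK d n v by
      choose w hw using H
      exact ⟨∑ n ∈ range (d + 1), w n, by rw [map_sum, Finset.sum_congr rfl fun n _ => hw n, sum_proj hK hd]⟩
    intro n
    obtain ⟨N, y, hN, hy, hNy⟩ := exists_num_den (V_le hK n (proj_mem hK hd n v))
    refine ⟨(N : ℚ)⁻¹ • ((1 : ℚ) ⊗ₜ[ℤ] cls hy), ?_⟩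
    rw [map_smul, grVal_cls, ← hNy, map_smul, proj_of_mem hK hd (proj_mem hK hd n v), inv_smul_smul₀]
    exact_mod_cast (show N ≠ 0 by omega)

end Gr

end Groth.Agent.KRR3
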