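import Groth.Agent.KRR3.Basic

/-! Ample line elements and congruences of Adams operations. -/

set_option autoImplicit false

universe u

namespace Groth.Agent.KRR3

open LambdaRing PowerSeries Finset Groth.Agent.Lambda37

variable {K : Type u} [CommRing K] [LambdaOps K] {P : PosStructure K}

theorem one_sub_pow_eq_zero {v e : K} {m : ℕ} (hv : P.IsLine v) (he : e ∈ P.pos) (h : e = (m : K) - v) :
    (v - 1) ^ m = 0 := by
  have haug : P.aug e = (m : ℤ) - 1 := by rw [h, map_sub, map_natCast, hv.2]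
  have hm : 1 ≤ m := by have := P.aug_pos e he; omega
  have hser : lamSeries e * (1 + PowerSeries.C v * PowerSeries.X) = (1 + PowerSeries.X) ^ m := by
    rw [← lamSeries_eq_linear (line_lam P hv), ← lamSeries_add, h, sub_add_cancel,
      lamSeries_natCast (lam_one_eq_zero P)]
  have hlow : ∀ k ≤ m - 1, LambdaOps.lam k e = ∑ i ∈ range (k + 1), (m.choose i : K) * (-v) ^ (k - i) := by
    intro k
    induction k with
    | zero => simp [LambdaOps.lam_zero]
    | succ k ih =>
      intro hk
      have h1 := congrArg (coeff (k + 1)) hser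
      rw [mul_add, mul_one, map_add, coeff_lamSeries, mul_left_comm, coeff_C_mul, coeff_succ_mul_X, coeff_lamSeries,
        coeff_one_add_X_pow, ih (by omega), Finset.mul_sum] at h1
      rw [eq_sub_of_add_eq h1, Finset.sum_range_succ _ (k + 1), Nat.sub_self, pow_zero, mul_one, sub_eq_iff_eq_add,
        add_right_comm, ← Finset.sum_add_distrib, Finset.sum_eq_zero, zero_add]
      intro i hi
      rw [Finset.mem_range] at hi
      rw [show k + 1 - i = k - i + 1 by omega, pow_succ]; ring
  have h1 := congrArg (coeff m) hser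
  obtain ⟨k, rfl⟩ : ∃ k, m = k + 1 := ⟨m - 1, by omega⟩
  rw [mul_add, mul_one, map_add, coeff_lamSeries, P.lam_eq_zero e he _ (by rw [haug]; omega), zero_add, mul_left_comm,
    coeff_C_mul, coeff_succ_mul_X, coeff_lamSeries, coeff_one_add_X_pow, hlow k (by omega), Nat.choose_self,
    Nat.cast_one] at h1
  have h2 : (1 + -v) ^ (k + 1) = 0 := by
    rw [add_pow, Finset.sum_range_succ, Nat.sub_self, pow_zero, one_pow, mul_one, one_mul, Nat.choose_self, Nat.cast_one]
    simp only [one_pow, one_mul]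
    refine (congrArg (_ + ·) h1.symm).trans ?_
    rw [Finset.mul_sum, ← Finset.sum_add_distrib]
    refine Finset.sum_eq_zero fun i hi => ?_
    rw [Finset.mem_range] at hi
    rw [show k + 1 - i = k - i + 1 by omega, pow_succ]; ring
  rw [show v - 1 = -1 * (1 + -v) by ring, mul_pow, h2, mul_zero]

theorem isNilpotent_line_sub_one {u : K} (hu : KRR.IsAmpleElt P u) {w : K} (hw : P.IsLine w) :
    IsNilpotent (w - 1) := by
  obtain ⟨hul, hu⟩ := hu
  have key : ∀ w, P.IsLine w → ∃ n₀, ∀ n ≥ n₀, IsNilpotent (u ^ n * w - 1) := by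
    intro w hw
    obtain ⟨n₀, h⟩ := hu (-w)
    refine ⟨n₀, fun n hn => ?_⟩
    obtain ⟨e, m, he, h⟩ := h n hn
    exact ⟨m, one_sub_pow_eq_zero (isLine_mul P (isLine_pow P hul n) hw) he (by linear_combination -h)⟩
  obtain ⟨a, ha⟩ := key 1 (isLine_one P)
  obtain ⟨b, hb⟩ := key w hw
  have h1 := ha (max a b) (le_max_left _ _)
  have h2 := hb (max a b) (le_max_right _ _)
  rw [mul_one] at h1
  have h3 : IsNilpotent (u ^ max a b * (w - 1)) := by
    rw [show u ^ max a b * (w - 1) = (u ^ max a b * w - 1) - (u ^ max a b - 1) by ring]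
    exact (Commute.all _ _).isNilpotent_sub h2 h1
  obtain ⟨c, hc⟩ := h3
  rw [mul_pow] at hc
  exact ⟨c, (IsUnit.mul_right_eq_zero (((line_isUnit P hul).pow _).pow _)).1 hc⟩

theorem mem_of_adams_congr (hK : HasSplitting K P) {j : ℕ} (hj : 2 ≤ j) {n : ℕ} {x : K}
    (hx : ∃ N : ℕ, 1 ≤ N ∧ (N : K) * (adams P j x - (j : K) ^ n * x) ∈ gammaFiltration P (n + 1)) :
    ∀ i ≤ n, ∃ N : ℕ, 1 ≤ N ∧ (N : K) * x ∈ gammaFiltration P i := by
  obtain ⟨N, hN, hx⟩ := hx
  intro i
  induction i with
  | zero => exact fun _ => ⟨1, le_rfl, mem_filt_zero P _⟩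
  | succ i ih =>
    intro hi
    obtain ⟨N', hN', hx'⟩ := ih (by omega)
    have h := adams_sub_mem hK j i hx'
    rw [← adamsRingHom_apply hK, map_mul, map_natCast, adamsRingHom_apply] at h
    have hlt : j ^ i < j ^ n := Nat.pow_lt_pow_right (by omega) (by omega)
    refine ⟨N * N' * (j ^ n - j ^ i), Nat.one_le_iff_ne_zero.2 ?_, ?_⟩
    · exact Nat.mul_ne_zero (Nat.mul_ne_zero (by omega) (by omega)) (by omega)
    have h1 := filt_anti P (show i + 1 ≤ n + 1 by omega) (filt_ideal P (N' : K) hx)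
    have h2 := sub_mem (filt_ideal P (N : K) h) h1
    rw [show ((N * N' * (j ^ n - j ^ i) : ℕ) : K) * x = (N : K) * ((N' : K) * adams P j x - (j : K) ^ i * ((N' : K) * x)) -
      (N' : K) * ((N : K) * (adams P j x - (j : K) ^ n * x)) by
        rw [Nat.cast_mul, Nat.cast_mul, Nat.cast_sub hlt.le, Nat.cast_pow, Nat.cast_pow]; ring]
    exact h2

end Groth.Agent.KRR3
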