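import Groth.Prelude.Def_KGr
import Groth.Agent.KRR3.Det
import Groth.Agent.Lambda37.Sym
import Mathlib.RingTheory.MvPolynomial.Ideal

/-! Universal polynomials of the Chern character and the Todd class. -/

set_option autoImplicit false
set_option linter.style.haveILetI false

universe u v

namespace Groth.Agent.KRR3

open MvPolynomial Finset Groth.Agent.Lambda37

/-- A multiplicative decreasing filtration of an algebra. -/
structure WFilt {S : Type u} [CommRing S] [Algebra ℚ S] (W : ℕ → Submodule ℚ S) : Prop where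
  zero : W 0 = ⊤
  anti : ∀ {a b : ℕ}, a ≤ b → W b ≤ W a
  mul : ∀ {a b : ℕ} {x y : S}, x ∈ W a → y ∈ W b → x * y ∈ W (a + b)

theorem WFilt.prod_mem {S : Type u} [CommRing S] [Algebra ℚ S] {W : ℕ → Submodule ℚ S} (hW : WFilt W)
    {ι : Type*} (t : Finset ι) (g : ι → S) (w : ι → ℕ) (h : ∀ i ∈ t, g i ∈ W (w i)) :
    ∏ i ∈ t, g i ∈ W (∑ i ∈ t, w i) := by
  classical
  induction t using Finset.induction with
  | empty => rw [Finset.prod_empty, Finset.sum_empty, hW.zero]; trivial
  | insert a t ha ih =>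
    rw [Finset.prod_insert ha, Finset.sum_insert ha]
    exact hW.mul (h a (Finset.mem_insert_self _ _)) (ih fun i hi => h i (Finset.mem_insert_of_mem hi))

theorem WFilt.pow_mem {S : Type u} [CommRing S] [Algebra ℚ S] {W : ℕ → Submodule ℚ S} (hW : WFilt W)
    {a : ℕ} {x : S} (h : x ∈ W a) (k : ℕ) : x ^ k ∈ W (k * a) := by
  have := hW.prod_mem (Finset.range k) (fun _ => x) (fun _ => a) (fun _ _ => h)
  simpa using this

/-- A symmetric polynomial of order at least `r` evaluates, uniformly in all splittings, to an element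
of the `r`-th step. -/
theorem exists_eval_symm {S₀ : Type u} [CommRing S₀] [Algebra ℚ S₀]
    {W : ℕ → Submodule ℚ S₀} (hW : WFilt W) {m : ℕ} (c : ℕ → S₀) (hc : ∀ k, c (k + 1) ∈ W (k + 1))
    {p : MvPolynomial (Fin m) ℚ} (hp : p.IsSymmetric) {r : ℕ} (hr : p ∈ idealOfVars (Fin m) ℚ ^ r) :
    ∃ x ∈ W r, ∀ (S : Type u) [CommRing S] [Algebra ℚ S] (F : S₀ →ₐ[ℚ] S) (Y : Fin m → S),
      (∀ k, F (c (k + 1)) = ((univ : Finset (Fin m)).val.map Y).esymm (k + 1)) → F x = aeval Y p := by
  classical
  obtain ⟨q, hq, hw⟩ := exists_esymm_weight_ge hp r fun μ hμ => by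
    ext d
    rw [coeff_weightedHomogeneousComponent, coeff_zero]
    split_ifs with hd
    · refine (mem_pow_idealOfVars_iff' r p).1 hr d ?_
      rw [Finsupp.degree_eq_weight_one]
      exact hd ▸ hμ
    · rfl
  refine ⟨aeval (fun k : Fin m => c ((k : ℕ) + 1)) q, ?_, ?_⟩
  · rw [q.as_sum, map_sum]
    refine sum_mem fun d hd => ?_
    rw [aeval_monomial, ← Algebra.smul_def]
    refine Submodule.smul_mem _ _ (hW.anti (hw d hd) ?_)
    rw [Finsupp.weight_apply, Finsupp.prod, Finsupp.sum]
    simp only [smul_eq_mul]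
    exact hW.prod_mem _ _ _ fun i _ => hW.pow_mem (hc i) _
  · intro S _ _ F Y hF
    rw [← hq, ← AlgHom.comp_apply, ← AlgHom.comp_apply, comp_aeval, comp_aeval]
    simp only [hF, eVec, aeval_esymm_eq_multiset_esymm]

section DLog

open PowerSeries

variable {R : Type u} [CommRing R]

/-- The logarithmic derivative of a series with constant term one. -/
noncomputable def dlog (s : R⟦X⟧) : R⟦X⟧ := PowerSeries.derivative R s * s.invOfUnit 1

/-- The signed coefficients of the logarithmic derivative (power sums). -/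
noncomputable def dlc (s : R⟦X⟧) (j : ℕ) : R := (-1) ^ (j - 1) * PowerSeries.coeff (j - 1) (dlog s)

theorem dlog_mul {s t : R⟦X⟧} (hs : PowerSeries.constantCoeff s = 1) (ht : PowerSeries.constantCoeff t = 1) :
    dlog (s * t) = dlog s + dlog t := by
  have hst : PowerSeries.constantCoeff (s * t) = ((1 : Rˣ) : R) := by rw [map_mul, hs, ht, mul_one, Units.val_one]
  have hinv : (s * t).invOfUnit 1 = s.invOfUnit 1 * t.invOfUnit 1 := by
    refine left_inv_eq_right_inv (a := s * t) (invOfUnit_mul _ _ hst) ?_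
    rw [mul_mul_mul_comm, mul_invOfUnit _ _ hs, mul_invOfUnit _ _ ht, one_mul]
  rw [dlog, dlog, dlog, hinv, Derivation.leibniz, smul_eq_mul, smul_eq_mul]
  linear_combination (PowerSeries.derivative R t * t.invOfUnit 1) * mul_invOfUnit s 1 hs +
    (PowerSeries.derivative R s * s.invOfUnit 1) * mul_invOfUnit t 1 ht

theorem dlc_mul {s t : R⟦X⟧} (hs : PowerSeries.constantCoeff s = 1) (ht : PowerSeries.constantCoeff t = 1) (j : ℕ) :
    dlc (s * t) j = dlc s j + dlc t j := by rw [dlc, dlc, dlc, dlog_mul hs ht, map_add, mul_add]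

theorem dlc_congr {s t : R⟦X⟧} (hs : PowerSeries.constantCoeff s = 1) (ht : PowerSeries.constantCoeff t = 1) {j : ℕ}
    (hj : 1 ≤ j) (h : ∀ k ≤ j, PowerSeries.coeff k s = PowerSeries.coeff k t) : dlc s j = dlc t j := by
  obtain ⟨n, rfl⟩ : ∃ n, j = n + 1 := ⟨j - 1, by omega⟩
  rw [dlc, dlc, Nat.add_sub_cancel]
  congr 1
  rw [← sub_eq_zero, ← map_sub]
  obtain ⟨g, hg⟩ : (PowerSeries.X : R⟦X⟧) ^ (n + 2) ∣ s - t :=
    PowerSeries.X_pow_dvd_iff.2 fun k hk => by rw [map_sub, h k (by omega), sub_self]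
  have hd : PowerSeries.derivative R s = PowerSeries.derivative R t +
      (PowerSeries.X ^ (n + 1) * (((n + 2 : ℕ) : R⟦X⟧) * g + PowerSeries.X * PowerSeries.derivative R g)) := by
    rw [show s = t + PowerSeries.X ^ (n + 2) * g by rw [← hg]; ring, map_add, Derivation.leibniz,
      Derivation.leibniz_pow, PowerSeries.derivative_X]
    simp only [smul_eq_mul, nsmul_eq_mul, Nat.add_sub_cancel_right]
    rw [show n + 2 - 1 = n + 1 by omega]
    ring
  have hi : s.invOfUnit 1 = t.invOfUnit 1 - PowerSeries.X ^ (n + 2) * g * s.invOfUnit 1 * t.invOfUnit 1 := by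
    linear_combination (t.invOfUnit 1) * invOfUnit_mul s 1 hs - (s.invOfUnit 1) * mul_invOfUnit t 1 ht -
      (s.invOfUnit 1 * t.invOfUnit 1) * hg
  have : (PowerSeries.X : R⟦X⟧) ^ (n + 1) ∣ dlog s - dlog t := by
    refine ⟨(((n + 2 : ℕ) : R⟦X⟧) * g + PowerSeries.X * PowerSeries.derivative R g) * s.invOfUnit 1 -
      PowerSeries.derivative R t * PowerSeries.X * g * s.invOfUnit 1 * t.invOfUnit 1, ?_⟩
    rw [dlog, dlog, hd]
    conv_lhs => arg 1; rw [add_mul]; arg 1; rw [hi]
    rw [show n + 2 = n + 1 + 1 from rfl, pow_succ _ (n + 1)]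
    ring
  exact PowerSeries.X_pow_dvd_iff.1 this n (by omega)

theorem map_dlc {R' : Type v} [CommRing R'] (φ : R →+* R') {s : R⟦X⟧} (hs : PowerSeries.constantCoeff s = 1) (j : ℕ) :
    φ (dlc s j) = dlc (PowerSeries.map φ s) j := by
  have hs' : PowerSeries.constantCoeff (PowerSeries.map φ s) = ((1 : R'ˣ) : R') := by
    rw [← PowerSeries.coeff_zero_eq_constantCoeff_apply, PowerSeries.coeff_map, PowerSeries.coeff_zero_eq_constantCoeff_apply, hs,
      map_one, Units.val_one]
  have hinv : PowerSeries.map φ (s.invOfUnit 1) = (PowerSeries.map φ s).invOfUnit 1 :=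
    left_inv_eq_right_inv (a := PowerSeries.map φ s) (by rw [← map_mul, invOfUnit_mul s 1 hs, map_one])
      (mul_invOfUnit _ _ hs')
  have hder : PowerSeries.map φ (PowerSeries.derivative R s) = PowerSeries.derivative R' (PowerSeries.map φ s) := by
    ext n; simp [PowerSeries.coeff_derivative]
  rw [dlc, dlc, map_mul, map_pow, map_neg, map_one, ← PowerSeries.coeff_map, dlog, dlog, map_mul, hinv, hder]

theorem dlc_one (j : ℕ) : dlc (1 : R⟦X⟧) j = 0 := by
  rw [dlc, dlog, Derivation.map_one_eq_zero, zero_mul, map_zero, mul_zero]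

theorem dlc_linear (a : R) {j : ℕ} (hj : 1 ≤ j) : dlc (1 + PowerSeries.C a * PowerSeries.X) j = a ^ j := by
  obtain ⟨n, rfl⟩ : ∃ n, j = n + 1 := ⟨j - 1, by omega⟩
  have hc : PowerSeries.constantCoeff (1 + PowerSeries.C a * PowerSeries.X) = ((1 : Rˣ) : R) := by simp
  have hinv : (1 + PowerSeries.C a * PowerSeries.X).invOfUnit 1 = PowerSeries.mk fun k => (-a) ^ k := by
    refine left_inv_eq_right_inv (a := 1 + PowerSeries.C a * PowerSeries.X) (invOfUnit_mul _ _ hc) ?_
    ext k
    rw [add_mul, one_mul, map_add, mul_assoc, PowerSeries.coeff_C_mul]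
    rcases k with _ | k
    · simp
    · rw [PowerSeries.coeff_succ_X_mul, PowerSeries.coeff_mk, PowerSeries.coeff_mk, PowerSeries.coeff_one,
        if_neg (Nat.succ_ne_zero k), pow_succ]
      ring
  have hD : PowerSeries.derivative R (1 + PowerSeries.C a * PowerSeries.X) = PowerSeries.C a := by
    rw [map_add, Derivation.map_one_eq_zero, Derivation.leibniz, PowerSeries.derivative_X, PowerSeries.derivative_C]
    simp
  rw [dlc, dlog, hinv, hD, Nat.add_sub_cancel, PowerSeries.coeff_C_mul, PowerSeries.coeff_mk, ← mul_assoc,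
    mul_comm ((-1 : R) ^ n) a, mul_assoc, ← mul_pow, neg_one_mul, neg_neg, pow_succ']

theorem dlc_mprod (M : Multiset R) {j : ℕ} (hj : 1 ≤ j) :
    dlc ((M.map fun a => 1 + PowerSeries.C a * PowerSeries.X).prod) j = (M.map (· ^ j)).sum := by
  induction M using Multiset.induction with
  | empty => simp [dlc_one]
  | cons a M ih =>
    have hM : PowerSeries.constantCoeff ((M.map fun a => 1 + PowerSeries.C a * PowerSeries.X).prod) = 1 := by
      rw [map_multiset_prod, Multiset.map_map]
      exact Multiset.prod_eq_one fun v hv => by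
        obtain ⟨b, -, rfl⟩ := Multiset.mem_map.1 hv
        simp
    rw [Multiset.map_cons, Multiset.prod_cons, dlc_mul (by simp) hM, dlc_linear a hj, ih, Multiset.map_cons,
      Multiset.sum_cons]

end DLog

/-- The generic series of degree `d`. -/
noncomputable def genSeries (d : ℕ) : PowerSeries (MvPolynomial (Fin d) ℚ) :=
  PowerSeries.mk fun k => if k = 0 then 1 else if h : k - 1 < d then MvPolynomial.X ⟨k - 1, h⟩ else 0

theorem map_genSeries {d : ℕ} {S : Type u} [CommRing S] [Algebra ℚ S] (v : ℕ → S) :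
    PowerSeries.map (aeval (fun i : Fin d => v (i.1 + 1))).toRingHom (genSeries d) =
      PowerSeries.mk fun k => if k = 0 then 1 else if k ≤ d then v k else 0 := by
  ext k
  rw [PowerSeries.coeff_map, genSeries, PowerSeries.coeff_mk, PowerSeries.coeff_mk]
  rcases k with _ | k
  · simp
  · rw [if_neg (Nat.succ_ne_zero k), if_neg (Nat.succ_ne_zero k)]
    by_cases h : k < d
    · rw [dif_pos (by simpa using h), if_pos (by omega)]; simp
    · rw [dif_neg (by simpa using h), if_neg (by omega), map_zero]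

theorem constantCoeff_genSeries (d : ℕ) : PowerSeries.constantCoeff (genSeries d) = 1 := by
  rw [← PowerSeries.coeff_zero_eq_constantCoeff_apply, genSeries, PowerSeries.coeff_mk, if_pos rfl]

theorem esymm_univ_map {d : ℕ} (k : ℕ) :
    ((univ : Finset (Fin d)).val.map (MvPolynomial.X : Fin d → MvPolynomial (Fin d) ℚ)).esymm k = esymm (Fin d) ℚ k := by
  rw [← aeval_esymm_eq_multiset_esymm (Fin d) ℚ k, aeval_X_left_apply]

theorem chPoly_eq (d : ℕ) : KGr.chPoly d =
    MvPolynomial.C (d : ℚ) + ∑ j ∈ range d, MvPolynomial.C (1 / ((j + 1).factorial : ℚ)) * dlc (genSeries d) (j + 1) := by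
  refine aeval_eVec_injective ?_
  have h1 : aeval (eVec ℚ d) (KGr.chPoly d) =
      ∑ i : Fin d, Polynomial.aeval (MvPolynomial.X i : MvPolynomial (Fin d) ℚ) (KGr.expTrunc d) := by
    have h := aeval_symm (S := MvPolynomial (Fin d) ℚ)
      ⟨_, KGr.isSymmetric_sum_aeval d (KGr.expTrunc d)⟩ MvPolynomial.X
    rw [aeval_X_left_apply] at h
    simp only [esymm_univ_map] at h
    exact h
  have hser : PowerSeries.map (aeval (eVec ℚ d)).toRingHom (genSeries d) =
      (((univ : Finset (Fin d)).val.map (MvPolynomial.X : Fin d → MvPolynomial (Fin d) ℚ)).map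
        fun a => 1 + PowerSeries.C a * PowerSeries.X).prod := by
    rw [show eVec ℚ d = fun i : Fin d => esymm (Fin d) ℚ (i.1 + 1) from rfl, map_genSeries]
    ext1 k
    rw [PowerSeries.coeff_mk, coeff_mprod_linear, esymm_univ_map]
    rcases k with _ | k
    · simp
    · rw [if_neg (Nat.succ_ne_zero k)]
      split_ifs with h
      · rfl
      · rw [← esymm_univ_map, esymm_of_lt _ (by simpa using h)]
  rw [h1, map_add, aeval_C, map_sum]
  simp only [map_mul, aeval_C]
  have hN : ∀ j, aeval (eVec ℚ d) (dlc (genSeries d) (j + 1)) = ∑ i : Fin d, (MvPolynomial.X i) ^ (j + 1) := fun j => by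
    show (aeval (eVec ℚ d)).toRingHom _ = _
    rw [map_dlc _ (constantCoeff_genSeries d), hser, dlc_mprod _ (Nat.le_add_left 1 j), Multiset.map_map]
    rfl
  simp only [hN, KGr.expTrunc, map_sum, map_mul, Polynomial.aeval_C, map_pow, Polynomial.aeval_X, Finset.mul_sum]
  rw [Finset.sum_comm, Finset.sum_range_succ', add_comm]
  congr 1
  simp

/-- The Chern character polynomial evaluated on the coefficients of a series. -/
theorem aeval_chPoly {S : Type u} [CommRing S] [Algebra ℚ S] {d : ℕ} {s : PowerSeries S}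
    (hs : PowerSeries.constantCoeff s = 1) :
    aeval (fun i : Fin d => PowerSeries.coeff (i.1 + 1) s) (KGr.chPoly d) =
      (d : S) + ∑ j ∈ range d, algebraMap ℚ S (1 / ((j + 1).factorial : ℚ)) * dlc s (j + 1) := by
  rw [chPoly_eq, map_add, aeval_C, map_natCast, map_sum]
  congr 1
  refine Finset.sum_congr rfl fun j hj => ?_
  rw [map_mul, aeval_C]
  congr 1
  show (aeval (fun i : Fin d => PowerSeries.coeff (i.1 + 1) s)).toRingHom _ = _
  rw [map_dlc _ (constantCoeff_genSeries d), map_genSeries (fun k => PowerSeries.coeff k s)]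
  refine dlc_congr ?_ hs (Nat.le_add_left 1 j) fun k hk => ?_
  · rw [← PowerSeries.coeff_zero_eq_constantCoeff_apply, PowerSeries.coeff_mk, if_pos rfl]
  rw [PowerSeries.coeff_mk]
  rcases k with _ | k
  · rw [if_pos rfl, PowerSeries.coeff_zero_eq_constantCoeff_apply, hs]
  · rw [if_neg (Nat.succ_ne_zero k), if_pos (by rw [Finset.mem_range] at hj; omega)]

theorem esymm_cons_zero {S : Type u} [CommRing S] (M : Multiset S) (k : ℕ) : ((0 : S) ::ₘ M).esymm k = M.esymm k := by
  rcases k with _ | k
  · simp [esymm_zero']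
  · simp [esymm_cons]

theorem esymm_replicate_zero {S : Type u} [CommRing S] (M : Multiset S) (n k : ℕ) :
    (Multiset.replicate n (0 : S) + M).esymm k = M.esymm k := by
  induction n with
  | zero => simp
  | succ n ih => rw [Multiset.replicate_succ, Multiset.cons_add, esymm_cons_zero, ih]

/-- A product of values of `q` is the universal polynomial in the first `d` elementary functions when
the higher ones vanish. -/
theorem prod_eval_eq {S : Type u} [CommRing S] [Algebra ℚ S] (q : Polynomial ℚ) (hq : q.eval 0 = 1) {d : ℕ}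
    (M : Multiset S) (hM : ∀ k, d < k → M.esymm k = 0) :
    (M.map fun l => Polynomial.aeval l q).prod = aeval (fun i : Fin d => M.esymm (i.1 + 1))
      ((esymmAlgEquiv (Fin d) ℚ (Fintype.card_fin d)).symm
        ⟨∏ i : Fin d, Polynomial.aeval (MvPolynomial.X i) q, KGr.isSymmetric_prod_aeval d q⟩) := by
  have hq0 : ∀ {T : Type u} [CommRing T] [Algebra ℚ T], Polynomial.aeval (0 : T) q = 1 := by
    intro T _ _
    rw [← map_zero (algebraMap ℚ T), Polynomial.aeval_algebraMap_apply, Polynomial.coe_aeval_eq_eval, hq, map_one]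
  set n := max d (Multiset.card M) with hn
  set M' := Multiset.replicate (n - Multiset.card M) (0 : S) + M with hM'
  have hprod : (M.map fun l => Polynomial.aeval l q).prod = (M'.map fun l => Polynomial.aeval l q).prod := by
    rw [hM', Multiset.map_add, Multiset.prod_add, Multiset.map_replicate, hq0, Multiset.prod_replicate, one_pow, one_mul]
  obtain ⟨U, hU⟩ := exists_enum M' (m := n) (by rw [hM', Multiset.card_add, Multiset.card_replicate]; omega)
  set Q := (esymmAlgEquiv (Fin n) ℚ (Fintype.card_fin n)).symm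
        ⟨∏ i : Fin n, Polynomial.aeval (MvPolynomial.X i) q, KGr.isSymmetric_prod_aeval n q⟩ with hQ
  have hQv : ∀ {T : Type u} [CommRing T] [Algebra ℚ T] (V : Fin n → T),
      aeval (fun i : Fin n => ((univ : Finset (Fin n)).val.map V).esymm (i.1 + 1)) Q = ∏ i, Polynomial.aeval (V i) q := by
    intro T _ _ V
    rw [hQ, aeval_symm]
    simp [← Polynomial.aeval_algHom_apply]
  let ρ : MvPolynomial (Fin n) ℚ →ₐ[ℚ] MvPolynomial (Fin d) ℚ :=
    aeval fun i : Fin n => if h : i.1 < d then MvPolynomial.X ⟨i.1, h⟩ else 0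
  have hρ : ρ Q = (esymmAlgEquiv (Fin d) ℚ (Fintype.card_fin d)).symm
        ⟨∏ i : Fin d, Polynomial.aeval (MvPolynomial.X i) q, KGr.isSymmetric_prod_aeval d q⟩ := by
    refine aeval_eVec_injective ?_
    have h1 := aeval_symm (S := MvPolynomial (Fin d) ℚ) ⟨_, KGr.isSymmetric_prod_aeval d q⟩ MvPolynomial.X
    rw [aeval_X_left_apply] at h1
    simp only [esymm_univ_map] at h1
    show _ = aeval (fun i : Fin d => esymm (Fin d) ℚ (i.1 + 1)) _
    rw [h1]
    obtain ⟨V, hV⟩ := exists_enum (Multiset.replicate (n - d) (0 : ULift.{u} (MvPolynomial (Fin d) ℚ)) +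
      (univ : Finset (Fin d)).val.map fun i => ULift.up (MvPolynomial.X i)) (m := n) (by
        rw [Multiset.card_add, Multiset.card_replicate, Multiset.card_map, card_val, card_fin]; omega)
    let up : MvPolynomial (Fin d) ℚ →ₐ[ℚ] ULift.{u} (MvPolynomial (Fin d) ℚ) := ULift.algEquiv.symm.toAlgHom
    have hup : Function.Injective up := ULift.algEquiv.symm.injective
    apply hup
    rw [← AlgHom.comp_apply, ← AlgHom.comp_apply, comp_aeval, comp_aeval, map_prod]
    have e : (fun i : Fin n => (aeval fun j => up (eVec ℚ d j)) ((if h : i.1 < d then MvPolynomial.X ⟨i.1, h⟩ else 0 : MvPolynomial (Fin d) ℚ))) =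
        fun i : Fin n => ((univ : Finset (Fin n)).val.map V).esymm (i.1 + 1) := by
      funext i
      rw [hV, esymm_replicate_zero]
      by_cases h : i.1 < d
      · rw [dif_pos h, aeval_X]
        show up (esymm (Fin d) ℚ (i.1 + 1)) = _
        rw [← aeval_esymm_eq_multiset_esymm (Fin d) ℚ (i.1 + 1) (fun j : Fin d => ULift.up.{u} (MvPolynomial.X j : MvPolynomial (Fin d) ℚ))]
        conv_lhs => rw [← aeval_X_left_apply (R := ℚ) (esymm (Fin d) ℚ (i.1 + 1)), ← AlgHom.comp_apply, comp_aeval]
        rfl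
      · rw [dif_neg h, map_zero, esymm_of_lt]
        rw [Multiset.card_map, card_val, card_fin]; omega
    show aeval _ Q = _
    rw [e, hQv V]
    have h2 : ((univ : Finset (Fin n)).val.map fun i => Polynomial.aeval (V i) q).prod =
        (((univ : Finset (Fin n)).val.map V).map fun l => Polynomial.aeval l q).prod := by rw [Multiset.map_map]; rfl
    refine h2.trans ?_
    rw [hV, Multiset.map_add, Multiset.prod_add, Multiset.map_replicate, hq0, Multiset.prod_replicate, one_pow, one_mul,
      Multiset.map_map]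
    exact congrArg Multiset.prod (Multiset.map_congr rfl fun i _ => Polynomial.aeval_algHom_apply up _ q)
  rw [← hρ, ← AlgHom.comp_apply, comp_aeval, hprod, ← hU, Multiset.map_map]
  have h3 := hQv U
  rw [hU] at h3
  show ∏ i, Polynomial.aeval (U i) q = _
  rw [← h3]
  congr 2
  funext i
  rw [hM', esymm_replicate_zero]
  by_cases h : i.1 < d
  · rw [dif_pos h, aeval_X]
  · rw [dif_neg h, map_zero, hM _ (by omega)]

theorem toddTrunc_eval (d : ℕ) : (KGr.toddTrunc d).eval 0 = 1 := by
  rw [KGr.toddTrunc, Polynomial.eval_finset_sum, Finset.sum_eq_single 0]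
  · simp
  · intro k _ hk; simp [zero_pow hk]
  · simp

end Groth.Agent.KRR3
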